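import Cfsg.Agent.Lib.SEMain.Main
import Cfsg.Agent.Lib.SEMain.KernelTrans
import Cfsg.Agent.Lib.SEMain.MaxThree

/-!
# Commutation in the weak situation: shapes of the parts of the proof

The shapes exchanged between the parts of the proof of `WeakComm` (`tools/bender/COMMUTE_helper20.md`).
`base` is the coset `H`, `b` another point and `pairStab base b` their stabiliser.
-/

set_option autoImplicit false
set_option linter.style.haveILetI false
set_option linter.unusedSectionVars false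

namespace Cfsg.Agent.SEMain.Commute

open Subgroup MulAction

universe u

variable {G : Type u} [Group G] [Finite G] {H : Subgroup G}

/-- The standing hypotheses. -/
structure Hyp (H : Subgroup G) : Prop where
  setting : Setting H
  two : TwoTrans H
  weak : SETrans.Weak G (G ⧸ H) ((1 : G) : G ⧸ H)

/-- The base point. -/
abbrev base (H : Subgroup G) : G ⧸ H := ((1 : G) : G ⧸ H)

/-- The subgroup generated by the elements of 2-power order of `H`. -/
def twoGen (H : Subgroup G) : Subgroup G :=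
  Subgroup.closure {x : G | x ∈ H ∧ ∃ n : ℕ, x ^ 2 ^ n = 1}

theorem twoGen_le (H : Subgroup G) : twoGen H ≤ H := (closure_le _).2 fun _ hx => hx.1

theorem mem_twoGen {x : G} (hx : x ∈ H) {n : ℕ} (h : x ^ 2 ^ n = 1) : x ∈ twoGen H :=
  subset_closure ⟨hx, n, h⟩

theorem invol_mem_twoGen {x : G} (hx : x ∈ H) (h : orderOf x = 2) : x ∈ twoGen H :=
  mem_twoGen hx (n := 1) (by rw [pow_one, ← h, pow_orderOf_eq_one])

theorem le_normalizer_twoGen (H : Subgroup G) : H ≤ normalizer (twoGen H : Set G) := fun h hh => by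
  refine SEBrick.mem_normalizer_of fun x hx => ?_
  have hle : (twoGen H).map (MulAut.conj h).toMonoidHom ≤ twoGen H := by
    rw [twoGen, MonoidHom.map_closure]
    refine closure_mono ?_
    rintro _ ⟨y, ⟨hy, n, hn⟩, rfl⟩
    exact ⟨mul_mem (mul_mem hh hy) (inv_mem hh), n, by rw [← map_pow, hn, map_one]⟩
  exact hle ⟨x, hx, rfl⟩

/-- The part of the two-point stabiliser in `twoGen H`. -/
def dZero (H : Subgroup G) (b : G ⧸ H) : Subgroup G := twoGen H ⊓ pairStab (base H) b

/-- The elements of `D` inverted by `u`. -/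
def invertedSet (D : Subgroup G) (u : G) : Set G := {k | k ∈ D ∧ u * k * u⁻¹ = k⁻¹}

/-- The subgroup `[D, u]`, generated by the inverted elements. -/
def invertedGen (D : Subgroup G) (u : G) : Subgroup G := Subgroup.closure (invertedSet D u)

/-- A four-group at `p` centralising `Y`. -/
def RankTwoAt (Y : Subgroup G) (p : G ⧸ H) : Prop :=
  ∃ E : Subgroup G, SEBrick.IsFour E ∧ E ≤ stabilizer G p ⊓ centralizer (Y : Set G)

/-- A non-trivial subgroup of odd prime power order fixing three points. -/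
structure Three (H : Subgroup G) (l : ℕ) (Y : Subgroup G) : Prop where
  prime : l.Prime
  ne_two : l ≠ 2
  pgroup : IsPGroup l Y
  ne_bot : Y ≠ ⊥
  three : FixesThree H Y

/-- Section 1: three-point `l`-groups. -/
structure ThreePoint (H : Subgroup G) : Prop where
  /-- an involution at every fixed point centralises `Y` -/
  centre : ∀ (l : ℕ) (Y : Subgroup G) (p : G ⧸ H), Three H l Y → Y ≤ stabilizer G p →
    ∃ w : G, orderOf w = 2 ∧ w • p = p ∧ w ∈ centralizer (Y : Set G)
  /-- every pair of fixed points is swapped in the centraliser -/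
  swap : ∀ (l : ℕ) (Y : Subgroup G) (p q : G ⧸ H), Three H l Y → Y ≤ pairStab p q → p ≠ q →
    ∃ w : G, orderOf w = 2 ∧ w • p = q ∧ w ∈ centralizer (Y : Set G)
  /-- rank one: an `s`-group normalising `Y` and fixing two of its points fixes a third -/
  third : ∀ (l : ℕ) (Y : Subgroup G) (p q : G ⧸ H), Three H l Y → Y ≤ pairStab p q → p ≠ q →
    ¬ RankTwoAt Y p → ∀ (s : ℕ) (S : Subgroup G), s.Prime → IsPGroup s S →
      S ≤ normalizer (Y : Set G) ⊓ pairStab p q →
      ∃ f : G ⧸ H, f ≠ p ∧ f ≠ q ∧ Y ⊔ S ≤ stabilizer G f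
  /-- rank two: the involutions at `p` centralising `Y` commute -/
  comm : ∀ (l : ℕ) (Y : Subgroup G) (p : G ⧸ H), Three H l Y → Y ≤ stabilizer G p → RankTwoAt Y p →
    ∀ s t : G, orderOf s = 2 → orderOf t = 2 → s • p = p → t • p = p → s ∈ centralizer (Y : Set G) →
      t ∈ centralizer (Y : Set G) → s * t = t * s
  /-- rank two: a 2-group centralising `Y`, regular on the other fixed points, canonical -/
  regular : ∀ (l : ℕ) (Y : Subgroup G) (p : G ⧸ H), Three H l Y → Y ≤ stabilizer G p → RankTwoAt Y p →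
    ∃ Q : Subgroup G, IsPGroup 2 Q ∧ Q ≤ stabilizer G p ⊓ centralizer (Y : Set G) ∧
      stabilizer G p ⊓ normalizer (Y : Set G) ≤ normalizer (Q : Set G) ∧
      ∀ x y : G ⧸ H, x ≠ p → y ≠ p → Y ≤ stabilizer G x → Y ≤ stabilizer G y → ∃! g : G, g ∈ Q ∧ g • x = y

/-- An element at a top prime: fixed-point-free on the inverted elements. -/
structure TopData (H : Subgroup G) (b : G ⧸ H) (r : ℕ) (z : G) : Prop where
  prime : r.Prime
  ne_two : r ≠ 2
  not_dvd : ¬ r ∣ numInv H
  order : orderOf z = r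
  mem : z ∈ dZero H b
  three : FixesThree H (zpowers z)
  rankOne : ¬ RankTwoAt (zpowers z) (base H)

/-- Section 3: the shape of `T = [D, u]`. -/
structure TShape (H : Subgroup G) (b : G ⧸ H) (T : Subgroup G) : Prop where
  le : T ≤ dZero H b
  norm : pairStab (base H) b ≤ normalizer (T : Set G)
  comm : ∀ x ∈ T, ∀ y ∈ T, x * y = y * x
  card : Nat.card T = numInv H
  semi : ∀ x ∈ T, x ≠ 1 → OnlyTwo (zpowers x) (base H) b
  free : ∀ x ∈ T, ∀ t ∈ H, orderOf t = 2 → x * t = t * x → x = 1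

/-- What the character argument of section 5 needs. -/
structure CharData (H : Subgroup G) (b : G ⧸ H) (T : Subgroup G) (t₀ x₀ : G) : Prop where
  shape : TShape H b T
  t_mem : t₀ ∈ H
  t_order : orderOf t₀ = 2
  x_mem : x₀ ∈ T
  x_prime : (orderOf x₀).Prime
  /-- an element fixing a third point has a conjugate centralising `t₀` -/
  conj : ∀ d ∈ dZero H b, ¬ OnlyTwo (zpowers d) (base H) b →
    ∃ x ∈ T, x * d * x⁻¹ * t₀ = t₀ * (x * d * x⁻¹)
  /-- `x₀` lies in every `[T, c]` -/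
  commutator : ∀ c ∈ dZero H b, c * t₀ = t₀ * c → (orderOf c).Prime → ∃ x ∈ T, x₀ = x * c * x⁻¹ * c⁻¹

/-- Section 1. -/
def ThreePointStmt : Prop :=
  ∀ (G : Type u) [Group G] [Finite G] (H : Subgroup G), Hyp H → ThreePoint H

/-- Section 2: the transfer lemma. -/
def TransferStmt : Prop :=
  ∀ (G : Type u) [Group G] [Finite G] (H : Subgroup G), Hyp H → ThreePoint H → ∀ b : G ⧸ H, base H ≠ b →
    ∀ (r : ℕ), r.Prime → ∀ φ : dZero H b →* Multiplicative (ZMod r), φ ≠ 1 →
      ¬ r ∣ numInv H ∧ ∀ R : Subgroup G, PairSyl r R (base H) b → IsCyclic R ∧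
        ∀ y ∈ R, y ≠ 1 → FixesThree H (zpowers y) ∧ ¬ RankTwoAt (zpowers y) (base H)

/-- The lemma of Hall and Higman in the two forms used. -/
def HallHigmanStmt : Prop :=
  ∀ (X : Type u) [Group X] [Finite X] (V S : Subgroup X) (z : X) (l s r : ℕ),
    l.Prime → s.Prime → r.Prime → s ≠ 2 → r ≠ 2 → l ≠ s → l ≠ r → s ≠ r →
    IsPGroup l V → IsPGroup s S → orderOf z = r →
    S ≤ normalizer (V : Set X) → z ∈ normalizer (V : Set X) → z ∈ normalizer (S : Set X) →
    ((∀ v ∈ V, z * v = v * z → v = 1) →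
      ∀ g ∈ S, ∀ v ∈ V, (g * z * g⁻¹ * z⁻¹) * v = v * (g * z * g⁻¹ * z⁻¹)) ∧
    (l = 2 → (∀ v ∈ V, v * v = 1) → Nat.card ↥(V ⊓ centralizer {z}) ≤ 2 →
      S ≤ closure {c | ∃ g ∈ S, c = g * z * g⁻¹ * z⁻¹} →
      ∃ g₀ ∈ S, ∀ g ∈ S, ∃ n : ℕ, ∀ v ∈ V, g * v * g⁻¹ = g₀ ^ n * v * (g₀ ^ n)⁻¹)

/-- Section 3. -/
def TAbelianStmt : Prop :=
  ∀ (G : Type u) [Group G] [Finite G] (H : Subgroup G), Hyp H → ThreePoint H → ∀ b : G ⧸ H, base H ≠ b →
    ∀ (r : ℕ) (z : G), TopData H b r z → ∃ T : Subgroup G, TShape H b T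

/-- Section 4. -/
def StructureStmt : Prop :=
  ∀ (G : Type u) [Group G] [Finite G] (H : Subgroup G), Hyp H → ThreePoint H → ∀ b : G ⧸ H, base H ≠ b →
    ∀ (r : ℕ) (z : G), TopData H b r z → ∀ T : Subgroup G, TShape H b T →
      InvComm H ∨ ∃ t₀ x₀ : G, CharData H b T t₀ x₀

/-- Section 5. -/
def CharFinishStmt : Prop :=
  ∀ (G : Type u) [Group G] [Finite G] (H : Subgroup G), Hyp H → ∀ b : G ⧸ H, base H ≠ b →
    ∀ (T : Subgroup G) (t₀ x₀ : G), CharData H b T t₀ x₀ → InvComm H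

end Cfsg.Agent.SEMain.Commute
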