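import Cfsg.Agent.Lib.SEMain.Commute.TComm
import Cfsg.Agent.Lib.SEMain.Commute.Basic

/-!
# Section 3: the shape of `[D, u]`

An element of order `r` at a top prime gives a `Frame`, so the subgroup `T` generated by the inverted
elements is abelian, inverted, of order `numInv H` and consists of commutators with `z`.
-/

set_option autoImplicit false
set_option linter.style.haveILetI false
set_option linter.unusedSectionVars false

namespace Cfsg.Agent.SEMain.Commute

open Subgroup MulAction

universe u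

variable {G : Type u} [Group G] [Finite G] {H : Subgroup G}

/-- An element at a top prime commutes with a swapper and gives a frame. -/
theorem exists_frame (h : Hyp H) (tp : ThreePoint H) {b : G ⧸ H} (hb : base H ≠ b) {r : ℕ} {z : G}
    (ht : TopData H b r z) : ∃ u : G, TPart.Frame H b u z r := by
  classical
  haveI := Fact.mk ht.prime
  haveI : Nontrivial (G ⧸ H) := ⟨⟨_, _, hb⟩⟩
  have hzD : z ∈ pairStab (base H) b := (mem_inf.1 ht.mem).2
  have hse := h.setting.se
  set Y := zpowers z with hY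
  have hYp : IsPGroup r Y := IsPGroup.of_card (n := 1) (by rw [hY, Nat.card_zpowers, ht.order, pow_one])
  have hY1 : Y ≠ ⊥ := fun e => ht.prime.one_lt.ne' (by
    rw [← ht.order, orderOf_eq_one_iff]; exact zpowers_eq_bot.1 e)
  have h3 : Three H r Y := ⟨ht.prime, ht.ne_two, hYp, hY1, ht.three⟩
  have hYD : Y ≤ pairStab (base H) b := zpowers_le.2 hzD
  obtain ⟨u, hu, hub, huY⟩ := tp.swap r Y (base H) b h3 hYD hb
  have hzu : z * u = u * z := mem_centralizer_iff.1 huY z (mem_zpowers z)
  refine ⟨u, h.setting, h.weak, hb, hu, hub, ht.prime, ht.ne_two, ht.not_dvd, ht.order, hzD, hzu, ?_, ?_⟩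
  · intro k hk hinv hzk
    by_contra hk1
    obtain ⟨s, hs, hsd⟩ := Nat.exists_prime_and_dvd (mt orderOf_eq_one_iff.1 hk1)
    haveI := Fact.mk hs
    set k' := k ^ (orderOf k / s) with hk'
    have hk's : orderOf k' = s := orderOf_pow_orderOf_div (orderOf_pos k).ne' hsd
    have hk'1 : k' ≠ 1 := fun e => hs.one_lt.ne' (by rw [← hk's, e, orderOf_one])
    have hk'D : k' ∈ pairStab (base H) b := pow_mem hk _
    obtain ⟨f, hfp, hfq, hf⟩ := tp.third r Y (base H) b h3 hYD hb ht.rankOne s (zpowers k') hs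
      (IsPGroup.of_card (n := 1) (by rw [Nat.card_zpowers, hk's, pow_one]))
      (zpowers_le.2 (mem_inf.2 ⟨SEBrick.mem_normalizer_of fun w hw => by
        obtain ⟨n, rfl⟩ := mem_zpowers_iff.1 hw
        have hc : Commute (k ^ (orderOf k / s)) (z ^ n) :=
          ((show Commute k z from hzk.symm).pow_left _).zpow_right n
        rw [hk', hc.eq, mul_inv_cancel_right]
        exact hw, hk'D⟩))
    have hkf : k' • f = f := hf (mem_sup_right (mem_zpowers k'))
    rcases h.weak.fix_pair ⟨hk'1, SEBrick.odd_order (pairStab_odd hse hb) hk'D, u, base H, hu,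
      Invol.conj_pow hinv _, (mem_pairStab.1 hk'D).1, by rw [hub]; exact hb.symm⟩
      (mem_pairStab.1 hk'D).1 (mem_pairStab.1 hk'D).2 hkf hb with e | e
    · exact hfp e
    · exact hfq e
  · intro s t hsH htH hs ht' hzs hzt hst
    by_contra hne
    refine ht.rankOne ?_
    have hmem : ∀ x : G, x ∈ H → z * x = x * z → x ∈ stabilizer G (base H) ⊓ centralizer (Y : Set G) :=
      fun x hx hzx => mem_inf.2 ⟨SEBrick.fix_base_iff.2 hx, mem_centralizer_iff.2 fun w hw => by
        obtain ⟨n, rfl⟩ := mem_zpowers_iff.1 hw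
        exact ((show Commute z x from hzx).zpow_left n).eq⟩
    obtain ⟨E, hEX, hE, -⟩ := exists_four_pair hs ht' (hmem s hsH hzs) (hmem t htH hzt) hne hst
    exact ⟨E, hE, hEX⟩

namespace TPart.Frame

variable {b : G ⧸ H} {u z : G} {r : ℕ} (F : Frame H b u z r)
include F

theorem invGen_inverted : ∀ x ∈ closure (invSet u (pairStab (base H) b)), u * x * u⁻¹ = x⁻¹ :=
  inverted_of_comm (closure_mono fun k hk => ⟨subset_closure hk, hk.2⟩)
    fun x hx y hy => F.comm_invGen hx hy

theorem mem_invGen_iff {x : G} :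
    x ∈ closure (invSet u (pairStab (base H) b)) ↔ x ∈ invSet u (pairStab (base H) b) :=
  ⟨fun hx => ⟨(closure_le _).2 (fun k hk => hk.1) hx, F.invGen_inverted x hx⟩, fun hx => subset_closure hx⟩

theorem le_normalizer_invGen :
    pairStab (base H) b ≤ normalizer ((closure (invSet u (pairStab (base H) b)) : Subgroup G) : Set G) := by
  intro d hd
  obtain ⟨f, hf, i, hi, e, hfu⟩ := exists_fix_mul_inv F.odd_D F.u_order F.u_mem_normalizer hd
  rw [e]
  refine mul_mem (SEBrick.mem_normalizer_of fun x hx => subset_closure ⟨mul_mem (mul_mem hf ?_) (inv_mem hf), ?_⟩)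
    (le_normalizer (subset_closure hi))
  · exact (F.mem_invGen_iff.1 hx).1
  · rw [show u * (f * x * f⁻¹) * u⁻¹ = u * f * u⁻¹ * (u * x * u⁻¹) * (u * f * u⁻¹)⁻¹ by group,
      F.invGen_inverted x hx, ← hfu, mul_inv_cancel_right]
    group

theorem card_invGen : Nat.card (closure (invSet u (pairStab (base H) b))) = numInv H := by
  rw [← card_inverted F.setting.se F.ne F.u_order F.u_swap]
  exact Nat.card_congr (Equiv.subtypeEquivRight fun x => F.mem_invGen_iff)

/-- Every element of the torus part is a commutator with `z`. -/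
theorem exists_commutator {x : G} (hx : x ∈ closure (invSet u (pairStab (base H) b))) :
    ∃ y ∈ closure (invSet u (pairStab (base H) b)), y * z * y⁻¹ * z⁻¹ = x := by
  set T := closure (invSet u (pairStab (base H) b)) with hT
  have hzT : z ∈ normalizer (T : Set G) := F.le_normalizer_invGen F.z_mem
  let f : T → T := fun y => ⟨(y : G) * z * (y : G)⁻¹ * z⁻¹, by
    rw [show (y : G) * z * (y : G)⁻¹ * z⁻¹ = (y : G) * (z * (y : G)⁻¹ * z⁻¹) by group]
    exact mul_mem y.2 (SEBrick.conj_mem_of hzT (inv_mem y.2))⟩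
  have hf : Function.Injective f := fun y y' h => by
    have h' : (y : G) * z * (y : G)⁻¹ = (y' : G) * z * (y' : G)⁻¹ := mul_right_cancel (congrArg Subtype.val h)
    have hm := F.mem_invGen_iff.1 (mul_mem (inv_mem y'.2) y.2)
    have h1 : z * ((y' : G)⁻¹ * y) = ((y' : G)⁻¹ * y) * z := by
      calc z * ((y' : G)⁻¹ * y) = (y' : G)⁻¹ * ((y' : G) * z * (y' : G)⁻¹) * y := by group
        _ = (y' : G)⁻¹ * ((y : G) * z * (y : G)⁻¹) * y := by rw [h']
        _ = _ := by group
    exact Subtype.ext (inv_mul_eq_one.1 (F.fpf _ hm.1 hm.2 h1)).symm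
  obtain ⟨y, hy⟩ := Finite.injective_iff_surjective.1 hf ⟨x, hx⟩
  exact ⟨y, y.2, congrArg Subtype.val hy⟩

end TPart.Frame

/-- Section 3. -/
theorem tAbelianStmt : TAbelianStmt.{u} := by
  intro G _ _ H h tp b hb r z ht
  obtain ⟨u, F⟩ := exists_frame h tp hb ht
  refine ⟨closure (invSet u (pairStab (base H) b)), ?_, F.le_normalizer_invGen,
    fun x hx y hy => F.comm_invGen hx hy, F.card_invGen, ?_, ?_⟩
  · intro x hx
    obtain ⟨y, hy, rfl⟩ := F.exists_commutator hx
    have hyD := (F.mem_invGen_iff.1 hy).1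
    refine mem_inf.2 ⟨?_, (F.mem_invGen_iff.1 hx).1⟩
    exact mul_mem (SEBrick.conj_mem_of (le_normalizer_twoGen H (F.mem_H hyD)) (mem_inf.1 ht.mem).1)
      (inv_mem (mem_inf.1 ht.mem).1)
  · intro x hx hx1 f hf
    obtain ⟨h1, h2⟩ := F.mem_invGen_iff.1 hx
    exact F.only_two h1 h2 hx1 (hf (mem_zpowers x))
  · intro x hx t htH ht2 hxt
    obtain ⟨h1, h2⟩ := F.mem_invGen_iff.1 hx
    exact F.lonely h1 h2 ht2 htH hxt.symm

end Cfsg.Agent.SEMain.Commute
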