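import Cfsg.Agent.Lib.SEMain.Commute.Basic
import Mathlib.GroupTheory.SpecificGroups.Cyclic
import Mathlib.GroupTheory.Abelianization.Defs

/-!
# Commutation in the weak situation from its parts

`WeakComm` from the three-point facts, the transfer lemma, the shape of `[D, u]`, the structure and the
character argument.
-/

set_option autoImplicit false
set_option linter.style.haveILetI false
set_option linter.unusedSectionVars false

namespace Cfsg.Agent.SEMain.Commute

open Subgroup MulAction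

universe u

/-- A non-trivial finite soluble group has a non-trivial character of prime order. -/
theorem exists_prime_hom (A : Type u) [Group A] [Finite A] [Group.IsSolvable A] [Nontrivial A] :
    ∃ r : ℕ, r.Prime ∧ r ∣ Nat.card A ∧ ∃ φ : A →* Multiplicative (ZMod r), φ ≠ 1 := by
  classical
  haveI : Nontrivial (Abelianization A) :=
    Finite.one_lt_card_iff_nontrivial.1 (Subgroup.one_lt_index_of_ne_top
      (Group.IsSolvable.commutator_lt_top_of_nontrivial A).ne)
  obtain ⟨M, hM, -⟩ := (eq_top_or_exists_le_coatom (⊥ : Subgroup (Abelianization A))).resolve_left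
    bot_ne_top
  haveI : IsSimpleGroup (Abelianization A ⧸ M) := by
    haveI : Nontrivial (Abelianization A ⧸ M) :=
      Finite.one_lt_card_iff_nontrivial.1 (Subgroup.one_lt_index_of_ne_top hM.1)
    refine ⟨fun K _ => ?_⟩
    have hle : M ≤ K.comap (QuotientGroup.mk' M) := fun x hx => by
      rw [mem_comap, QuotientGroup.mk'_apply, (QuotientGroup.eq_one_iff x).2 hx]; exact one_mem _
    have hs := map_comap_eq_self_of_surjective (QuotientGroup.mk'_surjective M) K
    rcases eq_or_lt_of_le hle with h | h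
    · refine Or.inl ?_
      rw [← hs, ← h, Subgroup.map_eq_bot_iff, QuotientGroup.ker_mk']
    · refine Or.inr ?_
      rw [← hs, hM.2 _ h, ← MonoidHom.range_eq_map, MonoidHom.range_eq_top]
      exact QuotientGroup.mk'_surjective M
  set r := Nat.card (Abelianization A ⧸ M) with hr
  have hsurj : Function.Surjective ((QuotientGroup.mk' M).comp Abelianization.of) :=
    (QuotientGroup.mk'_surjective M).comp (QuotientGroup.mk'_surjective _)
  refine ⟨r, IsSimpleGroup.prime_card, hr ▸ card_dvd_of_surjective _ hsurj,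
    (zmodCyclicMulEquiv (G := Abelianization A ⧸ M) inferInstance).symm.toMonoidHom.comp
      ((QuotientGroup.mk' M).comp Abelianization.of), fun h => ?_⟩
  obtain ⟨z, hz⟩ := exists_ne (1 : Abelianization A ⧸ M)
  obtain ⟨x, rfl⟩ := hsurj z
  refine hz ((zmodCyclicMulEquiv (G := Abelianization A ⧸ M) inferInstance).symm.injective ?_)
  rw [map_one]
  exact DFunLike.congr_fun h x

variable {G : Type u} [Group G] [Finite G] {H : Subgroup G}

/-- An element of prime order fixing exactly the two points of a pair. -/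
theorem exists_onlyTwo (hy : Hyp H) {b : G ⧸ H} (hab : base H ≠ b) :
    ∃ (l : ℕ) (k : G), l.Prime ∧ k ^ l = 1 ∧ k ∈ pairStab (base H) b ∧
      OnlyTwo (zpowers k) (base H) b := by
  haveI : Nontrivial (G ⧸ H) := ⟨⟨_, _, hab⟩⟩
  have h1 : 1 < numInv H := by
    have h := hy.weak.one_lt_card
    rwa [Nat.card_congr (Equiv.subtypeEquivRight fun s =>
      and_congr_right fun _ => SEBrick.fix_base_iff)] at h
  obtain ⟨l, hl, hlm⟩ := Nat.exists_prime_and_dvd h1.ne'
  haveI := Fact.mk hl
  have hm : l ∣ Nat.card {s : G // orderOf s = 2 ∧ s • base H = base H} := by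
    rwa [Nat.card_congr (Equiv.subtypeEquivRight fun s =>
      and_congr_right fun _ => SEBrick.fix_base_iff)]
  obtain ⟨k, hk, ⟨hk1, hko, t, x, ht, htk, hkx, htx⟩, hkp⟩ := hy.weak.exists_mov hm hab
  obtain ⟨n, hn⟩ := IsPGroup.iff_orderOf.1 hkp ⟨k, mem_zpowers k⟩
  rw [Subgroup.orderOf_mk] at hn
  have hn0 : n ≠ 0 := fun h => hk1 (orderOf_eq_one_iff.1 (by rw [hn, h, pow_zero]))
  have hdvd : l ∣ orderOf k := hn ▸ dvd_pow_self l hn0
  set k' := k ^ (orderOf k / l) with hk'
  have ho : orderOf k' = l := orderOf_pow_orderOf_div (orderOf_pos k).ne' hdvd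
  have hk'D : k' ∈ pairStab (base H) b := pow_mem hk _
  have hmov : SETrans.Mov G (G ⧸ H) k' := ⟨fun e => hl.one_lt.ne' (by rw [← ho, e, orderOf_one]),
    ho ▸ hko.of_dvd_nat hdvd, t, x, ht, Invol.conj_pow htk _,
    mem_stabilizer_iff.1 (pow_mem (mem_stabilizer_iff.2 hkx : k ∈ stabilizer G x) _), htx⟩
  exact ⟨l, k', hl, ho ▸ pow_orderOf_eq_one k', hk'D, fun f hf =>
    hy.weak.fix_pair hmov (mem_pairStab.1 hk'D).1 (mem_pairStab.1 hk'D).2 (hf (mem_zpowers k')) hab⟩

/-- If `twoGen H` meets the two-point stabiliser trivially the involutions of `H` commute. -/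
theorem invComm_of_dZero_bot (hy : Hyp H) {b : G ⧸ H} (hab : base H ≠ b) (h : dZero H b = ⊥) :
    InvComm H := by
  obtain ⟨l, k, hl, hkl, hk, honly⟩ := exists_onlyTwo hy hab
  haveI := Fact.mk hl
  obtain ⟨s, -, hsH, -, hs, -, -, -⟩ := hy.setting.pair
  refine comm_of_weak_of_commModCore hy.setting.se hy.weak
    (commModCore_of_regular hy.setting.se hab hkl hk honly (twoGen_le H) (le_normalizer_twoGen H) hs
      (invol_mem_twoGen hsH hs) fun n hn hnb => ?_)
  have hn' : n ∈ dZero H b :=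
    mem_inf.2 ⟨hn, mem_pairStab.2 ⟨SEBrick.fix_base_iff.2 (twoGen_le H hn), hnb⟩⟩
  rw [h] at hn'
  exact mem_bot.1 hn'

/-- A non-trivial `dZero` gives the data at a top prime. -/
theorem exists_topData (h2 : TransferStmt.{u}) (hy : Hyp H) (hP : ThreePoint H) {b : G ⧸ H}
    (hab : base H ≠ b) (h : dZero H b ≠ ⊥) : ∃ (r : ℕ) (z : G), TopData H b r z := by
  have hle : dZero H b ≤ pairStab (base H) b := inf_le_right
  have hodd : Odd (Nat.card (dZero H b)) :=
    SEBrick.odd_of_le (pairStab_odd hy.setting.se hab) hle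
  haveI : Group.IsSolvable (dZero H b) := OddChar.oddSolvable _ hodd
  haveI : Nontrivial (dZero H b) := (nontrivial_iff_ne_bot _).2 h
  obtain ⟨r, hr, hrd, φ, hφ⟩ := exists_prime_hom (dZero H b)
  haveI := Fact.mk hr
  obtain ⟨hrm, hR⟩ := h2 G H hy hP b hab r hr φ hφ
  obtain ⟨⟨z, hz⟩, hzr⟩ := exists_prime_orderOf_dvd_card' r hrd
  rw [Subgroup.orderOf_mk] at hzr
  have hr2 : r ≠ 2 := fun e =>
    Nat.not_even_iff_odd.2 hodd (even_iff_two_dvd.2 (e ▸ hrd))
  obtain ⟨R, hzR, hRP⟩ := exists_pairSyl (r := r) (p := base H) (q := b)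
    (IsPGroup.of_card (n := 1) (by rw [Nat.card_zpowers, hzr, pow_one]))
    (zpowers_le.2 (hle hz))
  obtain ⟨-, hy'⟩ := hR R hRP
  obtain ⟨h3, hrk⟩ := hy' z (hzR (mem_zpowers z)) fun e => hr.one_lt.ne' (by
    rw [← hzr, e, orderOf_one])
  exact ⟨r, z, hr, hr2, hrm, hzr, hz, h3, hrk⟩

/-- `WeakComm` from the parts of its proof. -/
theorem weakComm_of_parts (h1 : ThreePointStmt.{u}) (h2 : TransferStmt.{u}) (h3 : TAbelianStmt.{u})
    (h4 : StructureStmt.{u}) (h5 : CharFinishStmt.{u}) : WeakComm.{u} := by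
  intro G _ _ H hS hT hw
  have hy : Hyp H := ⟨hS, hT, hw⟩
  obtain ⟨b, hab⟩ := exists_ne_one hS.se
  by_cases hD : dZero H b = ⊥
  · exact invComm_of_dZero_bot hy hab hD
  have hP := h1 G H hy
  obtain ⟨r, z, hz⟩ := exists_topData h2 hy hP hab hD
  obtain ⟨T, hTS⟩ := h3 G H hy hP b hab r z hz
  rcases h4 G H hy hP b hab r z hz T hTS with h | ⟨t₀, x₀, hC⟩
  · exact h
  · exact h5 G H hy b hab T t₀ x₀ hC

end Cfsg.Agent.SEMain.Commute
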