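import Cfsg.Agent.Lib.SEMain.KernelTrans
import Cfsg.Agent.Lib.SEMain.OddEnd
import Cfsg.Agent.Lib.SEMain.Main
import Cfsg.Agent.Lib.OddChar.OddTheorem
import Mathlib.GroupTheory.SpecificGroups.Cyclic

/-!
# The input of the commuting finish

An abelian subgroup `T` of a two-point stabiliser inside a normal subgroup `H₁` of odd index of `H` without
odd abelian quotient, regular on the involutions of `H` and semiregular outside the two points. The normal
subgroups of `H₁` meeting `T` are `H₁` itself when some element acts on `T` without fixed points.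
-/

set_option autoImplicit false
set_option linter.style.haveILetI false
set_option linter.unusedSectionVars false

namespace Cfsg.Agent.SEMain

open Subgroup MulAction

universe u

/-- A finite abelian group has a non-trivial map to each group of prime order dividing its order. -/
theorem exists_hom_prime {A : Type u} [CommGroup A] [Finite A] {p : ℕ} [Fact p.Prime]
    (hp : p ∣ Nat.card A) : ∃ φ : A →* Multiplicative (ZMod p), φ ≠ 1 := by
  classical
  set N := (powMonoidHom p : A →* A).range with hN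
  have hNtop : N ≠ ⊤ := fun e => by
    have hinj := Finite.injective_iff_surjective.2 (MonoidHom.range_eq_top.1 e)
    obtain ⟨a, ha⟩ := exists_prime_orderOf_dvd_card' p hp
    have : a = 1 := hinj (by
      show a ^ p = 1 ^ p
      rw [one_pow, ← ha, pow_orderOf_eq_one])
    rw [this, orderOf_one] at ha
    exact (Fact.out : p.Prime).one_lt.ne ha
  obtain ⟨M, hM, hNM⟩ : ∃ M : Subgroup A, IsCoatom M ∧ N ≤ M :=
    (eq_top_or_exists_le_coatom N).resolve_left hNtop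
  haveI : Nontrivial (A ⧸ M) := QuotientGroup.nontrivial_iff.2 hM.1
  haveI : IsSimpleGroup (A ⧸ M) := ⟨fun K _ => by
    by_cases hK : K = ⊥
    · exact Or.inl hK
    refine Or.inr ?_
    have hle : M ≤ K.comap (QuotientGroup.mk' M) := fun m hm => by
      rw [mem_comap, show QuotientGroup.mk' M m = 1 from (QuotientGroup.eq_one_iff m).2 hm]
      exact K.one_mem
    rcases hM.le_iff.1 hle with e | e
    · exact (comap_injective (QuotientGroup.mk'_surjective M) (by rw [e, comap_top]))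
    · exact absurd (comap_injective (QuotientGroup.mk'_surjective M) (by
        rw [e, MonoidHom.comap_bot, QuotientGroup.ker_mk'] : K.comap _ = (⊥ : Subgroup (A ⧸ M)).comap _)) hK⟩
  have hexp : ∀ z : A ⧸ M, z ^ p = 1 := fun z => by
    obtain ⟨a, rfl⟩ := QuotientGroup.mk_surjective z
    rw [← QuotientGroup.mk_pow, QuotientGroup.eq_one_iff]
    exact hNM ⟨a, rfl⟩
  obtain ⟨z, hz⟩ := exists_ne (1 : A ⧸ M)
  have hpz : orderOf z = p := orderOf_eq_prime (hexp z) hz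
  have hcard : Nat.card (A ⧸ M) = p := by
    rw [← hpz, ← Nat.card_zpowers]
    rcases (inferInstance : (zpowers z).Normal).eq_bot_or_eq_top with e | e
    · exact absurd (zpowers_eq_bot.1 e) hz
    · rw [e, card_top]
  haveI : IsCyclic (A ⧸ M) := isCyclic_of_prime_card hcard
  obtain ⟨e⟩ : Nonempty ((A ⧸ M) ≃* Multiplicative (ZMod p)) :=
    hcard ▸ ⟨(zmodCyclicMulEquiv inferInstance).symm⟩
  refine ⟨e.toMonoidHom.comp (QuotientGroup.mk' M), fun he => hz ?_⟩
  obtain ⟨a, rfl⟩ := QuotientGroup.mk_surjective z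
  exact e.injective ((DFunLike.congr_fun he a).trans (map_one e).symm)

/-- A non-trivial finite soluble group has a non-trivial map to a group of prime order. -/
theorem exists_hom_of_solvable {A : Type u} [Group A] [Finite A] [Nontrivial A] (hsol : Group.IsSolvable A) :
    ∃ p : ℕ, p.Prime ∧ p ∣ Nat.card A ∧ ∃ φ : A →* Multiplicative (ZMod p), φ ≠ 1 := by
  haveI := hsol
  haveI : Nontrivial (Abelianization A) :=
    QuotientGroup.nontrivial_iff.2 (Group.IsSolvable.commutator_lt_top_of_nontrivial A).ne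
  obtain ⟨p, hp, hdvd⟩ := Nat.exists_prime_and_dvd (n := Nat.card (Abelianization A))
    Finite.one_lt_card.ne'
  haveI := Fact.mk hp
  obtain ⟨φ, hφ⟩ := exists_hom_prime hdvd
  refine ⟨p, hp, hdvd.trans (card_dvd_of_surjective Abelianization.of (Quotient.mk''_surjective)),
    φ.comp Abelianization.of, fun e => hφ ?_⟩
  exact Abelianization.hom_ext _ _ (e.trans (MonoidHom.one_comp _).symm)

variable {G : Type u} [Group G] [Finite G] {H : Subgroup G}

/-- The data for the commuting finish on the pair of the base point and `b`. -/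
structure CommData (H : Subgroup G) (b : G ⧸ H) (H₁ T : Subgroup G) : Prop where
  le : H₁ ≤ H
  norm : H ≤ normalizer (H₁ : Set G)
  oddIndex : Odd (H₁.relIndex H)
  T_le : T ≤ H₁ ⊓ pairStab ((1 : G) : G ⧸ H) b
  T_norm : ∀ d ∈ H₁ ⊓ pairStab ((1 : G) : G ⧸ H) b, ∀ x ∈ T, d * x * d⁻¹ ∈ T
  T_comm : ∀ x ∈ T, ∀ y ∈ T, x * y = y * x
  semi : ∀ x ∈ T, x ≠ 1 → ∀ f : G ⧸ H, x • f = f → f = ((1 : G) : G ⧸ H) ∨ f = b
  free : ∀ x ∈ T, ∀ t ∈ H, orderOf t = 2 → x * t = t * x → x = 1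
  trans : ∀ s t : G, s ∈ H → t ∈ H → orderOf s = 2 → orderOf t = 2 → ∃ x ∈ T, x * s * x⁻¹ = t
  stuck : ∀ r : ℕ, r.Prime → r ≠ 2 → ∀ φ : H₁ →* Multiplicative (ZMod r), φ = 1
  top : ∀ r : ℕ, r.Prime →
    ∀ φ : (H₁ ⊓ pairStab ((1 : G) : G ⧸ H) b : Subgroup G) →* Multiplicative (ZMod r),
      (∀ x : (H₁ ⊓ pairStab ((1 : G) : G ⧸ H) b : Subgroup G), (x : G) ∈ T → φ x = 1) → φ ≠ 1 →
      ¬ r ∣ numInv H ∧
        (∀ R : Subgroup G, R ≤ H₁ ⊓ pairStab ((1 : G) : G ⧸ H) b → IsPGroup r R → IsCyclic R) ∧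
        ∀ d ∈ H₁ ⊓ pairStab ((1 : G) : G ⧸ H) b, orderOf d = r → ∀ x ∈ T, d * x = x * d → x = 1

/-- The complement of `T` on the pair fixing the involution `t`. -/
def compl (b : G ⧸ H) (H₁ : Subgroup G) (t : G) : Subgroup G :=
  H₁ ⊓ pairStab ((1 : G) : G ⧸ H) b ⊓ centralizer ({t} : Set G)

theorem mem_compl {b : G ⧸ H} {H₁ : Subgroup G} {t g : G} :
    g ∈ compl b H₁ t ↔ g ∈ H₁ ⊓ pairStab ((1 : G) : G ⧸ H) b ∧ g * t = t * g := by
  rw [compl, mem_inf, mem_centralizer_singleton_iff]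

namespace CommData

variable {b : G ⧸ H} {H₁ T : Subgroup G} (h : CommData H b H₁ T)
include h

theorem mem_H {g : G} (hg : g ∈ H₁ ⊓ pairStab ((1 : G) : G ⧸ H) b) : g ∈ H := h.le (mem_inf.1 hg).1

theorem invol_mem {s : G} (hs : s ∈ H) (hs2 : orderOf s = 2) : s ∈ H₁ :=
  mem_of_two_element h.norm h.oddIndex hs (n := 1) (by rw [pow_one, ← hs2, pow_orderOf_eq_one])

theorem card_T {t : G} (ht : t ∈ H) (ht2 : orderOf t = 2) : Nat.card T = numInv H := by
  have hTH : ∀ x ∈ T, x ∈ H := fun x hx => h.mem_H (h.T_le hx)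
  refine Nat.card_eq_of_bijective (fun x : T => (⟨(x : G) * t * (x : G)⁻¹, (Invol.order_conj _ _).trans ht2,
    mul_mem (mul_mem (hTH x x.2) ht) (inv_mem (hTH x x.2))⟩ : {s : G // orderOf s = 2 ∧ s ∈ H}))
    ⟨fun x y e => ?_, fun s => ?_⟩
  · have e' : (x : G) * t * (x : G)⁻¹ = y * t * (y : G)⁻¹ := congrArg Subtype.val e
    refine (inv_mul_eq_one.1 (Subtype.ext (h.free _ (y⁻¹ * x).2 t ht ht2 ?_))).symm
    rw [Subgroup.coe_mul, Subgroup.coe_inv]
    calc (y : G)⁻¹ * x * t = (y : G)⁻¹ * (x * t * (x : G)⁻¹) * x := by group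
      _ = (y : G)⁻¹ * (y * t * (y : G)⁻¹) * x := by rw [e']
      _ = t * ((y : G)⁻¹ * x) := by group
  · obtain ⟨x, hx, he⟩ := h.trans t s.1 ht s.2.2 ht2 s.2.1
    exact ⟨⟨x, hx⟩, Subtype.ext he⟩

theorem exists_prime_elt (hS : Setting H) : ∃ (l : ℕ) (k : G), l.Prime ∧ k ∈ T ∧ orderOf k = l := by
  obtain ⟨s, t, hs, ht, hs2, ht2, hne, -⟩ := hS.pair
  obtain ⟨x, hx, hxe⟩ := h.trans s t hs ht hs2 ht2
  haveI : Nontrivial T := ⟨⟨⟨x, hx⟩, 1, fun e => hne (by
    have hx1 : x = 1 := congrArg Subtype.val e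
    rw [← hxe, hx1, one_mul, inv_one, mul_one])⟩⟩
  obtain ⟨l, hl, hdvd⟩ := Nat.exists_prime_and_dvd (n := Nat.card T) Finite.one_lt_card.ne'
  haveI := Fact.mk hl
  obtain ⟨k, hk⟩ := exists_prime_orderOf_dvd_card' l hdvd
  exact ⟨l, k, hl, k.2, by rw [Subgroup.orderOf_coe, hk]⟩

theorem onlyTwo {k : G} (hk : k ∈ T) (hk1 : k ≠ 1) : OnlyTwo (zpowers k) ((1 : G) : G ⧸ H) b :=
  fun f hf => h.semi k hk hk1 f (hf (mem_zpowers k))

omit [Finite G] in
theorem isPGroup_zpowers {l : ℕ} {k : G} (hk : orderOf k = l) : IsPGroup l (zpowers k) :=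
  IsPGroup.of_card (n := 1) (by rw [Nat.card_zpowers, hk, pow_one])

/-- `H₁` is transitive on the points other than the base point. -/
theorem trans_points (hS : Setting H) (h2 : TwoTrans H) (hab : ((1 : G) : G ⧸ H) ≠ b) {x y : G ⧸ H}
    (hx : x ≠ ((1 : G) : G ⧸ H)) (hy : y ≠ ((1 : G) : G ⧸ H)) : ∃ g ∈ H₁, g • x = y := by
  obtain ⟨l, k, hl, hk, hkl⟩ := h.exists_prime_elt hS
  haveI := Fact.mk hl
  have hk1 : k ≠ 1 := fun e => hl.one_lt.ne (by rw [← hkl, e, orderOf_one])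
  refine normal_transitive h2 hab (fun g hg => SEBrick.fix_base_iff.2 (h.le hg))
    (fun g hg => h.norm (SEBrick.fix_base_iff.1 hg)) (isPGroup_zpowers h hkl)
    (zpowers_le.2 (mem_inf.1 (h.T_le hk)).1)
    (zpowers_le.2 (mem_pairStab.1 (mem_inf.1 (h.T_le hk)).2).2) (h.onlyTwo hk hk1) hx hy

/-- A normal subgroup of `H₁` meeting `T` is a supplement of the two-point stabiliser. -/
theorem exists_mem_mul (hS : Setting H) (h2 : TwoTrans H) (hab : ((1 : G) : G ⧸ H) ≠ b) {N : Subgroup G}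
    (hNH : N ≤ H₁) (hNn : H₁ ≤ normalizer (N : Set G)) {k : G} (hk : k ∈ T) (hkN : k ∈ N) (hk1 : k ≠ 1)
    {g : G} (hg : g ∈ H₁) : ∃ n ∈ N, n⁻¹ * g ∈ H₁ ⊓ pairStab ((1 : G) : G ⧸ H) b := by
  classical
  set a := ((1 : G) : G ⧸ H) with ha
  have hfixa : ∀ x ∈ H₁, x • a = a := fun x hx => SEBrick.fix_base_iff.2 (h.le hx)
  obtain ⟨l, hl, hdvd⟩ := Nat.exists_prime_and_dvd (n := orderOf k) (by simpa using hk1)
  haveI := Fact.mk hl
  set k' := k ^ (orderOf k / l) with hk'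
  have hk'o : orderOf k' = l := by
    rw [hk', orderOf_pow_orderOf_div (orderOf_pos k).ne' hdvd]
  have hk'1 : k' ≠ 1 := fun e => hl.one_lt.ne (by rw [← hk'o, e, orderOf_one])
  have hk'T : k' ∈ T := pow_mem hk _
  have hk'b : k' • b = b := (mem_pairStab.1 (mem_inf.1 (h.T_le hk'T)).2).2
  let Orb : G ⧸ H → Set (G ⧸ H) := fun z => {w | ∃ n ∈ N, n • z = w}
  let A : (G ⧸ H) → SubMulAction (zpowers k') (G ⧸ H) := fun z => ⟨Orb z, fun x w hw => by
    obtain ⟨n, hn, rfl⟩ := hw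
    exact ⟨x * n, mul_mem ((zpowers_le.2 (pow_mem hkN _)) x.2) hn, mul_smul _ _ _⟩⟩
  have hne : ∀ {z w}, z ≠ a → w ∈ Orb z → w ≠ a := by
    rintro z _ hz ⟨n, hn, rfl⟩ e
    exact hz (smul_left_cancel n (e.trans (hfixa n (hNH hn)).symm))
  have hgb : g • b ≠ a := fun e => hab (smul_left_cancel g ((hfixa g hg).trans e.symm))
  have hcard : Nat.card (Orb (g • b)) = Nat.card (Orb b) := by
    have himg : Orb (g • b) = (g • ·) '' Orb b := by
      ext w
      constructor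
      · rintro ⟨n, hn, rfl⟩
        refine ⟨(g⁻¹ * n * g⁻¹⁻¹) • b, ⟨_, SEBrick.conj_mem_of (inv_mem (hNn hg)) hn, rfl⟩, ?_⟩
        show g • _ = _
        rw [← mul_smul, ← mul_smul]
        congr 1
        group
      · rintro ⟨_, ⟨n, hn, rfl⟩, rfl⟩
        refine ⟨g * n * g⁻¹, SEBrick.conj_mem_of (hNn hg) hn, ?_⟩
        show _ = g • (n • b)
        rw [← mul_smul, ← mul_smul]
        congr 1
        group
    rw [himg, Nat.card_image_of_injective (MulAction.injective g) (Orb b)]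
  have hp := isPGroup_zpowers h hk'o
  by_cases hb : b ∈ Orb (g • b)
  · obtain ⟨n, hn, hnb⟩ := hb
    refine ⟨n⁻¹, inv_mem hn, mem_inf.2 ⟨mul_mem (by rw [inv_inv]; exact hNH hn) hg, mem_pairStab.2 ⟨?_, ?_⟩⟩⟩
    · rw [inv_inv, mul_smul, hfixa g hg, hfixa n (hNH hn)]
    · rw [inv_inv, mul_smul, hnb]
  exfalso
  have h1 := hp.card_modEq_card_fixedPoints (A b)
  have h0 := hp.card_modEq_card_fixedPoints (A (g • b))
  have key : ∀ z, z ≠ a → ∀ v : fixedPoints (zpowers k') (A z), ((v : A z) : G ⧸ H) = b := fun z hz v =>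
    (h.semi k' hk'T hk'1 _ (congrArg Subtype.val (v.2 ⟨k', mem_zpowers k'⟩))).resolve_left
      (hne hz (v : A z).2)
  haveI : IsEmpty (fixedPoints (zpowers k') (A (g • b))) := ⟨fun v => hb (by
    have hm : ((v : A (g • b)) : G ⧸ H) ∈ Orb (g • b) := (v : A (g • b)).2
    rwa [key _ hgb v] at hm)⟩
  haveI : Nonempty (fixedPoints (zpowers k') (A b)) := ⟨⟨⟨b, 1, one_mem _, one_smul _ _⟩, fun x => Subtype.ext
    ((zpowers_le.2 (show k' ∈ stabilizer G b from hk'b)) x.2)⟩⟩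
  haveI : Subsingleton (fixedPoints (zpowers k') (A b)) := ⟨fun v w => Subtype.ext (Subtype.ext
    ((key b (Ne.symm hab) v).trans (key b (Ne.symm hab) w).symm))⟩
  rw [Nat.card_of_isEmpty (α := fixedPoints (zpowers k') (A (g • b)))] at h0
  rw [(Nat.card_eq_one_iff_unique (α := fixedPoints (zpowers k') (A b))).2 ⟨inferInstance, inferInstance⟩] at h1
  change Nat.card (Orb (g • b)) ≡ 0 [MOD l] at h0
  change Nat.card (Orb b) ≡ 1 [MOD l] at h1
  rw [hcard] at h0
  exact hl.one_lt.ne' (Nat.dvd_one.1 (Nat.modEq_zero_iff_dvd.1 (h1.symm.trans h0)))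

/-- With an element without fixed points on `T`, a normal subgroup of `H₁` meeting `T` is everything. -/
theorem normal_eq_top (hS : Setting H) (h2 : TwoTrans H) (hab : ((1 : G) : G ⧸ H) ≠ b) {x : G}
    (hxD : x ∈ H₁ ⊓ pairStab ((1 : G) : G ⧸ H) b) (hxfix : ∀ s ∈ T, x * s = s * x → s = 1)
    {N : Subgroup H₁} (hN : N.Normal) {k : H₁} (hk : (k : G) ∈ T) (hk1 : k ≠ 1) (hkN : k ∈ N) : N = ⊤ := by
  classical
  set D := H₁ ⊓ pairStab ((1 : G) : G ⧸ H) b with hD
  let π : D →* H₁ ⧸ N := (QuotientGroup.mk' N).comp (inclusion inf_le_left)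
  have hsurj : Function.Surjective π := fun q => by
    obtain ⟨g, rfl⟩ := QuotientGroup.mk_surjective q
    obtain ⟨n, hn, hd⟩ := h.exists_mem_mul hS h2 hab (N := N.map H₁.subtype) (map_subtype_le _)
      (SESolv.le_normalizer_map hN) hk ⟨k, hkN, rfl⟩ (fun e => hk1 (Subtype.ext e)) g.2
    obtain ⟨n, hnN, rfl⟩ := hn
    refine ⟨⟨_, hd⟩, (QuotientGroup.eq).2 ?_⟩
    have hinc : inclusion inf_le_left (⟨_, hd⟩ : D) = n⁻¹ * g := Subtype.ext rfl
    rw [hinc, mul_inv_rev, inv_inv]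
    simpa [mul_assoc] using hN.conj_mem n hnN g⁻¹
  by_contra hne
  haveI : Nontrivial (H₁ ⧸ N) := QuotientGroup.nontrivial_iff.2 hne
  have hodd : Odd (Nat.card (H₁ ⧸ N)) :=
    ((pairStab_odd hS.se hab).of_dvd_nat (card_dvd_of_le inf_le_right)).of_dvd_nat
      (card_dvd_of_surjective π hsurj)
  obtain ⟨r, hr, hrdvd, φ, hφ⟩ := exists_hom_of_solvable (OddChar.oddSolvable _ hodd)
  have hr2 : r ≠ 2 := by
    rintro rfl
    exact Nat.not_even_iff_odd.2 hodd (even_iff_two_dvd.2 hrdvd)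
  refine hφ (MonoidHom.ext fun q => ?_)
  obtain ⟨g, rfl⟩ := QuotientGroup.mk_surjective q
  exact DFunLike.congr_fun (h.stuck r hr hr2 (φ.comp (QuotientGroup.mk' N))) g

/-- The projection of the pair on the complement. -/
theorem exists_proj {t : G} (ht : t ∈ H) (ht2 : orderOf t = 2) :
    ∃ π : (H₁ ⊓ pairStab ((1 : G) : G ⧸ H) b : Subgroup G) →* compl b H₁ t,
      (∀ d : (H₁ ⊓ pairStab ((1 : G) : G ⧸ H) b : Subgroup G), (d : G) ∈ T → π d = 1) ∧
      ∀ f : compl b H₁ t, π ⟨f, (mem_compl.1 f.2).1⟩ = f := by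
  set D := H₁ ⊓ pairStab ((1 : G) : G ⧸ H) b with hD
  haveI : (T.subgroupOf D).Normal := ⟨fun x hx d => by
    rw [mem_subgroupOf] at hx ⊢
    exact h.T_norm d d.2 x hx⟩
  let ι : compl b H₁ t →* D ⧸ T.subgroupOf D :=
    (QuotientGroup.mk' _).comp (inclusion inf_le_left)
  have hι : Function.Bijective ι := by
    refine ⟨(injective_iff_map_eq_one ι).2 fun f hf => ?_, fun q => ?_⟩
    · have hT : (f : G) ∈ T := (QuotientGroup.eq_one_iff (inclusion inf_le_left f)).1 hf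
      exact Subtype.ext (h.free _ hT t ht ht2 (mem_compl.1 f.2).2)
    · obtain ⟨d, rfl⟩ := QuotientGroup.mk_surjective q
      have hdH : (d : G) ∈ H := h.mem_H d.2
      obtain ⟨x, hx, hxe⟩ := h.trans t ((d : G) * t * (d : G)⁻¹) ht
        (mul_mem (mul_mem hdH ht) (inv_mem hdH)) ht2 ((Invol.order_conj _ _).trans ht2)
      refine ⟨⟨x⁻¹ * d, mem_compl.2 ⟨mul_mem (inv_mem (h.T_le hx)) d.2, ?_⟩⟩, QuotientGroup.eq.2 ?_⟩
      · calc x⁻¹ * (d : G) * t = x⁻¹ * ((d : G) * t * (d : G)⁻¹) * d := by group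
          _ = x⁻¹ * (x * t * x⁻¹) * d := by rw [hxe]
          _ = t * (x⁻¹ * d) := by group
      · rw [mem_subgroupOf]
        show (x⁻¹ * (d : G))⁻¹ * d ∈ T
        rw [show (x⁻¹ * (d : G))⁻¹ * d = (d : G)⁻¹ * x * (d : G)⁻¹⁻¹ by group]
        exact h.T_norm _ (inv_mem d.2) x hx
  refine ⟨(MulEquiv.ofBijective ι hι).symm.toMonoidHom.comp (QuotientGroup.mk' _), fun d hd => ?_,
    fun f => (MulEquiv.ofBijective ι hι).symm_apply_apply f⟩
  rw [MonoidHom.comp_apply, show QuotientGroup.mk' (T.subgroupOf D) d = 1 from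
    (QuotientGroup.eq_one_iff d).2 (mem_subgroupOf.2 hd), map_one]

/-- The consequences of a quotient of prime order of the complement. -/
theorem top_compl {t : G} (ht : t ∈ H) (ht2 : orderOf t = 2) {r : ℕ} (hr : r.Prime)
    {φ : compl b H₁ t →* Multiplicative (ZMod r)} (hφ : φ ≠ 1) :
    r ∣ Nat.card (compl b H₁ t) ∧ ¬ r ∣ numInv H ∧
      (∀ R : Subgroup G, R ≤ H₁ ⊓ pairStab ((1 : G) : G ⧸ H) b → IsPGroup r R → IsCyclic R) ∧
      ∀ d ∈ H₁ ⊓ pairStab ((1 : G) : G ⧸ H) b, orderOf d = r → ∀ x ∈ T, d * x = x * d → x = 1 := by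
  haveI := Fact.mk hr
  obtain ⟨π, hπT, hπf⟩ := h.exists_proj ht ht2
  refine ⟨?_, h.top r hr (φ.comp π) (fun x hx => by rw [MonoidHom.comp_apply, hπT x hx, map_one])
    fun e => hφ (MonoidHom.ext fun f => by
      have h1 := DFunLike.congr_fun e (⟨f, (mem_compl.1 f.2).1⟩ : (H₁ ⊓ _ : Subgroup G))
      rwa [MonoidHom.comp_apply, hπf] at h1)⟩
  have h1 : Nat.card φ.range ∣ r := by
    have := φ.range.card_subgroup_dvd_card
    rwa [Nat.card_congr Multiplicative.toAdd, Nat.card_zmod] at this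
  rcases (Nat.dvd_prime hr).1 h1 with h1 | h1
  · exact absurd (MonoidHom.range_eq_bot_iff.1 (Subgroup.eq_bot_of_card_eq _ h1)) hφ
  · exact h1 ▸ card_range_dvd φ

end CommData

end Cfsg.Agent.SEMain
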