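import Cfsg.Agent.Lib.SEMain.Commute.Basic
import Cfsg.Agent.Lib.SEMain.Commute.FinishData
import Mathlib.GroupTheory.SpecificGroups.Cyclic

/-!
# From the shape of `[D, u]` to the data of the commuting finish

`twoGen H` has odd index in `H` and no quotient of odd prime order.  With the transfer lemma and the shape
of `T` it gives `CommData`.
-/

set_option autoImplicit false
set_option linter.style.haveILetI false
set_option linter.unusedSectionVars false

namespace Cfsg.Agent.SEMain.Commute

open Subgroup MulAction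

universe u

variable {G : Type u} [Group G] [Finite G] {H : Subgroup G}

/-- `twoGen H` has odd index in `H`. -/
theorem odd_relIndex_twoGen (H : Subgroup G) : Odd ((twoGen H).relIndex H) := by
  haveI : Fact (Nat.Prime 2) := ⟨Nat.prime_two⟩
  obtain ⟨S⟩ : Nonempty (Sylow 2 H) := inferInstance
  have hle : (S : Subgroup H) ≤ (twoGen H).subgroupOf H := fun x hx => by
    obtain ⟨n, hn⟩ := S.isPGroup' ⟨x, hx⟩
    refine mem_subgroupOf.2 (mem_twoGen x.2 (n := n) ?_)
    exact congrArg (fun y : (S : Subgroup H) => ((y : H) : G)) hn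
  rw [← Nat.not_even_iff_odd, even_iff_two_dvd]
  exact fun h => S.not_dvd_index (h.trans (index_dvd_of_le hle))

/-- `twoGen H` has no map onto a group of odd prime order. -/
theorem twoGen_stuck {r : ℕ} (hr : r.Prime) (hr2 : r ≠ 2) (φ : twoGen H →* Multiplicative (ZMod r)) :
    φ = 1 := by
  have hexp : ∀ y : Multiplicative (ZMod r), y ^ r = 1 := fun y => by
    refine Multiplicative.toAdd.injective ?_
    rw [toAdd_pow, toAdd_one, nsmul_eq_mul, ZMod.natCast_self, zero_mul]
  have hker : twoGen H ≤ φ.ker.map (twoGen H).subtype := (closure_le _).2 fun x hx => by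
    obtain ⟨hxH, n, hn⟩ := hx
    refine ⟨⟨x, mem_twoGen hxH hn⟩, MonoidHom.mem_ker.2 ?_, rfl⟩
    set y := φ ⟨x, mem_twoGen hxH hn⟩ with hy
    have h1 : y ^ 2 ^ n = 1 := by
      rw [hy, ← map_pow, show (⟨x, mem_twoGen hxH hn⟩ : twoGen H) ^ 2 ^ n = 1 from Subtype.ext hn,
        map_one]
    refine orderOf_eq_one_iff.1 (Nat.Coprime.eq_one_of_dvd (Nat.Coprime.coprime_dvd_left
      (orderOf_dvd_of_pow_eq_one h1) ?_) (orderOf_dvd_of_pow_eq_one (hexp y)))
    exact Nat.Coprime.pow_left n ((Nat.coprime_primes Nat.prime_two hr).2 (Ne.symm hr2))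
  refine MonoidHom.ext fun g => ?_
  obtain ⟨g', hg', he⟩ := hker g.2
  rw [MonoidHom.one_apply, ← Subtype.ext he, MonoidHom.mem_ker.1 hg']

/-- An element of prime order `r` of rank one fixing three points moves each non-trivial element of `T`. -/
theorem eq_one_of_commute (hP : ThreePoint H) {b : G ⧸ H} (hab : base H ≠ b) {T : Subgroup G}
    (hT : TShape H b T) {r : ℕ} (hr : r.Prime) (hr2 : r ≠ 2) {d : G} (hd : d ∈ dZero H b)
    (hdo : orderOf d = r) (h3 : FixesThree H (zpowers d)) (hrk : ¬ RankTwoAt (zpowers d) (base H))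
    {x : G} (hx : x ∈ T) (hdx : d * x = x * d) : x = 1 := by
  by_contra hx1
  obtain ⟨s, hs, hdvd⟩ := Nat.exists_prime_and_dvd (n := orderOf x) (by simpa using hx1)
  set x' := x ^ (orderOf x / s) with hx'
  have hx'o : orderOf x' = s := orderOf_pow_orderOf_div (orderOf_pos x).ne' hdvd
  have hx'T : x' ∈ T := pow_mem hx _
  have hx'1 : x' ≠ 1 := fun e => hs.one_lt.ne (by rw [← hx'o, e, orderOf_one])
  have hdP : zpowers d ≤ pairStab (base H) b := zpowers_le.2 (mem_inf.1 hd).2
  have hcom : x' * d = d * x' := ((show Commute d x from hdx).pow_right _).symm.eq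
  have hx'N : x' ∈ normalizer (zpowers d : Set G) := SEBrick.mem_normalizer_of fun g hg => by
    obtain ⟨n, rfl⟩ := mem_zpowers_iff.1 hg
    rw [(Commute.zpow_right (show Commute x' d from hcom) n).eq, mul_inv_cancel_right]
    exact hg
  obtain ⟨f, hfa, hfb, hf⟩ := hP.third r (zpowers d) (base H) b
    ⟨hr, hr2, IsPGroup.of_card (n := 1) (by rw [Nat.card_zpowers, hdo, pow_one]),
      fun e => hr.one_lt.ne (by rw [← hdo, ← Nat.card_zpowers, e, Subgroup.card_bot]), h3⟩ hdP hab hrk s
    (zpowers x') hs (IsPGroup.of_card (n := 1) (by rw [Nat.card_zpowers, hx'o, pow_one]))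
    (zpowers_le.2 (mem_inf.2 ⟨hx'N, (mem_inf.1 (hT.le hx'T)).2⟩))
  rcases hT.semi x' hx'T hx'1 f (le_sup_right.trans hf) with e | e
  · exact hfa e
  · exact hfb e

/-- The data of the commuting finish from sections 1 to 3. -/
theorem commData_of_shape (h2 : TransferStmt.{u}) (hy : Hyp H) (hP : ThreePoint H) {b : G ⧸ H}
    (hab : base H ≠ b) {T : Subgroup G} (hT : TShape H b T) : CommData H b (twoGen H) T where
  le := twoGen_le H
  norm := le_normalizer_twoGen H
  oddIndex := odd_relIndex_twoGen H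
  T_le := hT.le
  T_norm d hd x hx := SEBrick.conj_mem_of (hT.norm (mem_inf.1 hd).2) hx
  T_comm := hT.comm
  semi x hx hx1 f hf := hT.semi x hx hx1 f (zpowers_le.2 (mem_stabilizer_iff.2 hf))
  free := hT.free
  trans s t hsH htH hs ht := by
    classical
    have hTH : ∀ x ∈ T, x ∈ H := fun x hx => twoGen_le H (mem_inf.1 (hT.le hx)).1
    let F : T → {t : G // orderOf t = 2 ∧ t ∈ H} := fun x =>
      ⟨(x : G) * s * (x : G)⁻¹, (Invol.order_conj _ _).trans hs,
        mul_mem (mul_mem (hTH x x.2) hsH) (inv_mem (hTH x x.2))⟩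
    have hinj : Function.Injective F := fun x y e => by
      have e' : (x : G) * s * (x : G)⁻¹ = y * s * (y : G)⁻¹ := congrArg Subtype.val e
      refine (inv_mul_eq_one.1 (Subtype.ext (hT.free _ (y⁻¹ * x).2 s hsH hs ?_))).symm
      rw [Subgroup.coe_mul, Subgroup.coe_inv]
      calc (y : G)⁻¹ * x * s = (y : G)⁻¹ * (x * s * (x : G)⁻¹) * x := by group
        _ = (y : G)⁻¹ * (y * s * (y : G)⁻¹) * x := by rw [e']
        _ = s * ((y : G)⁻¹ * x) := by group
    obtain ⟨x, hx⟩ := (hinj.bijective_of_nat_card_le (by rw [hT.card, numInv])).2 ⟨t, ht, htH⟩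
    exact ⟨x, x.2, congrArg Subtype.val hx⟩
  stuck r hr hr2 φ := twoGen_stuck hr hr2 φ
  top r hr φ _ hφ := by
    haveI := Fact.mk hr
    obtain ⟨hrm, hR⟩ := h2 G H hy hP b hab r hr φ hφ
    have hodd : Odd (Nat.card (dZero H b)) :=
      SEBrick.odd_of_le (pairStab_odd hy.setting.se hab) inf_le_right
    refine ⟨hrm, fun R hRD hRp => ?_, fun d hd hdo x hx hdx => ?_⟩
    · obtain ⟨R', hRR', hR'⟩ := exists_pairSyl (r := r) (p := base H) (q := b) hRp
        (hRD.trans inf_le_right)
      haveI := (hR R' hR').1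
      exact isCyclic_of_injective (inclusion hRR') (inclusion_injective hRR')
    · obtain ⟨R', hdR', hR'⟩ := exists_pairSyl (r := r) (p := base H) (q := b)
        (IsPGroup.of_card (n := 1) (by rw [Nat.card_zpowers, hdo, pow_one]) : IsPGroup r (zpowers d))
        (zpowers_le.2 (mem_inf.1 hd).2)
      have hd1 : d ≠ 1 := fun e => hr.one_lt.ne (by rw [← hdo, e, orderOf_one])
      obtain ⟨h3, hrk⟩ := (hR R' hR').2 d (hdR' (mem_zpowers d)) hd1
      have hr2 : r ≠ 2 := by
        rintro rfl
        have := SEBrick.odd_order hodd hd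
        rw [hdo] at this
        exact Nat.not_even_iff_odd.2 this even_two
      exact eq_one_of_commute hP hab hT hr hr2 hd hdo h3 hrk hx hdx

end Cfsg.Agent.SEMain.Commute
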