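import Cfsg.Agent.Lib.SEMain.Commute.Basic
import Cfsg.Agent.Lib.SEMain.TransferLemma

/-!
# A prime of the abelianised two-point stabiliser in the weak situation

A character of order `r` of `dZero H b` forces `r` to be prime to the number of involutions, the Sylow
`r`-subgroups of the two-point stabiliser to be cyclic and their elements to fix three points with rank one.
-/

set_option autoImplicit false
set_option linter.style.haveILetI false
set_option linter.unusedSectionVars false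

namespace Cfsg.Agent.SEMain.Commute

open Subgroup MulAction

universe u

variable {G : Type u} [Group G] [Finite G] {H : Subgroup G} {r : ℕ} [Fact r.Prime]

theorem centralizer_zpowers_eq (y : G) :
    centralizer (zpowers y : Set G) = centralizer ({y} : Set G) := by
  rw [zpowers_eq_closure, centralizer_closure]

theorem RankTwoAt.mono {Y Y' : Subgroup G} (hle : Y ≤ Y') {p : G ⧸ H} (h : RankTwoAt Y' p) :
    RankTwoAt Y p := by
  obtain ⟨E, hE, hEle⟩ := h
  exact ⟨E, hE, hEle.trans (inf_le_inf_left _ (centralizer_le hle))⟩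

theorem not_rankOne_of_rankTwoAt {y : G} {p : G ⧸ H} (h : RankTwoAt (zpowers y) p) :
    ¬ BrauerSuzuki.RankOne (centralizer ({y} : Set G)) := by
  obtain ⟨E, hE, hEle⟩ := h
  intro hR
  obtain ⟨s, hs, hs1⟩ := SESolv.IsFour.exists_ne hE
  obtain ⟨t, ht, ht1, hts⟩ := exists_third hE s
  have hC : ∀ x ∈ E, x ∈ centralizer ({y} : Set G) := fun x hx =>
    (centralizer_zpowers_eq y).le (hEle hx).2
  exact hts (congrArg Subtype.val (hR ⟨t, hC t ht⟩ ⟨s, hC s hs⟩
    (by rw [Subgroup.orderOf_mk]; exact hE.order ht ht1) (by rw [Subgroup.orderOf_mk]; exact hE.order hs hs1)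
    (Subtype.ext (hE.comm ht hs))))

/-- An element commuting with `y` of rank one fixes a third point together with it. -/
theorem fixesThree_of_commute (hTP : ThreePoint H) (hr2 : r ≠ 2) {a b : G ⧸ H} (hab : a ≠ b) {y x : G}
    (hy : IsPGroup r (zpowers y)) (hy1 : y ≠ 1) (hy3 : FixesThree H (zpowers y)) (hyD : y ∈ pairStab a b)
    (hrk : ¬ RankTwoAt (zpowers y) a) (hx : IsPGroup r (zpowers x)) (hxD : x ∈ pairStab a b)
    (hc : Commute x y) : ∃ f : G ⧸ H, f ≠ a ∧ f ≠ b ∧ y • f = f ∧ x • f = f := by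
  obtain ⟨f, hfa, hfb, hle⟩ := hTP.third r (zpowers y) a b
    ⟨Fact.out, hr2, hy, mt zpowers_eq_bot.1 hy1, hy3⟩ (zpowers_le.2 hyD) hab hrk
    r (zpowers x) Fact.out hx (zpowers_le.2 (mem_inf.2 ⟨SEBrick.mem_normalizer_of fun z hz => by
      obtain ⟨k, rfl⟩ := mem_zpowers_iff.1 hz
      rw [(hc.zpow_right k).eq, mul_inv_cancel_right]
      exact zpow_mem (mem_zpowers y) k, hxD⟩))
  exact ⟨f, hfa, hfb, mem_stabilizer_iff.1 (hle (mem_sup_left (mem_zpowers y))),
    mem_stabilizer_iff.1 (hle (mem_sup_right (mem_zpowers x)))⟩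

/-- An element fixing three points. -/
theorem fixesThree_zpowers {a b f : G ⧸ H} (hab : a ≠ b) (hfa : f ≠ a) (hfb : f ≠ b) {x : G}
    (hxD : x ∈ pairStab a b) (hf : x • f = f) : FixesThree H (zpowers x) :=
  ⟨a, b, f, hab, hfb.symm, hfa.symm, zpowers_le.2 (mem_pairStab.1 hxD).1,
    zpowers_le.2 (mem_pairStab.1 hxD).2, zpowers_le.2 hf⟩

/-- A character invariant under an `r`-group normalising its domain. -/
theorem exists_invariant_hom {L R : Subgroup G} (hR : IsPGroup r R) (hn : R ≤ normalizer (L : Set G))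
    (φ : L →* Multiplicative (ZMod r)) (hφ : φ ≠ 1) :
    ∃ ψ : L →* Multiplicative (ZMod r), ψ ≠ 1 ∧
      ∀ g ∈ R, ∀ (x : G) (hx : x ∈ L) (hx' : g * x * g⁻¹ ∈ L), ψ ⟨g * x * g⁻¹, hx'⟩ = ψ ⟨x, hx⟩ := by
  have hmem : ∀ (g : R) (x : L), (g : G)⁻¹ * x * g ∈ L := fun g x => by
    simpa using SEBrick.conj_mem_of (inv_mem (hn g.2)) x.2
  letI inst : MulAction R (L →* Multiplicative (ZMod r)) :=
    { smul := fun g f => MonoidHom.mk' (fun x => f ⟨(g : G)⁻¹ * x * g, hmem g x⟩) fun x y => by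
        rw [← map_mul]
        exact congrArg f (Subtype.ext (show (g : G)⁻¹ * (x * y : G) * g = _ by
          show _ = (g : G)⁻¹ * x * g * ((g : G)⁻¹ * y * g)
          group))
      one_smul := fun f => MonoidHom.ext fun x => congrArg f (Subtype.ext (by simp))
      mul_smul := fun g g' f => MonoidHom.ext fun x => congrArg f (Subtype.ext (show _ = _ by
        show ((g * g' : R) : G)⁻¹ * x * (g * g' : R) = (g' : G)⁻¹ * ((g : G)⁻¹ * x * g) * g'
        push_cast
        group)) }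
  haveI : Finite (L →* Multiplicative (ZMod r)) := Finite.of_injective _ DFunLike.coe_injective
  obtain ⟨n, hn'⟩ := IsPGroup.iff_card.1 (show IsPGroup r (L →* Multiplicative (ZMod r)) from
    fun f => ⟨1, MonoidHom.ext fun x => by rw [pow_one]; exact pow_r_eq_one _⟩)
  haveI : Nontrivial (L →* Multiplicative (ZMod r)) := ⟨⟨φ, 1, hφ⟩⟩
  have hdvd : r ∣ Nat.card (fixedPoints R (L →* Multiplicative (ZMod r))) := by
    refine Nat.modEq_zero_iff_dvd.1 ((hR.card_modEq_card_fixedPoints _).symm.trans (Nat.modEq_zero_iff_dvd.2 ?_))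
    rw [hn']
    refine dvd_pow_self _ fun h0 => ?_
    have := Finite.one_lt_card (α := L →* Multiplicative (ZMod r))
    rw [hn', h0, pow_zero] at this
    exact lt_irrefl 1 this
  have hone : (1 : L →* Multiplicative (ZMod r)) ∈ fixedPoints R (L →* Multiplicative (ZMod r)) :=
    fun g => MonoidHom.ext fun x => rfl
  haveI : Nonempty (fixedPoints R (L →* Multiplicative (ZMod r))) := ⟨⟨1, hone⟩⟩
  haveI : Nontrivial (fixedPoints R (L →* Multiplicative (ZMod r))) := Finite.one_lt_card_iff_nontrivial.1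
    (lt_of_lt_of_le (Fact.out : r.Prime).one_lt (Nat.le_of_dvd Nat.card_pos hdvd))
  obtain ⟨⟨ψ, hψ⟩, hψ1⟩ := exists_ne (⟨1, hone⟩ : fixedPoints R (L →* Multiplicative (ZMod r)))
  refine ⟨ψ, fun h => hψ1 (Subtype.ext h), fun g hg x hx hx' => ?_⟩
  refine (DFunLike.congr_fun (hψ ⟨g, hg⟩) ⟨g * x * g⁻¹, hx'⟩).symm.trans ?_
  exact congrArg ψ (Subtype.ext (show g⁻¹ * (g * x * g⁻¹) * g = x by group))

/-- The elements of 2-power order generate, so `twoGen H` has no character of odd order. -/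
theorem twoGen_hom_eq_one (hr2 : r ≠ 2) (V : twoGen H →* Multiplicative (ZMod r)) (x : twoGen H) :
    V x = 1 := by
  obtain ⟨x, hx⟩ := x
  unfold twoGen at hx
  induction hx using closure_induction with
  | mem y hy =>
    obtain ⟨hyH, n, hn⟩ := hy
    refine orderOf_eq_one_iff.1 (Nat.eq_one_of_dvd_coprimes ?_ (orderOf_dvd_of_pow_eq_one (pow_r_eq_one _))
      (orderOf_dvd_of_pow_eq_one (n := 2 ^ n) ?_))
    · exact (((Fact.out : r.Prime).coprime_iff_not_dvd).2 fun h2 =>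
        hr2 ((Nat.prime_dvd_prime_iff_eq Fact.out Nat.prime_two).1 h2)).pow_right n
    · rw [← map_pow]
      exact (congrArg V (Subtype.ext hn)).trans (map_one V)
  | one => exact map_one V
  | mul y y' hy hy' ihy ihy' =>
    show V (⟨y, hy⟩ * ⟨y', hy'⟩) = 1
    rw [map_mul, ihy, ihy', one_mul]
  | inv y hy ih =>
    show V (⟨y, hy⟩⁻¹) = 1
    rw [map_inv, ih, inv_one]

/-- The regular 2-group of a three-point element of rank two contains the 2-elements of its centraliser. -/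
theorem exists_regular_two_three (hH : Cfsg.IsStronglyEmbedded H) (hTP : ThreePoint H) (hr2 : r ≠ 2)
    {a b : G ⧸ H} (hab : a ≠ b) {y : G} (hy : IsPGroup r (zpowers y)) (hy1 : y ≠ 1)
    (hy3 : FixesThree H (zpowers y)) (hya : y • a = a) (hyb : y • b = b) (hrk : RankTwoAt (zpowers y) a) :
    ∃ S : Subgroup G, IsPGroup 2 S ∧ S ≤ centralizer ({y} : Set G) ⊓ stabilizer G a ∧
      (∀ x ∈ centralizer ({y} : Set G), x • a = a → IsPGroup 2 (zpowers x) → x ∈ S) ∧
      (∀ f : G ⧸ H, y • f = f → f ≠ a → ∃ s ∈ S, s • b = f) ∧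
      (∀ s ∈ S, s • b = b → s = 1) := by
  haveI : Fact (Nat.Prime 2) := ⟨Nat.prime_two⟩
  obtain ⟨Q, hQ2, hQle, hQn, hQreg⟩ :=
    hTP.regular r (zpowers y) a ⟨Fact.out, hr2, hy, mt zpowers_eq_bot.1 hy1, hy3⟩ (zpowers_le.2 hya) hrk
  rw [centralizer_zpowers_eq] at hQle
  have hfree : ∀ x : G, IsPGroup 2 (zpowers x) → x • a = a → x • b = b → x = 1 := fun x hx hxa hxb => by
    obtain ⟨i, hi⟩ := IsPGroup.iff_card.1 hx
    rw [Nat.card_zpowers] at hi
    exact orderOf_eq_one_iff.1 (Nat.eq_one_of_dvd_coprimes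
      ((Nat.coprime_two_left.2 (odd_of_mem_pairStab hH hab (mem_pairStab.2 ⟨hxa, hxb⟩))).pow_left i)
      (hi ▸ dvd_rfl) dvd_rfl)
  have htr : ∀ f : G ⧸ H, y • f = f → f ≠ a → ∃ s ∈ Q, s • b = f := fun f hf hfa => by
    obtain ⟨g, ⟨hg, hgb⟩, -⟩ := hQreg b f hab.symm hfa (zpowers_le.2 hyb) (zpowers_le.2 hf)
    exact ⟨g, hg, hgb⟩
  refine ⟨Q, hQ2, hQle.trans (le_of_eq (inf_comm _ _)), fun x hxX hxa hx2 => ?_, htr,
    fun s hs hsb => hfree s (hQ2.to_le (zpowers_le.2 hs)) (hQle hs).1 hsb⟩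
  obtain ⟨s, hs, hse⟩ := htr (x • b) (smul_fix_of_centralizer hxX hyb)
    fun e => hab (MulAction.injective x (hxa.trans e.symm))
  have hxN : x ∈ normalizer (zpowers y : Set G) := SEBrick.mem_normalizer_of fun z hz => by
    obtain ⟨k, rfl⟩ := mem_zpowers_iff.1 hz
    have hc : Commute x y := mem_centralizer_singleton_iff.1 hxX
    rw [(hc.zpow_right k).eq, mul_inv_cancel_right]
    exact zpow_mem (mem_zpowers y) k
  have h2 := hQ2.to_sup_of_normal_left' hx2 (zpowers_le.2 (hQn ⟨hxa, hxN⟩))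
  have h := hfree (s⁻¹ * x)
    (h2.to_le (zpowers_le.2 (mul_mem (inv_mem (mem_sup_left hs)) (mem_sup_right (mem_zpowers x)))))
    (by rw [mul_smul, hxa, inv_smul_eq_iff]; exact (mem_stabilizer_iff.1 (hQle hs).1).symm)
    (by rw [mul_smul, ← hse, inv_smul_smul])
  exact inv_mul_eq_one.1 h ▸ hs

/-- For `r ∣ m` a Sylow `r`-subgroup of a two-point stabiliser has an inverted element. -/
theorem exists_inverted_mem (hH : Cfsg.IsStronglyEmbedded H) (hrm : r ∣ numInv H) {a b : G ⧸ H}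
    (hab : a ≠ b) {R : Subgroup G} (hR : PairSyl r R a b) :
    ∃ k ∈ R, k ≠ 1 ∧ ∃ u : G, orderOf u = 2 ∧ u • a = b ∧ u * k * u⁻¹ = k⁻¹ := by
  have hr : r.Prime := Fact.out
  obtain ⟨u, hu, hub⟩ := exists_swapper hH a b hab
  set D := pairStab a b with hD
  have hA : zpowers u ≤ normalizer (D : Set G) := zpowers_le.2 (swapper_mem_normalizer hH hu hub)
  have hcop : (Nat.card (zpowers u)).Coprime (Nat.card D) := by
    rw [Nat.card_zpowers, hu]; exact Nat.coprime_two_left.2 (pairStab_odd hH hab)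
  have hsolv : Group.IsSolvable (zpowers u) ∨ Group.IsSolvable D :=
    Or.inl (Group.isSolvable_of_comm fun x y => mul_comm' x y)
  obtain ⟨P, -, hPu⟩ := CoprimeAct.exists_invariant_sylow_ge hA hcop hsolv (bot_le : (⊥ : Subgroup G) ≤ D)
    (IsPGroup.of_bot (p := r)) (fun g _ => SEBrick.mem_normalizer_of fun x hx => by
      rw [mem_bot] at hx; subst hx; simp)
  set W := (P : Subgroup D).map D.subtype with hW
  have hWc : Nat.card W = r ^ (Nat.card D).factorization r := CoprimeAct.card_map_sylow P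
  have hWD : W ≤ D := map_subtype_le _
  have hnle : ¬ W ≤ centralizer ({u} : Set G) := fun hle => by
    set c := Nat.card ↥(D ⊓ centralizer ({u} : Set G)) with hc
    have h1 : r ^ (Nat.card D).factorization r ∣ c := hWc ▸ card_dvd_of_le (le_inf hWD hle)
    have h2 : Nat.card D = c * numInv H := card_pairStab_swapper hH hab hu hub
    have h3 : r ^ ((Nat.card D).factorization r + 1) ∣ Nat.card D := by
      nth_rw 2 [h2]
      rw [pow_succ]
      exact mul_dvd_mul h1 hrm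
    have := (hr.pow_dvd_iff_le_factorization Nat.card_pos.ne').1 h3
    omega
  obtain ⟨x, hx, hxu⟩ := SetLike.not_le_iff_exists.1 hnle
  set k := x⁻¹ * (u * x * u⁻¹) with hk
  have hkW : k ∈ W := mul_mem (inv_mem hx) (SEBrick.conj_mem_of (hPu (mem_zpowers u)) hx)
  have hk1 : k ≠ 1 := fun h => hxu (mem_centralizer_singleton_iff.2 (by
    nth_rw 1 [inv_mul_eq_one.1 h]
    group))
  have hkinv : u * k * u⁻¹ = k⁻¹ := by
    rw [hk, Invol.inv_self hu]
    calc u * (x⁻¹ * (u * x * u)) * u = u * x⁻¹ * u * x * (u * u) := by group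
      _ = (x⁻¹ * (u * x * u))⁻¹ := by
        rw [Invol.mul_self hu, mul_one, mul_inv_rev, mul_inv_rev, mul_inv_rev, inv_inv, Invol.inv_self hu]
        group
  obtain ⟨g, hg, hgW⟩ := (pairSyl_of_card (P.isPGroup'.map _) hWD hWc).exists_conj hR
  obtain ⟨hga, hgb⟩ := mem_pairStab.1 hg
  refine ⟨g * k * g⁻¹, hgW ▸ ⟨k, hkW, rfl⟩, fun h => hk1 (conj_eq_one_iff.1 h), g * u * g⁻¹,
    (Invol.order_conj g u).trans hu, ?_, ?_⟩
  · rw [mul_smul, mul_smul, inv_smul_eq_iff.2 hga.symm, hub, hgb]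
  · calc g * u * g⁻¹ * (g * k * g⁻¹) * (g * u * g⁻¹)⁻¹ = g * (u * k * u⁻¹) * g⁻¹ := by group
      _ = (g * k * g⁻¹)⁻¹ := by rw [hkinv]; group

/-- The transfer lemma for a Sylow subgroup of the two-point stabiliser. -/
theorem transfer_of_pairSyl (hHyp : Hyp H) (hTP : ThreePoint H) {b : G ⧸ H} (hab : base H ≠ b)
    (φ₀ : dZero H b →* Multiplicative (ZMod r)) (hφ₀ : φ₀ ≠ 1) {R : Subgroup G}
    (hR : PairSyl r R (base H) b) :
    ¬ r ∣ numInv H ∧ IsCyclic R ∧
      ∀ y ∈ R, y ≠ 1 → FixesThree H (zpowers y) ∧ ¬ RankTwoAt (zpowers y) (base H) := by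
  have hr : r.Prime := Fact.out
  have hH := hHyp.setting.se
  set a := base H with ha
  have hMa : twoGen H ≤ stabilizer G a := fun x hx => SEBrick.fix_base_iff.2 (twoGen_le H hx)
  have hM2 : ∀ x : G, x • a = a → IsPGroup 2 (zpowers x) → x ∈ twoGen H := fun x hxa hx2 => by
    obtain ⟨n, hn⟩ := hx2 ⟨x, mem_zpowers x⟩
    exact mem_twoGen (SEBrick.fix_base_iff.1 hxa) (n := n) (congrArg Subtype.val hn)
  have hRD : R ≤ pairStab a b := hR.2.1
  have hRM : R ≤ normalizer (twoGen H : Set G) := fun g hg =>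
    le_normalizer_twoGen H (SEBrick.fix_base_iff.1 (mem_pairStab.1 (hRD hg)).1)
  have hRn : R ≤ normalizer (dZero H b : Set G) := fun g hg => SEBrick.mem_normalizer_of fun x hx =>
    mem_inf.2 ⟨SEBrick.conj_mem_of (hRM hg) hx.1, mul_mem (mul_mem (hRD hg) hx.2) (inv_mem (hRD hg))⟩
  obtain ⟨φ, hφ, hφR⟩ := exists_invariant_hom hR.1 hRn φ₀ hφ₀
  obtain ⟨d₀, hd₀L, e, he, hd₀, hφd₀, hmin⟩ := exists_least φ hφ
  have hr2 : r ≠ 2 := by
    rintro rfl
    have := odd_of_mem_pairStab hH hab hd₀L.2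
    rw [hd₀, Nat.odd_pow_iff (by omega)] at this
    exact (Nat.not_odd_iff_even.2 even_two) this
  -- a conjugate in `R`
  obtain ⟨g, hgL, hgR⟩ : ∃ g ∈ dZero H b, g * d₀ * g⁻¹ ∈ R := by
    set L := dZero H b with hL
    have hk : r ^ (Nat.card L).factorization r = Nat.card ↥(R ⊓ L) := by
      obtain ⟨k, hk⟩ := IsPGroup.iff_card.1 (hR.1.to_le (inf_le_left : R ⊓ L ≤ R))
      have h1 : k ≤ (Nat.card L).factorization r :=
        (hr.pow_dvd_iff_le_factorization Nat.card_pos.ne').1 (hk ▸ card_dvd_of_le inf_le_right)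
      have h2 := congrArg (fun n => n.factorization r) (card_sup_mul_inf (A := R) (B := L) hRn)
      simp only [Nat.factorization_mul Nat.card_pos.ne' Nat.card_pos.ne', Finsupp.add_apply, hk,
        hR.card_eq, Nat.Prime.factorization_pow hr, Finsupp.single_eq_same,
        Nat.factorization_mul Nat.card_pos.ne' (pow_ne_zero _ hr.ne_zero),
        Nat.factorization_mul (pow_ne_zero _ hr.ne_zero) Nat.card_pos.ne'] at h2
      have h3 : (Nat.card ↥(R ⊔ L)).factorization r ≤ (Nat.card ↥(stabTwo a b)).factorization r :=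
        factorization_le_of_dvd Nat.card_pos.ne' (card_dvd_of_le (sup_le hRD inf_le_right)) r
      rw [hk]
      congr 1
      omega
    obtain ⟨Q, hQ⟩ := CoprimeAct.exists_sylow_of_card (inf_le_right : R ⊓ L ≤ L) hk.symm
    obtain ⟨P, hP⟩ := (IsPGroup.of_card (p := r) (n := e)
      (by rw [Nat.card_zpowers, Subgroup.orderOf_mk, hd₀]) :
      IsPGroup r (zpowers (⟨d₀, hd₀L⟩ : L))).exists_le_sylow
    obtain ⟨g, hg⟩ := MulAction.exists_smul_eq L P Q
    have hmem : g * ⟨d₀, hd₀L⟩ * g⁻¹ ∈ ((g • P : Sylow r L) : Subgroup L) := by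
      rw [Sylow.coe_subgroup_smul]
      exact ⟨_, hP (mem_zpowers _), rfl⟩
    rw [hg] at hmem
    exact ⟨g, g.2, (hQ ▸ ⟨_, hmem, rfl⟩ : (g : G) * d₀ * (g : G)⁻¹ ∈ R ⊓ L).1⟩
  set d := g * d₀ * g⁻¹ with hd'
  have hdL : d ∈ dZero H b := mul_mem (mul_mem hgL hd₀L) (inv_mem hgL)
  have hd : orderOf d = r ^ e := by
    rw [hd', show g * d₀ * g⁻¹ = (MulAut.conj g).toMonoidHom d₀ from rfl,
      orderOf_injective _ (MulAut.conj g).injective, hd₀]
  have hφd : φ ⟨d, hdL⟩ ≠ 1 := by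
    rw [show (⟨d, hdL⟩ : dZero H b) = ⟨g, hgL⟩ * ⟨d₀, hd₀L⟩ * ⟨g, hgL⟩⁻¹ from rfl, map_mul, map_mul, map_inv,
      mul_comm (φ ⟨g, hgL⟩), mul_inv_cancel_right]
    exact hφd₀
  obtain ⟨hda, hdb⟩ := mem_pairStab.1 hdL.2
  have hdp : IsPGroup r (zpowers d) := IsPGroup.of_card (n := e) (by rw [Nat.card_zpowers, hd])
  have hyp : ∀ y : G, y ^ r = 1 → IsPGroup r (zpowers y) := fun y hy =>
    isPGroup_zpowers_of_pow_eq_one (k := 1) (by rw [pow_one]; exact hy)
  -- `d` and a normalising element with a regular 2-group give a character of `twoGen H`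
  have hfalse : ∀ y ∈ R, y ^ r = 1 → ∀ n n' : ℕ, y * d * y⁻¹ = d ^ n → y⁻¹ * d * y = d ^ n' →
      (∃ S : Subgroup G, IsPGroup 2 S ∧ S ≤ centralizer ({y} : Set G) ⊓ stabilizer G a ∧
        (∀ x ∈ centralizer ({y} : Set G), x • a = a → IsPGroup 2 (zpowers x) → x ∈ S) ∧
        (∀ f : G ⧸ H, y • f = f → f ≠ a → ∃ s ∈ S, s • b = f) ∧
        (∀ s ∈ S, s • b = b → s = 1)) → False := by
    rintro y hyR hyr n n' hn hn' ⟨S, hS2, hSle, hSall, hStr, hSfree⟩
    obtain ⟨hya, hyb⟩ := mem_pairStab.1 (hRD hyR)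
    obtain ⟨V, hV⟩ := transfer_ne_one (H := H) hr2 hab hMa φ hdL hd hmin hφd (hRD hyR) (hRM hyR) hyr
      (fun x hx hx' => hφR y hyR x hx hx') hn'
      (conj_facts hr2 hd he (y := y⁻¹) (by rw [inv_pow, hyr, inv_one]) (by rw [inv_inv]; exact hn')).1
      hS2 (fun s hs => hM2 s (hSle hs).2 (hS2.to_le (zpowers_le.2 hs)))
      (fun s hs => smul_fix_of_centralizer (hSle hs).1 hyb) hSfree
      (fun f => exists_commute_of_regular hya hyb hda hdb (conj_facts hr2 hd he hyr hn).2 hS2 hSle hSall hStr hSfree)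
    exact hV (twoGen_hom_eq_one hr2 V _)
  -- `d` fixes a third point
  obtain ⟨f, hf, hfa, hfb⟩ : ∃ f : G ⧸ H, d • f = f ∧ f ≠ a ∧ f ≠ b := by
    by_contra hno
    push Not at hno
    obtain ⟨V, hV⟩ := transfer_ne_one (H := H) hr2 hab hMa φ hdL hd hmin hφd (one_mem _) (one_mem _) (one_pow r)
      (fun x hx hx' => congrArg φ (Subtype.ext (by group))) (n' := 1) (by simp) (by simp)
      (S := ⊥) IsPGroup.of_bot bot_le (fun s _ => one_smul G _) (fun s hs _ => mem_bot.1 hs)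
      (fun f hfa _ hf => ⟨1, one_mem _, Commute.one_left d, by rw [one_smul]; exact (hno f hf hfa).symm⟩)
    exact hV (twoGen_hom_eq_one hr2 V _)
  -- the element of order `r` in `⟨d⟩`
  set z := d ^ r ^ (e - 1) with hz
  have hzo : orderOf z = r := by
    rw [hz, orderOf_pow' d (pow_ne_zero _ hr.ne_zero), hd, Nat.gcd_eq_right (pow_dvd_pow r (Nat.sub_le e 1)),
      Nat.pow_div (Nat.sub_le e 1) hr.pos, show e - (e - 1) = 1 by omega, pow_one]
  have hzr : z ^ r = 1 := hzo ▸ pow_orderOf_eq_one z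
  have hzR : z ∈ R := pow_mem hgR _
  have hz1 : z ≠ 1 := fun e' => hr.one_lt.ne (by rw [← hzo, e', orderOf_one])
  have hz3 : FixesThree H (zpowers z) := fixesThree_zpowers hab hfa hfb (hRD hzR)
    (mem_stabilizer_iff.1 (pow_mem (show d ∈ stabilizer G f from hf) _))
  have hdz : Commute z d := (Commute.refl d).pow_left _
  have hzrk : ¬ RankTwoAt (zpowers z) a := fun h => by
    refine hfalse z hzR hzr 1 1 ?_ ?_
      (exists_regular_two_three hH hTP hr2 hab (hyp z hzr) hz1 hz3 (mem_pairStab.1 (hRD hzR)).1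
        (mem_pairStab.1 (hRD hzR)).2 h)
    · rw [hdz.eq, mul_inv_cancel_right, pow_one]
    · rw [mul_assoc, ← hdz.eq, inv_mul_cancel_left, pow_one]
  have hpR : ∀ y ∈ R, IsPGroup r (zpowers y) := fun y hy => hR.1.to_le (zpowers_le.2 hy)
  -- `r` does not divide `m`
  have hrm : ¬ r ∣ numInv H := by
    intro hrm
    haveI : Nontrivial R := ⟨⟨⟨z, hzR⟩, 1, fun e => by
      have e' : z = 1 := congrArg Subtype.val e
      rw [e', orderOf_one] at hzo
      exact hr.one_lt.ne hzo⟩⟩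
    haveI := hR.1.center_nontrivial
    obtain ⟨c, hc⟩ := exists_prime_orderOf_dvd_card' (G := center R) r (by
      obtain ⟨k, hk⟩ := IsPGroup.iff_card.1 (hR.1.to_subgroup (center R))
      rw [hk]
      refine dvd_pow_self _ fun h0 => ?_
      have := Finite.one_lt_card (α := center R)
      rw [hk, h0, pow_zero] at this
      exact lt_irrefl 1 this)
    set z₀ : G := ((c : R) : G) with hz₀
    have hz₀R : z₀ ∈ R := (c : R).2
    have hcom : ∀ x ∈ R, Commute z₀ x := fun x hx =>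
      (congrArg Subtype.val (mem_center_iff.1 c.2 ⟨x, hx⟩)).symm
    have hz₀r : z₀ ^ r = 1 := by
      have h := pow_orderOf_eq_one c
      rw [hc] at h
      exact congrArg (fun t : center R => ((t : R) : G)) h
    obtain ⟨f₀, hf₀a, hf₀b, -, hf₀⟩ := fixesThree_of_commute hTP hr2 hab (hyp z hzr) hz1 hz3 (hRD hzR) hzrk
      (hpR _ hz₀R) (hRD hz₀R) (hcom z hzR)
    have hz₀3 : FixesThree H (zpowers z₀) := fixesThree_zpowers hab hf₀a hf₀b (hRD hz₀R) hf₀
    obtain ⟨hza, hzb⟩ := mem_pairStab.1 (hRD hz₀R)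
    have hz₀1 : z₀ ≠ 1 := fun e' => hr.one_lt.ne (by
      rw [← hc, ← Subgroup.orderOf_coe, ← Subgroup.orderOf_coe, ← hz₀, e', orderOf_one])
    by_cases hrk : RankTwoAt (zpowers z₀) a
    · exact hfalse z₀ hz₀R hz₀r 1 1 (by rw [(hcom d hgR).eq, mul_inv_cancel_right, pow_one])
        (by rw [mul_assoc, ← (hcom d hgR).eq, inv_mul_cancel_left, pow_one])
        (exists_regular_two_three hH hTP hr2 hab (hyp z₀ hz₀r) hz₀1 hz₀3 hza hzb hrk)
    · obtain ⟨k, hkR, hk1, u, hu, hub, hkinv⟩ := exists_inverted_mem hH hrm hab hR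
      obtain ⟨f', hf'a, hf'b, -, hkf⟩ := fixesThree_of_commute hTP hr2 hab (hyp z₀ hz₀r) hz₀1 hz₀3 (hRD hz₀R) hrk
        (hpR k hkR) (hRD hkR) (hcom k hkR).symm
      obtain ⟨hka, hkb⟩ := mem_pairStab.1 (hRD hkR)
      haveI : Nontrivial (G ⧸ H) := ⟨⟨_, _, hab⟩⟩
      have hmov : SETrans.Mov G (G ⧸ H) k :=
        ⟨hk1, odd_of_mem_pairStab hH hab (hRD hkR), u, a, hu, hkinv, hka,
          fun e => hab (e.symm.trans hub)⟩
      rcases hHyp.weak.fix_pair hmov hka hkb hkf hab with h | h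
      · exact hf'a h
      · exact hf'b h
  have hex : Excepted R r := by
    by_contra hex
    obtain ⟨y, hyR, hy1, hyr, ⟨n, hn⟩, ⟨n', hn'⟩, hyrk⟩ :=
      exists_rankTwo_normalizing hH hHyp.weak hHyp.setting.pair hr2 hrm hab hRD hex hgR hd he
    obtain ⟨hya, hyb⟩ := mem_pairStab.1 (hRD hyR)
    exact hfalse y hyR hyr n n' hn hn' (exists_regular_two hH hHyp.weak hHyp.setting.core hHyp.setting.below
      hr2 hrm hab (hyp y hyr) hy1 hya hyb hyrk)
  haveI hcyc : IsCyclic R := hex.1 R le_rfl hR.1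
  refine ⟨hrm, hcyc, fun y hy hy1 => ⟨?_, fun h => ?_⟩⟩
  · have hc : Commute y z := congrArg Subtype.val (mul_comm' (⟨y, hy⟩ : R) ⟨z, hzR⟩)
    obtain ⟨f', hf'a, hf'b, -, hyf⟩ :=
      fixesThree_of_commute hTP hr2 hab (hyp z hzr) hz1 hz3 (hRD hzR) hzrk (hpR y hy) (hRD hy) hc
    exact fixesThree_zpowers hab hf'a hf'b (hRD hy) hyf
  · obtain ⟨j, hj⟩ := IsPGroup.iff_orderOf.1 hR.1 ⟨y, hy⟩
    rw [Subgroup.orderOf_mk] at hj
    have hj0 : j ≠ 0 := fun h0 => hy1 (by rw [← orderOf_eq_one_iff, hj, h0, pow_zero])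
    have hxo : orderOf (y ^ r ^ (j - 1)) = r := by
      rw [orderOf_pow' y (pow_ne_zero _ hr.ne_zero), hj, Nat.gcd_eq_right (pow_dvd_pow r (Nat.sub_le j 1)),
        Nat.pow_div (Nat.sub_le j 1) hr.pos, show j - (j - 1) = 1 by omega, pow_one]
    exact not_rankOne_of_rankTwoAt (RankTwoAt.mono (zpowers_le.2 (pow_mem (mem_zpowers y) _)) h)
      (hex.2 _ (pow_mem hy _) hxo)

/-- Section 2: the transfer lemma. -/
theorem transferStmt : TransferStmt.{u} := by
  intro G _ _ H hHyp hTP b hab r hr φ hφ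
  haveI := Fact.mk hr
  obtain ⟨R, -, hR⟩ := exists_pairSyl (r := r) (IsPGroup.of_bot (p := r) (G := G)) (bot_le : ⊥ ≤ stabTwo (base H) b)
  exact ⟨(transfer_of_pairSyl hHyp hTP hab φ hφ hR).1,
    fun R' hR' => (transfer_of_pairSyl hHyp hTP hab φ hφ hR').2⟩

end Cfsg.Agent.SEMain.Commute
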