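import Cfsg.Agent.Lib.SEMain.Commute.Assembly
import Cfsg.Agent.Lib.SEMain.Commute.FinishBridge
import Cfsg.Agent.Lib.SEMain.Commute.Transfer

/-!
# `WeakComm` through the commuting finish

With the transfer lemma proved, `WeakComm` follows from the three-point facts, the shape of `[D, u]` and the
commuting finish on `CommData`.
-/

set_option autoImplicit false
set_option linter.style.haveILetI false
set_option linter.unusedSectionVars false

namespace Cfsg.Agent.SEMain.Commute

open Subgroup MulAction

universe u

/-- The commuting finish: the data of `CommData` make the involutions of `H` commute. -/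
def FinishStmt : Prop :=
  ∀ (G : Type u) [Group G] [Finite G] (H : Subgroup G), Hyp H → ∀ b : G ⧸ H, base H ≠ b →
    ∀ (H₁ T : Subgroup G), CommData H b H₁ T → InvComm H

/-- `WeakComm` from the three-point facts, the shape of `[D, u]` and the commuting finish. -/
theorem weakComm_of_finish (h1 : ThreePointStmt.{u}) (h3 : TAbelianStmt.{u}) (hF : FinishStmt.{u}) :
    WeakComm.{u} := by
  intro G _ _ H hS hT hw
  have hy : Hyp H := ⟨hS, hT, hw⟩
  obtain ⟨b, hab⟩ := exists_ne_one hS.se
  by_cases hD : dZero H b = ⊥
  · exact invComm_of_dZero_bot hy hab hD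
  have hP := h1 G H hy
  obtain ⟨r, z, hz⟩ := exists_topData transferStmt hy hP hab hD
  obtain ⟨T, hTS⟩ := h3 G H hy hP b hab r z hz
  exact hF G H hy b hab (twoGen H) T (commData_of_shape transferStmt hy hP hab hTS)

end Cfsg.Agent.SEMain.Commute
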