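import Cfsg.Agent.Lib.SEMain.Commute.FinishData
import Cfsg.Agent.Lib.Char.Burnside

/-!
# A regular abelian subgroup of prime power order

If the number of involutions of `H` is a prime power then by Burnside the involutions commute modulo the
odd core.
-/

set_option autoImplicit false
set_option linter.style.haveILetI false
set_option linter.unusedSectionVars false

namespace Cfsg.Agent.SEMain

open Subgroup MulAction

universe u

variable {G : Type u} [Group G] [Finite G] {H : Subgroup G}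

/-- The odd core of a normal subgroup lies in the odd core. -/
theorem oc_le_oc {L : Subgroup G} (hLH : L ≤ H) (hn : H ≤ normalizer (L : Set G)) :
    SESolv.oc L ≤ SESolv.oc H := by
  refine SESolv.le_oc ((SESolv.oc_le L).trans hLH) (SESolv.oc_odd L) fun g hg => SEBrick.mem_normalizer_of fun x hx => ?_
  obtain ⟨y, hy, rfl⟩ := hx
  haveI : (Cfsg.oddCore L).Characteristic := FittingCores.pPrimeCore_characteristic 2
  have h1 := (inferInstance : (Cfsg.oddCore L).Characteristic).fixed (L.normalizerMonoidHom ⟨g, hn hg⟩)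
  refine ⟨L.normalizerMonoidHom ⟨g, hn hg⟩ y, ?_, rfl⟩
  rw [← h1] at hy
  exact hy

namespace CommData

variable {b : G ⧸ H} {H₁ T : Subgroup G} (h : CommData H b H₁ T)
include h

/-- A prime power number of involutions gives commutation modulo the odd core. -/
theorem commModCore_of_prime_pow (hS : Setting H) (h2 : TwoTrans H) (hab : ((1 : G) : G ⧸ H) ≠ b) {t : G}
    (ht : t ∈ H) (ht2 : orderOf t = 2) {x : G} (hxD : x ∈ H₁ ⊓ pairStab ((1 : G) : G ⧸ H) b)
    (hxfix : ∀ s ∈ T, x * s = s * x → s = 1) {l e : ℕ} (hl : l.Prime) (hcard : Nat.card T = l ^ e)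
    (hfaith : ∀ y ∈ compl b H₁ t, (∀ s ∈ T, y * s = s * y) → y = 1) : CommModCore H := by
  classical
  have hTH₁ : ∀ s ∈ T, s ∈ H₁ := fun s hs => (mem_inf.1 (h.T_le hs)).1
  let t' : H₁ := ⟨t, h.invol_mem ht ht2⟩
  have ht' : t' ≠ 1 := fun e => Invol.ne_one ht2 (congrArg Subtype.val e)
  have hmemC : ∀ g : H₁, g ∈ centralizer ({t'} : Set H₁) ↔ (g : G) * t = t * g := fun g => by
    rw [mem_centralizer_singleton_iff]
    exact ⟨fun e => congrArg Subtype.val e, fun e => Subtype.ext e⟩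
  have hindex : (centralizer ({t'} : Set H₁)).index = l ^ e := by
    rw [← hcard, index_eq_card]
    refine (Nat.card_eq_of_bijective (fun s : T => ((⟨s, hTH₁ s s.2⟩ : H₁) : H₁ ⧸ _)) ⟨fun a c e => ?_,
      fun q => ?_⟩).symm
    · refine inv_mul_eq_one.1 (Subtype.ext (h.free _ (a⁻¹ * c).2 t ht ht2 ?_))
      exact (hmemC _).1 (QuotientGroup.eq.1 e)
    · obtain ⟨g, rfl⟩ := QuotientGroup.mk_surjective q
      have hgH : (g : G) ∈ H := h.le g.2
      obtain ⟨s, hs, hse⟩ := h.trans t ((g : G) * t * (g : G)⁻¹) ht (mul_mem (mul_mem hgH ht) (inv_mem hgH)) ht2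
        ((Invol.order_conj _ _).trans ht2)
      refine ⟨⟨s, hs⟩, QuotientGroup.eq.2 ((hmemC _).2 ?_)⟩
      show s⁻¹ * (g : G) * t = t * (s⁻¹ * g)
      calc s⁻¹ * (g : G) * t = s⁻¹ * ((g : G) * t * (g : G)⁻¹) * g := by group
        _ = s⁻¹ * (s * t * s⁻¹) * g := by rw [hse]
        _ = t * (s⁻¹ * g) := by group
  obtain ⟨n, ρ, hρ, hne, hnorm⟩ := Char.exists_full_norm hl t' ht' hindex
  obtain ⟨ω, hω⟩ := (Char.norm_char_eq_iff ρ t').mp hnorm
  set N := ρ.ker with hN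
  have hNn : N.Normal := inferInstance
  have hNtop : N ≠ ⊤ := by
    intro htop
    haveI : Fintype H₁ := Fintype.ofFinite _
    apply hne
    have hone : ∀ g, ρ g = 1 := fun g => show g ∈ N from htop ▸ Subgroup.mem_top g
    have hn : (Module.finrank ℂ (Fin n → ℂ) : ℂ) = 1 := by
      have h1 := Char.classInner_self_irr (haveI := hρ; Char.isIrrCharacter_of_rep ρ)
      have hc : ρ.character = fun _ => (Module.finrank ℂ (Fin n → ℂ) : ℂ) := funext fun g => by
        simp [Representation.character, hone g]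
      rw [hc] at h1
      simp [Cfsg.classInner] at h1
      have h2 : n * n = 1 := by exact_mod_cast h1
      simp [Nat.eq_one_of_mul_eq_one_left h2]
    funext g
    simpa [Representation.character, hone g] using hn
  have hcomm : ∀ g : H₁, g * t' * g⁻¹ * t'⁻¹ ∈ N := fun g => by
    have hc : ρ g * ρ t' = ρ t' * ρ g := by
      rw [hω]
      simp [← Module.End.one_eq_id]
    rw [hN, MonoidHom.mem_ker, map_mul, map_mul, map_mul, hc, mul_assoc (ρ t'), ← map_mul, mul_inv_cancel,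
      map_one, mul_one, ← map_mul, mul_inv_cancel, map_one]
  set N' := N.map H₁.subtype with hN'
  have hN'le : N' ≤ H₁ := map_subtype_le _
  have hN'n : H₁ ≤ normalizer (N' : Set G) := SESolv.le_normalizer_map hNn
  have hdisj : ∀ s ∈ T, s ∈ N' → s = 1 := by
    intro s hs hsN
    obtain ⟨s', hs', rfl⟩ := hsN
    by_contra hs1
    exact hNtop (h.normal_eq_top hS h2 hab hxD hxfix hNn hs (fun e => hs1 (congrArg Subtype.val e)) hs')
  have hconj : ∀ s : G, s ∈ H → orderOf s = 2 → ∃ g : H₁, (g : G) * t * (g : G)⁻¹ = s := fun s hs hs2 => by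
    obtain ⟨y, hy, hye⟩ := h.trans t s ht hs ht2 hs2
    exact ⟨⟨y, hTH₁ y hy⟩, hye⟩
  by_cases htN : t' ∈ N
  · obtain ⟨l', k, hl', hk, hkl⟩ := h.exists_prime_elt hS
    haveI := Fact.mk hl'
    have hk1 : k ≠ 1 := fun e => hl'.one_lt.ne (by rw [← hkl, e, orderOf_one])
    refine commModCore_of_regular_of hS.se hab h.le h.norm (r := l') (by rw [← hkl, pow_orderOf_eq_one])
      (hTH₁ k hk) (mem_inf.1 (h.T_le hk)).2 (h.onlyTwo hk hk1) hN'le hN'n ht2 ⟨t', htN, rfl⟩ fun m hm hmb => ?_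
    have hmD : m ∈ H₁ ⊓ pairStab ((1 : G) : G ⧸ H) b :=
      mem_inf.2 ⟨hN'le hm, mem_pairStab.2 ⟨SEBrick.fix_base_iff.2 (h.le (hN'le hm)), hmb⟩⟩
    have hcent : ∀ s ∈ T, m * s = s * m := fun s hs => by
      refine mul_inv_eq_iff_eq_mul.1 (mul_inv_eq_one.1 (hdisj _ (mul_mem (h.T_norm m hmD s hs) (inv_mem hs)) ?_))
      rw [show m * s * m⁻¹ * s⁻¹ = m * (s * m⁻¹ * s⁻¹) by group]
      exact mul_mem hm (SEBrick.conj_mem_of (hN'n (hTH₁ s hs)) (inv_mem hm))
    have hmH : m ∈ H := h.mem_H hmD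
    obtain ⟨s, hs, hse⟩ := h.trans t (m * t * m⁻¹) ht (mul_mem (mul_mem hmH ht) (inv_mem hmH)) ht2
      ((Invol.order_conj _ _).trans ht2)
    have hf := hfaith (s⁻¹ * m) (mem_compl.2 ⟨mul_mem (inv_mem (h.T_le hs)) hmD, by
      calc s⁻¹ * m * t = s⁻¹ * (m * t * m⁻¹) * m := by group
        _ = s⁻¹ * (s * t * s⁻¹) * m := by rw [hse]
        _ = t * (s⁻¹ * m) := by group⟩) fun y hy => by
      rw [mul_assoc, hcent y hy, ← mul_assoc, ← mul_assoc, h.T_comm _ (inv_mem hs) _ hy]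
    rw [inv_mul_eq_one] at hf
    subst hf
    exact hdisj _ hs hm
  · intro s₁ s₂ hs₁ hs₂ hs₁2 hs₂2
    refine oc_le_oc h.le h.norm (SESolv.le_oc hN'le ?_ hN'n ?_)
    · rw [← Nat.not_even_iff_odd]
      intro he
      obtain ⟨v, hv, hv2⟩ := Invol.exists_invol he
      obtain ⟨g, hg⟩ := hconj v (h.le (hN'le hv)) hv2
      obtain ⟨v', hv', rfl⟩ := hv
      refine htN ?_
      have he' : g * t' * g⁻¹ = v' := Subtype.ext hg
      have := hNn.conj_mem v' hv' g⁻¹
      rwa [← he', inv_inv, show g⁻¹ * (g * t' * g⁻¹) * g = t' by group] at this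
    · obtain ⟨g₁, hg₁⟩ := hconj s₁ hs₁ hs₁2
      obtain ⟨g₂, hg₂⟩ := hconj s₂ hs₂ hs₂2
      have ht2' : t' * t' = 1 := Subtype.ext (Invol.mul_self ht2)
      refine ⟨g₁ * t' * g₁⁻¹ * (g₂ * t' * g₂⁻¹) * (g₁ * t' * g₁⁻¹ * (g₂ * t' * g₂⁻¹)), ?_, ?_⟩
      · rw [SetLike.mem_coe, ← QuotientGroup.eq_one_iff]
        have hq : ∀ g : H₁, ((g * t' * g⁻¹ : H₁) : H₁ ⧸ N) = (t' : H₁ ⧸ N) := fun g => by
          have := (QuotientGroup.eq_one_iff _).2 (hcomm g)
          rwa [QuotientGroup.mk_mul, QuotientGroup.mk_inv, mul_inv_eq_one] at this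
        simp only [QuotientGroup.mk_mul _ (g₁ * t' * g₁⁻¹), QuotientGroup.mk_mul _ (g₁ * t' * g₁⁻¹ * _), hq]
        simp only [← QuotientGroup.mk_mul, ht2', one_mul, mul_one, QuotientGroup.mk_one]
      · show ((g₁ * t' * g₁⁻¹ * (g₂ * t' * g₂⁻¹) * (g₁ * t' * g₁⁻¹ * (g₂ * t' * g₂⁻¹)) : H₁) : G) = _
        simp only [Subgroup.coe_mul, Subgroup.coe_inv]
        rw [show ((t' : H₁) : G) = t from rfl, hg₁, hg₂]

end CommData

end Cfsg.Agent.SEMain
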