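import Mathlib.Algebra.CharP.Lemmas
import Mathlib.Algebra.Field.ZMod
import Mathlib.Data.Matrix.Mul
import Mathlib.Data.Matrix.Basic
import Mathlib.LinearAlgebra.Matrix.CharP
import Mathlib.GroupTheory.GroupAction.Basic
import Mathlib.Algebra.BigOperators.Group.Finset.Piecewise

/-!
# Suborbits and a cyclic Sylow subgroup of a regular abelian subgroup

Schur's second theorem on multipliers: where only equality and the whole relation are invariant equivalences
and a regular abelian subgroup has just one subgroup of prime order `l`, every suborbit meets that subgroup.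
-/

set_option autoImplicit false
set_option linter.style.haveILetI false
set_option linter.unusedSectionVars false

namespace Cfsg.Agent.SEMain

open MulAction

universe u v

variable {X : Type u} [Group X] [Finite X] {Ω : Type v} [Finite Ω] [MulAction X Ω]

/-- Every suborbit meets the points obtained from the base by the elements of order dividing `l`. -/
theorem exists_root_in_suborbit {T : Subgroup X} (hab : ∀ x ∈ T, ∀ y ∈ T, x * y = y * x)
    (hfree : ∀ x ∈ T, ∀ p : Ω, x • p = p → x = 1) (htr : ∀ p q : Ω, ∃ x ∈ T, x • p = q) {l : ℕ}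
    [Fact l.Prime] (hex : ∃ k : T, k ≠ 1 ∧ k ^ l = 1) (huniq : Nat.card {k : T // k ^ l = 1} ≤ l)
    (hprim : ∀ r : Ω → Ω → Prop, Equivalence r → (∀ (g : X) p q, r p q → r (g • p) (g • q)) →
      (∀ p q, r p q → p = q) ∨ ∀ p q, r p q)
    {t s : Ω} (hst : s ≠ t) : ∃ k : T, k ^ l = 1 ∧ ∃ g : X, g • t = t ∧ g • s = (k : X) • t := by
  classical
  haveI := Fintype.ofFinite Ω
  haveI := Fintype.ofFinite T
  by_contra hno
  push Not at hno
  haveI : Nonempty Ω := ⟨t⟩
  set Nb : Ω → Ω → Prop := fun p q => ∃ g : X, g • t = p ∧ g • s = q with hNb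
  have hinv : ∀ (g : X) p q, Nb (g • p) (g • q) ↔ Nb p q := by
    intro g p q
    constructor
    · rintro ⟨h, h1, h2⟩
      exact ⟨g⁻¹ * h, by rw [mul_smul, h1, inv_smul_smul], by rw [mul_smul, h2, inv_smul_smul]⟩
    · rintro ⟨h, h1, h2⟩
      exact ⟨g * h, by rw [mul_smul, h1], by rw [mul_smul, h2]⟩
  have hcancel : ∀ {x y : T} {p : Ω}, (x : X) • p = (y : X) • p → x = y := by
    intro x y p e
    refine (inv_mul_eq_one.1 (Subtype.ext ?_)).symm
    refine hfree _ (y⁻¹ * x).2 p ?_
    rw [Subgroup.coe_mul, mul_smul, Subgroup.coe_inv, inv_smul_eq_iff]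
    exact e
  set S := Finset.univ.filter fun k : T => Nb t ((k : X) • t) with hS
  have hmemS : ∀ k : T, k ∈ S ↔ Nb t ((k : X) • t) := fun k => by simp [hS]
  -- the adjacency matrix and the permutation matrices of `T`
  let P : T → Matrix Ω Ω (ZMod l) := fun k => Matrix.of fun p q => if (k : X) • p = q then 1 else 0
  have hPmul : ∀ a b : T, P a * P b = P (a * b) := by
    intro a b
    ext p q
    simp only [P, Matrix.of_apply, Matrix.mul_apply, ite_mul, one_mul, zero_mul, Finset.sum_ite_eq, Finset.mem_univ,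
      if_true]
    rw [← mul_smul, ← Subgroup.coe_mul, show b * a = a * b from Subtype.ext (hab _ b.2 _ a.2)]
  have hPpow : ∀ (a : T) (n : ℕ), P a ^ (n + 1) = P (a ^ (n + 1)) := by
    intro a n
    induction n with
    | zero => simp
    | succ n ih => rw [pow_succ, ih, hPmul, ← pow_succ]
  let M : Matrix Ω Ω (ZMod l) := Matrix.of fun p q => if Nb p q then 1 else 0
  have hM : M = ∑ k ∈ S, P k := by
    ext p q
    obtain ⟨a, ha, rfl⟩ := htr t p
    obtain ⟨b, hb, rfl⟩ := htr (a • t) q
    rw [Matrix.sum_apply]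
    simp only [P, M, Matrix.of_apply]
    rw [Finset.sum_congr rfl fun (k : T) _ => if_congr (⟨fun e => hcancel (y := (⟨b, hb⟩ : T)) e,
      fun e => by rw [e]⟩ : ((k : X) • a • t = b • a • t) ↔ k = (⟨b, hb⟩ : T)) rfl rfl]
    rw [Finset.sum_ite_eq']
    refine if_congr ?_ rfl rfl
    rw [hmemS, ← hinv a t ((b : X) • t), ← mul_smul a b, hab a ha b hb, mul_smul]
  haveI : CharP (Matrix Ω Ω (ZMod l)) l := inferInstance
  have hcomm : ∀ a b : T, Commute (P a) (P b) := fun a b => by
    rw [commute_iff_eq, hPmul, hPmul, show a * b = b * a from Subtype.ext (hab _ a.2 _ b.2)]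
  have hfrob : ∀ U : Finset T, (∑ k ∈ U, P k) ^ l = ∑ k ∈ U, P (k ^ l) := by
    intro U
    induction U using Finset.induction with
    | empty => simp [(Fact.out : l.Prime).ne_zero]
    | @insert a U ha ih =>
      rw [Finset.sum_insert ha, Finset.sum_insert ha,
        add_pow_char_of_commute _ (Commute.sum_right _ _ _ fun b _ => hcomm a b), ih]
      have hl : P a ^ l = P (a ^ l) := by
        have := hPpow a (l - 1)
        rwa [Nat.sub_add_cancel (Fact.out : l.Prime).one_le] at this
      rw [hl]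
  have hMinv : ∀ (n : ℕ) (g : X) p q, (M ^ n) (g • p) (g • q) = (M ^ n) p q := by
    intro n
    induction n with
    | zero =>
      intro g p q
      simp [Matrix.one_apply]
    | succ n ih =>
      intro g p q
      rw [pow_succ, Matrix.mul_apply, Matrix.mul_apply]
      refine (Fintype.sum_equiv (MulAction.toPerm g) _ _ fun z => ?_).symm
      simp only [MulAction.toPerm_apply, ih, M, Matrix.of_apply]
      exact congrArg _ (if_congr (hinv g z q).symm rfl rfl)
  have hMl : ∀ p q, (M ^ l) p q = ((S.filter fun k => ((k ^ l : T) : X) • p = q).card : ZMod l) := by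
    intro p q
    rw [hM, hfrob, Matrix.sum_apply, Finset.card_filter, Nat.cast_sum]
    exact Finset.sum_congr rfl fun k _ => by simp [P]
  -- the multiplier relation is contained in a proper invariant equivalence
  set r₀ : Ω → Ω → Prop := fun p q => (M ^ l) p q ≠ 0 with hr₀
  have hr₀inv : ∀ (g : X) p q, r₀ p q → r₀ (g • p) (g • q) := fun g p q h => by
    simpa [hr₀, hMinv] using h
  have hpow : ∀ p q, Relation.EqvGen r₀ p q → ∃ w : T, ((w ^ l : T) : X) • p = q := by
    intro p q h
    induction h with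
    | rel p q h =>
      rw [hr₀] at h
      simp only [hMl] at h
      obtain ⟨k, hk⟩ : (S.filter fun k => ((k ^ l : T) : X) • p = q).Nonempty := by
        by_contra he
        rw [Finset.not_nonempty_iff_eq_empty] at he
        exact h (by rw [he, Finset.card_empty, Nat.cast_zero])
      exact ⟨k, (Finset.mem_filter.1 hk).2⟩
    | refl p => exact ⟨1, by simp⟩
    | symm p q _ ih =>
      obtain ⟨w, rfl⟩ := ih
      exact ⟨w⁻¹, by rw [inv_pow, Subgroup.coe_inv, inv_smul_smul]⟩
    | trans p q z _ _ ih ih' =>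
      obtain ⟨w, rfl⟩ := ih
      obtain ⟨w', rfl⟩ := ih'
      refine ⟨w' * w, ?_⟩
      rw [← mul_smul, ← Subgroup.coe_mul, Commute.mul_pow (Subtype.ext (hab _ w'.2 _ w.2) : Commute w' w)]
  obtain ⟨k₀, hk₀1, hk₀⟩ := hex
  have hzero : ∀ p q, r₀ p q → p = q := by
    rcases hprim (Relation.EqvGen r₀) (Relation.EqvGen.is_equivalence r₀) (fun g p q h => by
      induction h with
      | rel p q h => exact .rel _ _ (hr₀inv g p q h)
      | refl p => exact .refl _
      | symm p q _ ih => exact .symm _ _ ih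
      | trans p q z _ _ ih ih' => exact .trans _ _ _ ih ih') with h | h
    · exact fun p q hpq => h p q (.rel _ _ hpq)
    · exfalso
      have hsurj : Function.Surjective fun w : T => w ^ l := fun v => by
        obtain ⟨w, hw⟩ := hpow t ((v : X) • t) (h _ _)
        exact ⟨w, hcancel hw⟩
      exact hk₀1 ((Finite.injective_iff_surjective.2 hsurj) (a₁ := k₀) (a₂ := 1) (by simp [hk₀]))
  -- so the suborbit is a union of cosets of the roots of unity
  have hper : ∀ k ∈ S, ∀ c : T, c ^ l = 1 → k * c ∈ S := by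
    intro k hk c hc
    have hkl : k ^ l ≠ 1 := fun e => by
      obtain ⟨g, h1, h2⟩ := (hmemS k).1 hk
      exact hno k e g h1 h2
    have h0 : (M ^ l) t (((k ^ l : T) : X) • t) = 0 := by
      by_contra hne
      exact hkl (Subtype.ext (hfree _ (k ^ l).2 t (hzero _ _ hne).symm))
    rw [hMl, ZMod.natCast_eq_zero_iff] at h0
    set U := S.filter fun z => ((z ^ l : T) : X) • t = ((k ^ l : T) : X) • t with hU
    set R := Finset.univ.filter fun z : T => z ^ l = k ^ l with hR
    have hUR : U ⊆ R := fun z hz => by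
      rw [hR, Finset.mem_filter]
      exact ⟨Finset.mem_univ z, hcancel (Finset.mem_filter.1 hz).2⟩
    have hkU : k ∈ U := Finset.mem_filter.2 ⟨hk, rfl⟩
    have hcardR : R.card ≤ l := by
      refine le_trans ?_ huniq
      rw [Nat.card_eq_fintype_card, Fintype.card_subtype]
      refine Finset.card_le_card_of_injOn (fun z => k⁻¹ * z) (fun z hz => ?_)
        fun a _ b _ e => mul_left_cancel e
      simp only [Finset.mem_coe, hR, Finset.mem_filter, Finset.mem_univ, true_and] at hz ⊢
      rw [Commute.mul_pow (Subtype.ext (hab _ (k⁻¹).2 _ z.2) : Commute k⁻¹ z), hz, inv_pow,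
        inv_mul_cancel]
    have hle : R.card ≤ U.card :=
      hcardR.trans (Nat.le_of_dvd (Finset.card_pos.2 ⟨k, hkU⟩) h0)
    have hmem : k * c ∈ R := by
      rw [hR, Finset.mem_filter]
      exact ⟨Finset.mem_univ _, by
        rw [Commute.mul_pow (Subtype.ext (hab _ k.2 _ c.2) : Commute k c), hc, mul_one]⟩
    rw [← Finset.eq_of_subset_of_card_le hUR hle] at hmem
    exact (Finset.mem_filter.1 hmem).1
  -- points with the same neighbours
  set R' : Ω → Ω → Prop := fun p q => ∀ z, Nb p z ↔ Nb q z with hR'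
  rcases hprim R' ⟨fun _ _ => Iff.rfl, fun h z => (h z).symm, fun h h' z => (h z).trans (h' z)⟩
      (fun g p q h z => by
        rw [← hinv g⁻¹ (g • p) z, ← hinv g⁻¹ (g • q) z, inv_smul_smul, inv_smul_smul]
        exact h _) with h | h
  · refine hk₀1 (Subtype.ext (hfree _ k₀.2 t (h t ((k₀ : X) • t) fun z => ?_).symm))
    obtain ⟨b, hb, rfl⟩ := htr t z
    have e : Nb ((k₀ : X) • t) (b • t) ↔ (⟨b, hb⟩ * k₀⁻¹ : T) ∈ S := by
      rw [hmemS, ← hinv (k₀ : X) t, ← mul_smul, ← Subgroup.coe_mul,
        show k₀ * (⟨b, hb⟩ * k₀⁻¹) = ⟨b, hb⟩ from Subtype.ext (by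
          rw [Subgroup.coe_mul, Subgroup.coe_mul, Subgroup.coe_inv, hab _ k₀.2 _ (mul_mem hb (inv_mem k₀.2)),
            inv_mul_cancel_right])]
    rw [e, ← hmemS ⟨b, hb⟩]
    refine ⟨fun hm => hper _ hm _ (by rw [inv_pow, hk₀, inv_one]), fun hm => ?_⟩
    have := hper _ hm k₀ hk₀
    rwa [inv_mul_cancel_right] at this
  · obtain ⟨g, h1, h2⟩ := (h t s s).1 ⟨1, one_smul _ _, one_smul _ _⟩
    exact hst (MulAction.injective g (h1.trans h2.symm)).symm

end Cfsg.Agent.SEMain
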