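import Cfsg.Agent.Lib.SEMain.Commute.FinishCentral
import Cfsg.Agent.Lib.SEMain.Commute.FinishPrimePow
import Cfsg.Agent.Lib.SEMain.Commute.FinishSchur

/-!
# The commuting finish

An abelian subgroup of a two-point stabiliser regular on the involutions of `H`, inside a normal subgroup
without odd abelian quotient and with excepted top primes, makes the involutions of `H` commute.
-/

set_option autoImplicit false
set_option linter.style.haveILetI false
set_option linter.unusedSectionVars false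

namespace Cfsg.Agent.SEMain

open Subgroup MulAction

universe u

variable {G : Type u} [Group G] [Finite G] {H : Subgroup G}

namespace CommData

variable {b : G ⧸ H} {H₁ T : Subgroup G} (h : CommData H b H₁ T)
include h

/-- A complement without fixed points on `T` gives a Frobenius pair. -/
theorem invComm_of_free (hS : Setting H) (hab : ((1 : G) : G ⧸ H) ≠ b) {t : G} (ht : t ∈ H)
    (ht2 : orderOf t = 2)
    (hfree : ∀ y ∈ compl b H₁ t, (orderOf y).Prime → ∀ z ∈ T, z * y = y * z → z = 1) : InvComm H := by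
  classical
  letI : MulAction H₁ (InvolIn H) := MulAction.compHom _ (inclusion h.le)
  have hsmul : ∀ (g : H₁) (p : InvolIn H), (((g • p).1 : H) : G) = g * ((p.1 : H) : G) * (g : G)⁻¹ :=
    fun g p => rfl
  have hext : ∀ {p q : InvolIn H}, ((p.1 : H) : G) = ((q.1 : H) : G) → p = q :=
    fun e => Subtype.ext (Subtype.ext e)
  let mk : ∀ s : G, s ∈ H → orderOf s = 2 → InvolIn H := fun s hs hs2 =>
    ⟨⟨s, hs⟩, (Subgroup.orderOf_mk s hs).trans hs2⟩
  have hval : ∀ p : InvolIn H, orderOf ((p.1 : H) : G) = 2 := fun p => (Subgroup.orderOf_coe p.1).trans p.2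
  haveI := Fintype.ofFinite H₁
  haveI := Fintype.ofFinite (InvolIn H)
  set D := H₁ ⊓ pairStab ((1 : G) : G ⧸ H) b with hD
  have hTH₁ : T ≤ H₁ := h.T_le.trans inf_le_left
  have key : ∀ s : InvolIn H, (∀ p q : InvolIn H, p ≠ s → q ≠ s → ∃ g : H₁, g • s = s ∧ g • p = q) ∨
      (∀ (g : H₁) (p q : InvolIn H), g • p = q → g • q = p → p = q) := fun s =>
    trans_or_no_swap s (D := D.subgroupOf H₁) (T := T.subgroupOf H₁)
      (fun x hx => mem_subgroupOf.2 (h.T_le (mem_subgroupOf.1 hx)))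
      (by rw [Nat.card_congr (subgroupOfEquivOfLe (inf_le_left : D ≤ H₁)).toEquiv]
          exact (pairStab_odd hS.se hab).of_dvd_nat (card_dvd_of_le inf_le_right))
      (fun d hd x hx => mem_subgroupOf.2 (h.T_norm _ (mem_subgroupOf.1 hd) _ (mem_subgroupOf.1 hx)))
      (fun x hx y hy => Subtype.ext (h.T_comm _ (mem_subgroupOf.1 hx) _ (mem_subgroupOf.1 hy)))
      (fun d hd hdT x hx e => by
        have hd' : (d : G) ∈ D := mem_subgroupOf.1 hd
        have hdH : (d : G) ∈ H := h.mem_H hd'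
        obtain ⟨v, hv, hve⟩ := h.trans t ((d : G) * t * (d : G)⁻¹) ht
          (mul_mem (mul_mem hdH ht) (inv_mem hdH)) ht2 ((Invol.order_conj _ _).trans ht2)
        have hf : v⁻¹ * (d : G) ∈ compl b H₁ t := mem_compl.2 ⟨mul_mem (inv_mem (h.T_le hv)) hd', by
          calc v⁻¹ * (d : G) * t = v⁻¹ * ((d : G) * t * (d : G)⁻¹) * d := by group
            _ = v⁻¹ * (v * t * v⁻¹) * d := by rw [hve]
            _ = t * (v⁻¹ * d) := by group⟩
        have hf1 : v⁻¹ * (d : G) ≠ 1 := fun e1 =>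
          hdT (mem_subgroupOf.2 ((inv_mul_eq_one.1 e1) ▸ hv))
        obtain ⟨i, hi⟩ := exists_pow_prime hf1
        have hxd : Commute (x : G) (v⁻¹ * d) :=
          Commute.mul_right (h.T_comm _ (mem_subgroupOf.1 hx) _ (inv_mem hv))
            (congrArg Subtype.val e.symm : (x : G) * d = d * x)
        exact Subtype.ext (hfree _ (pow_mem hf i) hi _ (mem_subgroupOf.1 hx) (hxd.pow_right i).eq))
      (fun g x hx hx1 hgx => by
        refine mem_subgroupOf.2 (mem_inf.2 ⟨g.2, mem_pairStab.2 ⟨SEBrick.fix_base_iff.2 (h.le g.2), ?_⟩⟩)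
        have h1 : ((g : G) * (x : G) * (g : G)⁻¹) • b = b :=
          (mem_pairStab.1 (mem_inf.1 (h.T_le (mem_subgroupOf.1 hgx))).2).2
        have h2 : (x : G) • (g : G)⁻¹ • b = (g : G)⁻¹ • b := by
          rw [eq_inv_smul_iff, ← mul_smul, ← mul_smul]; exact h1
        have hga : (g : G) • ((1 : G) : G ⧸ H) = ((1 : G) : G ⧸ H) := SEBrick.fix_base_iff.2 (h.le g.2)
        rcases h.semi _ (mem_subgroupOf.1 hx) (fun h' => hx1 (Subtype.ext h')) _ h2 with e | e
        · rw [inv_smul_eq_iff, hga] at e; exact absurd e.symm hab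
        · exact (inv_smul_eq_iff.1 e).symm)
      (fun x hx hx1 p he => hx1 (Subtype.ext (h.free _ (mem_subgroupOf.1 hx) _ p.1.2 (hval p)
        (mul_inv_eq_iff_eq_mul.1 ((hsmul x p).symm.trans (congrArg (fun z : InvolIn H => ((z.1 : H) : G)) he))))))
      (fun p => by
        obtain ⟨x, hx, he⟩ := h.trans ((s.1 : H) : G) ((p.1 : H) : G) s.1.2 p.1.2 (hval s) (hval p)
        exact ⟨⟨x, hTH₁ hx⟩, mem_subgroupOf.2 hx, hext he⟩)
  by_cases hns : ∀ (g : H₁) (p q : InvolIn H), g • p = q → g • q = p → p = q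
  · intro s v hs hv hs2 hv2
    set g : H₁ := ⟨s, h.invol_mem hs hs2⟩ with hg
    have hgg : g * g = 1 := Subtype.ext (Invol.mul_self hs2)
    have h1 := hns g (mk v hv hv2) _ rfl (by rw [← mul_smul, hgg, one_smul])
    have h2 : v = s * v * s⁻¹ := congrArg (fun z : InvolIn H => ((z.1 : H) : G)) h1
    exact (eq_mul_inv_iff_mul_eq.1 h2).symm
  · intro s v hs hv hs2 hv2
    by_cases hsv : s = v
    · rw [hsv]
    obtain ⟨p₀, q₀, hp₀, hq₀, hp₀2, hq₀2, hpq, hc₀⟩ := hS.pair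
    obtain ⟨w, hw, hwe⟩ := h.trans s p₀ hs hp₀ hs2 hp₀2
    have hwH : w ∈ H := h.mem_H (h.T_le hw)
    set g₁ : H₁ := ⟨w, hTH₁ hw⟩ with hg₁
    have hne : g₁ • mk v hv hv2 ≠ mk p₀ hp₀ hp₀2 := fun e => hsv (by
      have e' : w * v * w⁻¹ = p₀ := congrArg (fun z : InvolIn H => ((z.1 : H) : G)) e
      rw [← hwe] at e'
      exact (mul_left_cancel (mul_right_cancel e')).symm)
    obtain ⟨g, hg1, hg2⟩ := ((key (mk p₀ hp₀ hp₀2)).resolve_right hns) (mk q₀ hq₀ hq₀2) (g₁ • mk v hv hv2)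
      (fun e => hpq (congrArg (fun z : InvolIn H => ((z.1 : H) : G)) e).symm) hne
    have e1 : (g : G) * p₀ * (g : G)⁻¹ = p₀ := congrArg (fun z : InvolIn H => ((z.1 : H) : G)) hg1
    have e2 : (g : G) * q₀ * (g : G)⁻¹ = w * v * w⁻¹ := congrArg (fun z : InvolIn H => ((z.1 : H) : G)) hg2
    have e3 : p₀ * (w * v * w⁻¹) = w * v * w⁻¹ * p₀ := by
      rw [← e2]
      conv_lhs => rw [← e1]
      conv_rhs => arg 2; rw [← e1]
      calc (g : G) * p₀ * (g : G)⁻¹ * ((g : G) * q₀ * (g : G)⁻¹) = g * (p₀ * q₀) * (g : G)⁻¹ := by group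
        _ = g * (q₀ * p₀) * (g : G)⁻¹ := by rw [hc₀]
        _ = _ := by group
    rw [← hwe] at e3
    calc s * v = w⁻¹ * (w * s * w⁻¹ * (w * v * w⁻¹)) * w := by group
      _ = w⁻¹ * (w * v * w⁻¹ * (w * s * w⁻¹)) * w := by rw [e3]
      _ = v * s := by group

/-- The involutions of `H` commute. -/
theorem invComm (hS : Setting H) (h2 : TwoTrans H) (hw : SETrans.Weak G (G ⧸ H) ((1 : G) : G ⧸ H))
    (hab : ((1 : G) : G ⧸ H) ≠ b) : InvComm H := by
  classical
  obtain ⟨t, -, ht, -, ht2, -, -, -⟩ := hS.pair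
  by_cases hJ : ∃ y ∈ compl b H₁ t, (orderOf y).Prime ∧ ∃ z ∈ T, z ≠ 1 ∧ z * y = y * z
  swap
  · push Not at hJ
    exact h.invComm_of_free hS hab ht ht2 fun y hy hp z hz hzy => by
      by_contra hz1
      exact hJ y hy hp z hz hz1 hzy
  obtain ⟨y₀, hy₀, hy₀p, z₀, hz₀, hz₀1, hz₀y⟩ := hJ
  -- an element centralising `T` centralises all involutions
  by_cases hall : ∃ y ∈ compl b H₁ t, (orderOf y).Prime ∧ ∀ z ∈ T, z * y = y * z
  · obtain ⟨y, hy, hyp, hyT⟩ := hall
    intro s v hs hv hs2 hv2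
    have hcy : ∀ s : G, s ∈ H → orderOf s = 2 → s * y = y * s := fun s hs hs2 => by
      obtain ⟨x, hx, rfl⟩ := h.trans t s ht hs ht2 hs2
      exact (Commute.mul_left (Commute.mul_left (hyT x hx : Commute x y) (mem_compl.1 hy).2.symm)
        (Commute.inv_left (hyT x hx : Commute x y))).eq
    exact h.comm_cent hS hw hab hy hyp hz₀ hz₀1 (hyT z₀ hz₀) hs hv hs2 hv2 (hcy s hs hs2) (hcy v hv hv2)
  push Not at hall
  have hfaith : ∀ y ∈ compl b H₁ t, (∀ s ∈ T, y * s = s * y) → y = 1 := fun y hy hc => by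
    by_contra hy1
    obtain ⟨i, hi⟩ := exists_pow_prime hy1
    obtain ⟨z, hz, hne⟩ := hall (y ^ i) (pow_mem hy i) hi
    exact hne (Commute.pow_left (hc z hz : Commute y z) i).eq.symm
  -- a top prime and an element without fixed points
  set C := compl b H₁ t with hC
  have hCodd : Odd (Nat.card C) :=
    (pairStab_odd hS.se hab).of_dvd_nat (card_dvd_of_le (inf_le_left.trans inf_le_right))
  haveI : Nontrivial C := ⟨⟨⟨y₀, hy₀⟩, 1, fun e => hy₀p.one_lt.ne (by
    rw [show y₀ = 1 from congrArg Subtype.val e, orderOf_one])⟩⟩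
  obtain ⟨r, hr, hrC, φ, hφ⟩ := exists_hom_of_solvable (A := C) (OddChar.oddSolvable _ hCodd)
  haveI := Fact.mk hr
  obtain ⟨x', hx'⟩ := exists_prime_orderOf_dvd_card' r hrC
  have hxD : (x' : G) ∈ H₁ ⊓ pairStab ((1 : G) : G ⧸ H) b := (mem_compl.1 x'.2).1
  have hxfix := (h.top_compl ht ht2 hr hφ).2.2.2 x' hxD (by rw [Subgroup.orderOf_coe, hx'])
  by_cases hbig : ∀ y ∈ C, (orderOf y).Prime → ∀ (l : ℕ), l.Prime → ∀ k ∈ T, orderOf k = l →
      k * y = y * k → l < Nat.card {s : T // s ^ l = 1}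
  · by_cases hmix : ∀ q : ℕ, ∃ l : ℕ, l.Prime ∧ l ∣ Nat.card T ∧ l ≠ q
    · exact (h.false_of_rankTwo hS hw hab ht ht2 hbig hmix hy₀ hy₀p hz₀ hz₀1 hz₀y).elim
    -- a prime power
    push Not at hmix
    obtain ⟨q, hq⟩ := hmix
    obtain ⟨l, k, hl, hk, hkl⟩ := h.exists_prime_elt hS
    have hlT : l ∣ Nat.card T := hkl ▸ (Subgroup.orderOf_mk k hk).symm ▸ orderOf_dvd_natCard (⟨k, hk⟩ : T)
    have hlq := hq l hl hlT
    exact comm_of_weak_of_commModCore hS.se hw
      (h.commModCore_of_prime_pow hS h2 hab ht ht2 hxD hxfix (l := l) hl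
        (Nat.eq_prime_pow_of_unique_prime_dvd Nat.card_pos.ne'
          fun {d} hd hdT => (hq d hd hdT).trans hlq.symm) hfaith)
  -- Schur
  push Not at hbig
  obtain ⟨y, hy, hyp, l, hl, k, hk, hkl, hky, huniq⟩ := hbig
  haveI := Fact.mk hl
  letI : MulAction H₁ (InvolIn H) := MulAction.compHom _ (inclusion h.le)
  have hext : ∀ {p q : InvolIn H}, ((p.1 : H) : G) = ((q.1 : H) : G) → p = q :=
    fun e => Subtype.ext (Subtype.ext e)
  have hval : ∀ p : InvolIn H, orderOf ((p.1 : H) : G) = 2 := fun p => (Subgroup.orderOf_coe p.1).trans p.2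
  have hTH₁ : T ≤ H₁ := h.T_le.trans inf_le_left
  have hk1 : k ≠ 1 := fun e => hl.one_lt.ne (by rw [← hkl, e, orderOf_one])
  have htr : ∀ p q : InvolIn H, ∃ w ∈ T.subgroupOf H₁, w • p = q := fun p q => by
    obtain ⟨w, hw', he⟩ := h.trans _ _ p.1.2 q.1.2 (hval p) (hval q)
    exact ⟨⟨w, hTH₁ hw'⟩, mem_subgroupOf.2 hw', hext he⟩
  have hprim : ∀ ρ : InvolIn H → InvolIn H → Prop, Equivalence ρ →
      (∀ (g : H₁) p q, ρ p q → ρ (g • p) (g • q)) → (∀ p q, ρ p q → p = q) ∨ ∀ p q, ρ p q := by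
    intro ρ hρ hinv
    refine or_iff_not_imp_left.2 fun hne => ?_
    push Not at hne
    obtain ⟨p, q, hpq, hne⟩ := hne
    let N : Subgroup H₁ :=
      { carrier := {g | ∀ z, ρ (g • z) z}
        one_mem' := fun z => by rw [one_smul]; exact hρ.refl z
        mul_mem' := fun {a c} ha hc z => by rw [mul_smul]; exact hρ.trans (ha (c • z)) (hc z)
        inv_mem' := fun {a} ha z => by
          have := ha (a⁻¹ • z)
          rw [smul_inv_smul] at this
          exact hρ.symm this }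
    have hN : N.Normal := ⟨fun m hm g z => by
      have := hinv g _ _ (hm (g⁻¹ • z))
      rwa [smul_inv_smul, ← mul_smul, ← mul_smul] at this⟩
    obtain ⟨w, hwT, hwe⟩ := htr p q
    have hw1 : w ≠ 1 := fun e => hne (by rw [← hwe, e, one_smul])
    have hwN : w ∈ N := fun z => by
      obtain ⟨v, hvT, rfl⟩ := htr p z
      rw [← mul_smul, show w * v = v * w from
        Subtype.ext (h.T_comm _ (mem_subgroupOf.1 hwT) _ (mem_subgroupOf.1 hvT)), mul_smul, hwe]
      exact hinv v _ _ (hρ.symm hpq)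
    have htop := h.normal_eq_top hS h2 hab hxD hxfix hN (mem_subgroupOf.1 hwT) hw1 hwN
    intro p' q'
    obtain ⟨v, -, rfl⟩ := htr p' q'
    exact hρ.symm ((htop ▸ mem_top v : v ∈ N) p')
  have hexl : ∃ k' : T.subgroupOf H₁, k' ≠ 1 ∧ k' ^ l = 1 :=
    ⟨⟨⟨k, hTH₁ hk⟩, mem_subgroupOf.2 hk⟩,
      fun e => hk1 (congrArg (fun z : T.subgroupOf H₁ => ((z : H₁) : G)) e),
      Subtype.ext (Subtype.ext (by
        simp only [SubgroupClass.coe_pow, OneMemClass.coe_one]
        rw [← hkl, pow_orderOf_eq_one]))⟩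
  have huniq' : Nat.card {k' : T.subgroupOf H₁ // k' ^ l = 1} ≤ l := by
    refine le_trans (le_of_eq (Nat.card_congr (Equiv.subtypeEquiv (subgroupOfEquivOfLe hTH₁).toEquiv
      fun a => ?_))) huniq
    show a ^ l = 1 ↔ (subgroupOfEquivOfLe hTH₁) a ^ l = 1
    rw [← map_pow, MulEquiv.map_eq_one_iff]
  have hroot : ∀ c ∈ T, c ^ l = 1 → c * y = y * c := by
    intro c hc hcl
    by_contra hne
    have hsub : Fintype.card (Option (Fin l)) ≤ Nat.card {s : T // s ^ l = 1} := by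
      rw [← Nat.card_eq_fintype_card]
      refine Nat.card_le_card_of_injective (fun o => o.elim ⟨⟨c, hc⟩, Subtype.ext hcl⟩ fun i =>
        ⟨⟨k ^ (i : ℕ), pow_mem hk _⟩, Subtype.ext (by
          simp only [SubgroupClass.coe_pow, OneMemClass.coe_one]
          rw [← pow_mul, mul_comm, pow_mul, orderOf_dvd_iff_pow_eq_one.1 hkl.dvd, one_pow])⟩) ?_
      rintro (_ | i) (_ | j) e
      · rfl
      · have e' : c = k ^ (j : ℕ) := congrArg (fun z : {s : T // s ^ l = 1} => ((z.1 : T) : G)) e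
        exact absurd (e'.symm ▸ (Commute.pow_left (hky : Commute k y) j).eq) hne
      · have e' : k ^ (i : ℕ) = c := congrArg (fun z : {s : T // s ^ l = 1} => ((z.1 : T) : G)) e
        exact absurd (e' ▸ (Commute.pow_left (hky : Commute k y) i).eq) hne
      · have e' : k ^ (i : ℕ) = k ^ (j : ℕ) :=
          congrArg (fun z : {s : T // s ^ l = 1} => ((z.1 : T) : G)) e
        exact congrArg some (Fin.ext (pow_injOn_Iio_orderOf (by rw [Set.mem_Iio, hkl]; exact i.2)
          (by rw [Set.mem_Iio, hkl]; exact j.2) e'))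
    rw [Fintype.card_option, Fintype.card_fin] at hsub
    omega
  intro s v hs hv hs2 hv2
  by_cases hsv : v = s
  · rw [hsv]
  let mk : ∀ s : G, s ∈ H → orderOf s = 2 → InvolIn H := fun s hs hs2 =>
    ⟨⟨s, hs⟩, (Subgroup.orderOf_mk s hs).trans hs2⟩
  -- move `s` to `t`
  obtain ⟨w, hwT, hwe⟩ := htr (mk s hs hs2) (mk t ht ht2)
  obtain ⟨c, hcl, g, hg1, hg2⟩ := exists_root_in_suborbit (T := T.subgroupOf H₁)
    (fun a ha c hc => Subtype.ext (h.T_comm _ (mem_subgroupOf.1 ha) _ (mem_subgroupOf.1 hc)))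
    (fun a ha p e => Subtype.ext (h.free _ (mem_subgroupOf.1 ha) _ p.1.2 (hval p)
      (mul_inv_eq_iff_eq_mul.1 (congrArg (fun z : InvolIn H => ((z.1 : H) : G)) e))))
    htr hexl huniq' hprim (t := mk t ht ht2) (s := w • mk v hv hv2)
    (fun e => hsv (congrArg (fun z : InvolIn H => ((z.1 : H) : G)) (MulAction.injective w (e.trans hwe.symm))))
  have hcT : (((c : H₁)) : G) ∈ T := mem_subgroupOf.1 c.2
  have hcy := hroot _ hcT (congrArg (fun z : T.subgroupOf H₁ => ((z : H₁) : G)) hcl)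
  set t' := ((c : H₁) : G) * t * ((c : H₁) : G)⁻¹ with ht'
  have hcomm : t * t' = t' * t := h.comm_cent hS hw hab hy hyp hk hk1 hky ht
    (mul_mem (mul_mem (h.mem_H (h.T_le hcT)) ht) (inv_mem (h.mem_H (h.T_le hcT)))) ht2
    ((Invol.order_conj _ _).trans ht2) (mem_compl.1 hy).2.symm
    (Commute.mul_left (Commute.mul_left (hcy : Commute _ y) (mem_compl.1 hy).2.symm)
      (Commute.inv_left (hcy : Commute _ y))).eq
  have e0 : (w : G) * s * (w : G)⁻¹ = t := congrArg (fun z : InvolIn H => ((z.1 : H) : G)) hwe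
  have e1 : (g : G) * t * (g : G)⁻¹ = t := congrArg (fun z : InvolIn H => ((z.1 : H) : G)) hg1
  have e2 : (g : G) * ((w : G) * v * (w : G)⁻¹) * (g : G)⁻¹ = t' :=
    congrArg (fun z : InvolIn H => ((z.1 : H) : G)) hg2
  have e3 : (g : G) * ((w : G) * s * (w : G)⁻¹) * (g : G)⁻¹ = t := by rw [e0, e1]
  calc s * v = (g * w : G)⁻¹ * ((g : G) * ((w : G) * s * (w : G)⁻¹) * (g : G)⁻¹ *
        ((g : G) * ((w : G) * v * (w : G)⁻¹) * (g : G)⁻¹)) * (g * w) := by group
    _ = (g * w : G)⁻¹ * (t' * t) * (g * w) := by rw [e2, e3, hcomm]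
    _ = (g * w : G)⁻¹ * ((g : G) * ((w : G) * v * (w : G)⁻¹) * (g : G)⁻¹ *
        ((g : G) * ((w : G) * s * (w : G)⁻¹) * (g : G)⁻¹)) * (g * w) := by rw [e2, e3]
    _ = v * s := by group

end CommData

/-- The input of the commuting finish: commutation or the data on some pair. -/
def CommShape : Prop :=
  ∀ (G : Type u) [Group G] [Finite G] (H : Subgroup G), Setting H → TwoTrans H →
    SETrans.Weak G (G ⧸ H) ((1 : G) : G ⧸ H) →
      InvComm H ∨ ∃ (b : G ⧸ H) (H₁ T : Subgroup G), ((1 : G) : G ⧸ H) ≠ b ∧ CommData H b H₁ T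

/-- The finish gives `WeakComm` from the data. -/
theorem weakComm_of_commShape (hC : CommShape.{u}) : WeakComm.{u} := fun G _ _ H hS h2 hw => by
  rcases hC G H hS h2 hw with h | ⟨b, H₁, T, hab, hd⟩
  · exact h
  · exact hd.invComm hS h2 hw hab

end Cfsg.Agent.SEMain
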