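import Cfsg.Agent.Lib.SEMain.OddKernel
import Cfsg.Agent.Lib.SEMain.Kernel
import Cfsg.Agent.Lib.SEMain.Main
import Cfsg.Agent.Lib.SEMain.LocalBender
import Cfsg.Agent.Lib.SEMain.RankOne

/-!
# Involutions centralising an element with three fixed points

In the weak situation the involutions of `H` centralising an element of prime order of a two-point
stabiliser commute, if the element is also centralised by one with exactly two fixed points.
-/

set_option autoImplicit false
set_option linter.style.haveILetI false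
set_option linter.unusedSectionVars false

namespace Cfsg.Agent.SEMain

open Subgroup MulAction

universe u

variable {G : Type u} [Group G] [Finite G] {H : Subgroup G}

/-- An involution centralises an odd subgroup it normalises which fixes three points. -/
theorem commute_of_three (hH : Cfsg.IsStronglyEmbedded H)
    (hw : SETrans.Weak G (G ⧸ H) ((1 : G) : G ⧸ H)) {K : Subgroup G} (hK : Odd (Nat.card K)) {v : G}
    (hv : orderOf v = 2) (hvK : v ∈ normalizer (K : Set G)) {x₁ x₂ x₃ : G ⧸ H} (h12 : x₁ ≠ x₂)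
    (h23 : x₂ ≠ x₃) (h13 : x₁ ≠ x₃) (hx1 : K ≤ stabilizer G x₁) (hx2 : K ≤ stabilizer G x₂)
    (hx3 : K ≤ stabilizer G x₃) {y : G} (hy : y ∈ K) : v * y = y * v := by
  haveI : Nontrivial (G ⧸ H) := ⟨⟨_, _, (exists_ne_one hH).choose_spec⟩⟩
  set k := y * v * y⁻¹ * v with hk
  have hkK : k ∈ K := by
    rw [hk, show y * v * y⁻¹ * v = y * (v * y⁻¹ * v) by group]
    refine mul_mem hy ?_
    have := SEBrick.conj_mem_of hvK (inv_mem hy)
    rwa [Invol.inv_self hv] at this
  by_cases hk1 : k = 1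
  · rw [hk, mul_eq_one_iff_eq_inv, Invol.inv_self hv, mul_inv_eq_iff_eq_mul] at hk1
    exact hk1.symm
  exfalso
  have hinv : v * k * v⁻¹ = k⁻¹ := by
    rw [hk, mul_inv_rev, mul_inv_rev, mul_inv_rev, inv_inv, Invol.inv_self hv]
    calc v * (y * v * y⁻¹ * v) * v = v * (y * (v * y⁻¹)) * (v * v) := by group
      _ = v * (y * (v * y⁻¹)) := by rw [Invol.mul_self hv, mul_one]
  have hkodd : Odd (orderOf k) := SEBrick.odd_order hK hkK
  obtain ⟨x, hx, hvx⟩ : ∃ x, K ≤ stabilizer G x ∧ v • x ≠ x := by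
    by_cases h1 : v • x₁ = x₁
    · exact ⟨x₂, hx2, fun h2 => h12 (Invol.se_fix_unique hH hv h1 h2)⟩
    · exact ⟨x₁, hx1, h1⟩
  rcases hw.fix_pair ⟨hk1, hkodd, v, x, hv, hinv, hx hkK, hvx⟩ (hx1 hkK) (hx2 hkK) (hx3 hkK) h12 with h | h
  · exact h13 h.symm
  · exact h23 h.symm

/-- In a group of 2-rank one an element with two fixed points does not move an involution. -/
theorem rankOne_false (hH : Cfsg.IsStronglyEmbedded H) {X : Subgroup G} (hR : BrauerSuzuki.RankOne X)
    {b : G ⧸ H} (hab : ((1 : G) : G ⧸ H) ≠ b) {l : ℕ} [Fact l.Prime] {z t : G} (hzX : z ∈ X) (htX : t ∈ X)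
    (hzl : z ^ l = 1) (hza : z • ((1 : G) : G ⧸ H) = ((1 : G) : G ⧸ H)) (hzb : z • b = b)
    (honly : ∀ f : G ⧸ H, z • f = f → f = ((1 : G) : G ⧸ H) ∨ f = b) (ht : orderOf t = 2) (htH : t ∈ H) :
    False := by
  classical
  set a := ((1 : G) : G ⧸ H) with ha
  haveI hOn : (Cfsg.oddCore X).Normal := FittingCores.pPrimeCore_normal 2
  set O := (Cfsg.oddCore X).map X.subtype with hO
  have hOodd : Odd (Nat.card O) := by
    rw [hO, card_map_of_injective X.subtype_injective]; exact SEBrick.oddCore_odd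
  have hXO : X ≤ normalizer (O : Set G) := fun g hg => SEBrick.mem_normalizer_of fun o ho => by
    obtain ⟨o', ho', rfl⟩ := ho
    exact ⟨⟨g, hg⟩ * o' * (⟨g, hg⟩ : X)⁻¹, hOn.conj_mem _ ho' _, rfl⟩
  have hzodd : Odd (orderOf z) :=
    SEBrick.odd_order (pairStab_odd hH hab) (mem_pairStab.2 ⟨hza, hzb⟩)
  have htt := Invol.mul_self ht
  have hzt : t * z * t * z⁻¹ ∈ O := by
    have h1 : (⟨z, hzX⟩ : X) * ⟨t, htX⟩ * (⟨z, hzX⟩ : X)⁻¹ * (⟨t, htX⟩ : X)⁻¹ ∈ Cfsg.oddCore X :=
      BrauerSuzuki.inZStar X hR ⟨t, htX⟩ (by rw [Subgroup.orderOf_mk]; exact ht) ⟨z, hzX⟩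
    have h2 : (z * t * z⁻¹ * t⁻¹)⁻¹ ∈ O := inv_mem ⟨_, h1, rfl⟩
    rwa [show (z * t * z⁻¹ * t⁻¹)⁻¹ = t * z * t⁻¹ * z⁻¹ by group, Invol.inv_self ht] at h2
  set B : Set (G ⧸ H) := {f | ∃ o ∈ O, o • b = f} with hB
  have hzB : ∀ f ∈ B, z • f ∈ B := by
    rintro f ⟨o, ho, rfl⟩
    exact ⟨z * o * z⁻¹, SEBrick.conj_mem_of (hXO hzX) ho, by rw [mul_smul, mul_smul,
      (inv_smul_eq_iff.2 hzb.symm : z⁻¹ • b = b)]⟩
  set C : Set (G ⧸ H) := (fun f => t • f) '' B with hC
  have hzC : ∀ f ∈ C, z • f ∈ C := by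
    rintro f ⟨f', hf', rfl⟩
    obtain ⟨o, ho, he⟩ := hzB f' hf'
    refine ⟨(t * z * t * z⁻¹) • z • f', ⟨t * z * t * z⁻¹ * o, mul_mem hzt ho, by rw [mul_smul, he]⟩, ?_⟩
    show t • (t * z * t * z⁻¹) • z • f' = z • t • f'
    rw [← mul_smul, ← mul_smul, ← mul_smul]
    congr 1
    calc t * (t * z * t * z⁻¹) * z = t * t * (z * t) := by group
      _ = z * t := by rw [htt, one_mul]
  set Y := zpowers z with hY
  have hYp : IsPGroup l Y := fun w => ⟨1, by
    obtain ⟨w, hw⟩ := w
    obtain ⟨j, rfl⟩ := mem_zpowers_iff.1 hw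
    refine Subtype.ext ?_
    rw [SubgroupClass.coe_pow, OneMemClass.coe_one, ← zpow_natCast, ← zpow_mul, mul_comm, zpow_mul,
      pow_one, zpow_natCast, hzl, one_zpow]⟩
  have hinvA : ∀ (S : Set (G ⧸ H)), (∀ f ∈ S, z • f ∈ S) → ∀ g ∈ Y, ∀ f ∈ S, g • f ∈ S := by
    intro S hS g hg f hf
    rw [hY, mem_zpowers_iff_mem_range_orderOf, Finset.mem_image] at hg
    obtain ⟨j, -, rfl⟩ := hg
    induction j with
    | zero => rwa [pow_zero, one_smul]
    | succ j ih => rw [pow_succ', mul_smul]; exact hS _ ih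
  haveI : Finite (G ⧸ H) := inferInstance
  by_cases haB : a ∈ B
  · -- an odd transitive group on `B` with an element fixing exactly two points
    set P := O ⊔ Y with hP
    have hPodd : Odd (Nat.card P) := by
      have h1 := SolvBasic.card_sup_mul_card_inf (H := Y) (N := O) (zpowers_le.2 (hXO hzX))
      refine Odd.of_dvd_nat ?_ ⟨_, h1.symm⟩
      rw [hY, Nat.card_zpowers]
      exact hOodd.mul hzodd
    have hPB : ∀ g ∈ P, ∀ f ∈ B, g • f ∈ B := by
      intro g hg
      rw [hP, sup_eq_closure] at hg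
      induction hg using closure_induction'' with
      | one => intro f hf; rwa [one_smul]
      | mem g hg =>
        rintro f hf
        rcases hg with hg | hg
        · obtain ⟨o, ho, rfl⟩ := hf
          exact ⟨g * o, mul_mem hg ho, mul_smul _ _ _⟩
        · exact hinvA B hzB g hg f hf
      | inv_mem g hg =>
        rintro f hf
        rcases hg with hg | hg
        · obtain ⟨o, ho, rfl⟩ := hf
          exact ⟨g⁻¹ * o, mul_mem (inv_mem hg) ho, mul_smul _ _ _⟩
        · exact hinvA B hzB _ (inv_mem hg) f hf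
      | mul g h _ _ ihg ihh => intro f hf; rw [mul_smul]; exact ihg _ (ihh f hf)
    let A : SubMulAction P (G ⧸ H) := ⟨B, fun g f hf => hPB g g.2 f hf⟩
    haveI : IsPretransitive P A := ⟨fun p q => by
      obtain ⟨o, ho, hoe⟩ := p.2
      obtain ⟨o', ho', hoe'⟩ := q.2
      refine ⟨⟨o' * o⁻¹, mem_sup_left (mul_mem ho' (inv_mem ho))⟩, Subtype.ext ?_⟩
      show (o' * o⁻¹) • (p : G ⧸ H) = q
      rw [← hoe, ← hoe', mul_smul, inv_smul_smul]⟩
    have hYfix : ∀ y ∈ Y.subgroupOf P, ∀ f : G ⧸ H, z • f = f → (y : G) • f = f := fun y hy f hf =>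
      (zpowers_le.2 (show z ∈ stabilizer G f from hf)) (mem_subgroupOf.1 hy)
    let pa : A := ⟨a, haB⟩
    let pb : A := ⟨b, 1, one_mem _, one_smul _ _⟩
    obtain ⟨c, hca, hcb, hc⟩ := exists_third_of_odd (X := P) (Φ := A) hPodd (r := l)
      (hYp.comap_subtype : IsPGroup l (Y.subgroupOf P)) (p := pa) (q := pb)
      (fun e => hab (congrArg Subtype.val e))
      (fun y hy => Subtype.ext (hYfix y hy a hza)) (fun y hy => Subtype.ext (hYfix y hy b hzb))
    rcases honly c (congrArg Subtype.val (hc ⟨z, mem_sup_right (mem_zpowers z)⟩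
      (mem_subgroupOf.2 (mem_zpowers z)))) with h | h
    · exact hca (Subtype.ext h)
    · exact hcb (Subtype.ext h)
  · -- otherwise `B` and its image under `t` have sizes one and zero modulo `l`
    let A : SubMulAction Y (G ⧸ H) := ⟨B, fun g f hf => hinvA B hzB g g.2 f hf⟩
    let A' : SubMulAction Y (G ⧸ H) := ⟨C, fun g f hf => hinvA C hzC g g.2 f hf⟩
    have h1 := hYp.card_modEq_card_fixedPoints A
    have h2 := hYp.card_modEq_card_fixedPoints A'
    haveI : IsEmpty (fixedPoints Y A') := ⟨fun f => by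
      have hf : z • ((f : A') : G ⧸ H) = f := congrArg Subtype.val (f.2 ⟨z, mem_zpowers z⟩)
      obtain ⟨f', hf', he⟩ := (f : A').2
      have hta : t • a = a := SEBrick.fix_base_iff.2 htH
      rcases honly _ hf with e | e
      · rw [e] at he
        exact haB (MulAction.injective t (he.trans hta.symm) ▸ hf')
      · -- `t` would fix a point of `B`
        obtain ⟨o, ho, rfl⟩ := hf'
        have hbo : (t * o) • b = b := by rw [mul_smul]; exact he.trans e
        have htO : ∀ o₁ ∈ O, t * o₁ * t ∈ O := fun o₁ ho₁ => by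
          have := SEBrick.conj_mem_of (hXO htX) ho₁
          rwa [Invol.inv_self ht] at this
        have hBt : ∀ f ∈ B, t • f ∈ B := by
          rintro f ⟨o₁, ho₁, rfl⟩
          refine ⟨t * o₁ * t * o, mul_mem (htO o₁ ho₁) ho, ?_⟩
          conv_rhs => rw [← hbo, ← mul_smul, ← mul_smul]
          congr 1
          group
        haveI : Fact (Nat.Prime 2) := ⟨Nat.prime_two⟩
        have hbodd : Odd (Nat.card B) := by
          have e : B = MulAction.orbit O b := Set.ext fun f =>
            ⟨fun ⟨o, ho, h⟩ => ⟨⟨o, ho⟩, h⟩, fun ⟨o, h⟩ => ⟨o, o.2, h⟩⟩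
          refine hOodd.of_dvd_nat ⟨Nat.card (MulAction.stabilizer O b), ?_⟩
          rw [← (MulAction.stabilizer O b).index_mul_card, MulAction.index_stabilizer, e,
            Nat.card_coe_set_eq]
        have hT2 : IsPGroup 2 (zpowers t) :=
          IsPGroup.of_card (n := 1) (by rw [Nat.card_zpowers, ht, pow_one])
        let AB : SubMulAction (zpowers t) (G ⧸ H) := ⟨B, fun g f hf => by
          obtain ⟨g, hg⟩ := g
          rw [mem_zpowers_iff_mem_range_orderOf, Finset.mem_image, ht] at hg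
          obtain ⟨n, hn, rfl⟩ := hg
          rw [Finset.mem_range] at hn
          show (t ^ n) • f ∈ B
          interval_cases n
          · rwa [pow_zero, one_smul]
          · rw [pow_one]; exact hBt f hf⟩
        haveI : IsEmpty (fixedPoints (zpowers t) AB) := ⟨fun v => haB (by
          have h := Invol.se_fix_unique hH ht (congrArg Subtype.val (v.2 ⟨t, mem_zpowers t⟩))
            (SEBrick.fix_base_iff.2 htH)
          show a ∈ B
          rw [ha, ← h]
          exact (v : AB).2)⟩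
        have h := hT2.card_modEq_card_fixedPoints AB
        rw [Nat.card_of_isEmpty (α := fixedPoints (zpowers t) AB)] at h
        exact Nat.not_even_iff_odd.2 hbodd (even_iff_two_dvd.2 (Nat.modEq_zero_iff_dvd.1 h))⟩
    haveI : Nonempty (fixedPoints Y A) := ⟨⟨⟨b, 1, one_mem _, one_smul _ _⟩, fun g => Subtype.ext
      ((zpowers_le.2 (show z ∈ stabilizer G b from hzb)) g.2)⟩⟩
    haveI : Subsingleton (fixedPoints Y A) := ⟨fun v w => by
      have key : ∀ v : fixedPoints Y A, ((v : A) : G ⧸ H) = b := fun v =>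
        (honly _ (congrArg Subtype.val (v.2 ⟨z, mem_zpowers z⟩))).resolve_left fun e => haB (e ▸ (v : A).2)
      exact Subtype.ext (Subtype.ext ((key v).trans (key w).symm))⟩
    rw [Nat.card_of_isEmpty (α := fixedPoints Y A')] at h2
    rw [(Nat.card_eq_one_iff_unique (α := fixedPoints Y A)).2 ⟨inferInstance, inferInstance⟩] at h1
    change Nat.card B ≡ 1 [MOD l] at h1
    change Nat.card C ≡ 0 [MOD l] at h2
    rw [hC, Nat.card_image_of_injective (MulAction.injective t) B] at h2
    exact (Fact.out : l.Prime).one_lt.ne' (Nat.dvd_one.1 (Nat.modEq_zero_iff_dvd.1 (h1.symm.trans h2)))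

/-- The involutions of `H` centralising an element of prime order of a two-point stabiliser commute,
where that element is centralised by one with just two fixed points. -/
theorem comm_of_centralizer (hS : Setting H) (hw : SETrans.Weak G (G ⧸ H) ((1 : G) : G ⧸ H))
    {b : G ⧸ H} (hab : ((1 : G) : G ⧸ H) ≠ b) {p l : ℕ} [Fact p.Prime] [Fact l.Prime] {y z : G}
    (hy : orderOf y = p) (hyD : y ∈ pairStab ((1 : G) : G ⧸ H) b) (hzl : z ^ l = 1)
    (hzD : z ∈ pairStab ((1 : G) : G ⧸ H) b)
    (honly : ∀ f : G ⧸ H, z • f = f → f = ((1 : G) : G ⧸ H) ∨ f = b) (hzy : z * y = y * z)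
    {s t : G} (hsH : s ∈ H) (htH : t ∈ H) (hs : orderOf s = 2) (ht : orderOf t = 2)
    (hsy : s * y = y * s) (hty : t * y = y * t) : s * t = t * s := by
  classical
  set a := ((1 : G) : G ⧸ H) with ha
  have hse := hS.se
  have hp2 : p ≠ 2 := by
    rintro rfl
    have := SEBrick.odd_order (pairStab_odd hse hab) hyD
    rw [hy] at this
    exact Nat.not_even_iff_odd.2 this even_two
  have hya : y • a = a := (mem_pairStab.1 hyD).1
  have hta : t • a = a := SEBrick.fix_base_iff.2 htH
  have hyb : y • b = b := (mem_pairStab.1 hyD).2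
  have hytb : y • t • b = t • b := by rw [← mul_smul, ← hty, mul_smul, hyb]
  set V := zpowers y with hV
  have hVp : IsPGroup p V := IsPGroup.of_card (n := 1) (by rw [Nat.card_zpowers, hy, pow_one])
  have h3 : FixesThree H V := ⟨a, b, t • b, hab, fun e => hab (Invol.se_fix_unique hse ht hta e.symm),
    fun e => hab (smul_left_cancel t (hta.trans e)),
    zpowers_le.2 hya, zpowers_le.2 hyb, zpowers_le.2 hytb⟩
  obtain ⟨w, hw2, hwa, hwV⟩ := exists_centralizing_invol hse hw hp2 hVp h3 (a := a)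
  set X := centralizer ({y} : Set G) with hX
  have hmem : ∀ {g : G}, g ∈ X ↔ g * y = y * g := mem_centralizer_singleton_iff
  have hwX : w ∈ X := hmem.2 (hwV y (mem_zpowers y))
  have htX : t ∈ X := hmem.2 hty
  have hzX : z ∈ X := hmem.2 hzy
  have hy1 : V ≠ ⊥ := fun e => (Fact.out : p.Prime).one_lt.ne' (by
    rw [← hy, ← Nat.card_zpowers, ← hV, e, Subgroup.card_bot])
  have hXlt : Nat.card X < Nat.card G := lt_of_le_of_lt
    (card_le_of_le (fun g hg => SEBrick.mem_normalizer_of fun v hv => by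
      obtain ⟨j, rfl⟩ := mem_zpowers_iff.1 hv
      rw [show g * y ^ j = y ^ j * g from (Commute.zpow_right (hmem.1 hg : Commute g y) j).eq,
        mul_inv_cancel_right]
      exact hv : X ≤ normalizer (V : Set G)))
    (card_normalizer_lt hS.core hy1 (zpowers_le.2 hya))
  have hsX : s ∈ X := hmem.2 hsy
  by_cases hR : BrauerSuzuki.RankOne X
  · exact (rankOne_false hse hR hab hzX htX hzl (mem_pairStab.1 hzD).1 (mem_pairStab.1 hzD).2 honly ht htH).elim
  -- a four-group at the base point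
  obtain ⟨e, he, het, hte⟩ := exists_commuting hR (u := (⟨t, htX⟩ : X))
    (by rw [Subgroup.orderOf_mk]; exact ht)
  rw [← Subgroup.orderOf_coe] at he
  obtain ⟨E, hEX, hE, htE⟩ := exists_four_pair ht he htX e.2
    (fun h => het (Subtype.ext h.symm)) (congrArg Subtype.val hte)
  obtain ⟨c, hEc⟩ := SESolv.exists_fix_four hse hE
  have hca : c = a := Invol.se_fix_unique hse ht (hEc htE) hta
  subst hca
  obtain ⟨K, hK⟩ := exists_localData hse hS.below hXlt hE hEX hEc ⟨w, hwX, hwa⟩
  -- every involution of `X` centralises the kernel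
  have hcen : ∀ v ∈ X, orderOf v = 2 → ∀ k ∈ K, v * k = k * v := by
    intro v hvX hv k hk
    have hfix : ∀ g ∈ X, K ≤ stabilizer G (g • a) := fun g hg k hk => hK.fix k hk g hg
    refine commute_of_three hse hw hK.odd hv (hK.norm hvX) (x₁ := a) (x₂ := w • a) (x₃ := t • w • a)
      (Ne.symm hwa) (fun e => hwa (Invol.se_fix_unique hse ht e.symm hta))
      (fun e => hwa (smul_left_cancel t (e.symm.trans hta.symm))) ?_ (hfix w hwX) ?_ hk
    · simpa using hfix 1 X.one_mem
    · rw [← mul_smul]; exact hfix _ (mul_mem htX hwX)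
  set k := s * t * (s * t) with hk
  have hkK : k ∈ K := hK.comm s t hsX htX hs ht (SEBrick.fix_base_iff.2 hsH) hta
  have h1 : s * k * s⁻¹ = k⁻¹ := by
    rw [hk, mul_inv_rev, mul_inv_rev, Invol.inv_self hs, Invol.inv_self ht]
    calc s * (s * t * (s * t)) * s = s * s * (t * s * t * s) := by group
      _ = t * s * (t * s) := by rw [Invol.mul_self hs, one_mul]; group
  have h2 : k = 1 := by
    have h3 : k = k⁻¹ := by
      rw [← h1, hcen s hsX hs k hkK, mul_inv_cancel_right]
    have h4 : k ^ 2 = 1 := by rw [pow_two]; exact mul_eq_one_iff_eq_inv.2 h3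
    exact orderOf_eq_one_iff.1 (Nat.Coprime.eq_one_of_dvd
      ((SEBrick.odd_order hK.odd hkK).coprime_two_right) (orderOf_dvd_of_pow_eq_one h4))
  rw [hk, mul_eq_one_iff_eq_inv, mul_inv_rev, Invol.inv_self hs, Invol.inv_self ht] at h2
  exact h2

end Cfsg.Agent.SEMain
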