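import Cfsg.Agent.Lib.SEMain.Commute.FinishRankTwo
import Mathlib.GroupTheory.SpecificGroups.ZGroup

/-!
# No element of the complement has a fixed point on `T`

Where no element of prime order of the complement centralises a unique subgroup of prime order of `T` and the
order of `T` is no prime power, an element with a fixed point makes every top prime appear to the first power
with central Sylow subgroup. The complement is then abelian and all its elements of prime order are without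
fixed points.
-/

set_option autoImplicit false
set_option linter.style.haveILetI false
set_option linter.unusedSectionVars false

namespace Cfsg.Agent.SEMain

open Subgroup MulAction
open scoped commutatorElement

universe u

variable {G : Type u} [Group G] [Finite G] {H : Subgroup G}

namespace CommData

variable {b : G ⧸ H} {H₁ T : Subgroup G} (h : CommData H b H₁ T)
include h

/-- A commuting element of prime order prime to `r` centralises the torus. -/
theorem share (hS : Setting H) (hw : SETrans.Weak G (G ⧸ H) ((1 : G) : G ⧸ H))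
    (hab : ((1 : G) : G ⧸ H) ≠ b) {t : G} (ht : t ∈ H) (ht2 : orderOf t = 2) {r : ℕ} (hr : r.Prime) {x : G}
    (hx : x ∈ compl b H₁ t) (hxr : x ^ r = 1) (hxfix : ∀ s ∈ T, x * s = s * x → s = 1)
    (hxc : ∀ c ∈ compl b H₁ t, x * c = c * x)
    {a c z : G} (ha : a ∈ compl b H₁ t) (hc : c ∈ compl b H₁ t) (hap : (orderOf a).Prime)
    (hcp : (orderOf c).Prime) (hcr : orderOf c ≠ r) (hac : a * c = c * a) (hz : z ∈ T) (hz1 : z ≠ 1)
    (hza : z * a = a * z) {s : G} (hs : s ∈ T) (hsa : s * a = a * s) : s * c = c * s := by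
  have hca : c⁻¹ * a * c ∈ zpowers a := by
    rw [mul_assoc, hac, inv_mul_cancel_left]; exact mem_zpowers a
  have h1 := h.pow_centralizes hS hw hab ht ht2 hr hx hxr hxfix ha (hxc a ha) hap hz hz1 hza hc hca hs hsa
  have hcop : r.Coprime (orderOf c) := (Nat.coprime_primes hr hcp).2 (Ne.symm hcr)
  obtain ⟨j, hj⟩ := exists_pow_eq_self_of_coprime hcop
  rw [← hj]
  exact ((Commute.pow_left (h1 : Commute (c ^ r) s) j).eq).symm

/-- A top prime appears to the first power with a central Sylow subgroup. -/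
theorem central_of_top (hS : Setting H) (hw : SETrans.Weak G (G ⧸ H) ((1 : G) : G ⧸ H))
    (hab : ((1 : G) : G ⧸ H) ≠ b) {t : G} (ht : t ∈ H) (ht2 : orderOf t = 2)
    (hbig : ∀ y ∈ compl b H₁ t, (orderOf y).Prime → ∀ (l : ℕ), l.Prime → ∀ k ∈ T, orderOf k = l →
      k * y = y * k → l < Nat.card {s : T // s ^ l = 1})
    (hmix : ∀ q : ℕ, ∃ l : ℕ, l.Prime ∧ l ∣ Nat.card T ∧ l ≠ q)
    {y₀ z₀ : G} (hy₀ : y₀ ∈ compl b H₁ t) (hy₀p : (orderOf y₀).Prime) (hz₀ : z₀ ∈ T) (hz₀1 : z₀ ≠ 1)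
    (hz₀y : z₀ * y₀ = y₀ * z₀) {r : ℕ} [hr : Fact r.Prime] {φ : compl b H₁ t →* Multiplicative (ZMod r)}
    (hφ : φ ≠ 1) (P : Sylow r (compl b H₁ t)) :
    (P : Subgroup (compl b H₁ t)) ≤ center (compl b H₁ t) := by
  classical
  obtain ⟨hrC, hrm, hcyc, hfix⟩ := h.top_compl ht ht2 hr.out hφ
  have hrT : ¬ r ∣ Nat.card T := by rwa [h.card_T ht ht2]
  have hCodd : Odd (Nat.card (compl b H₁ t)) :=
    (pairStab_odd hS.se hab).of_dvd_nat (card_dvd_of_le (inf_le_left.trans inf_le_right))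
  have hodd' : ∀ {q : ℕ}, q.Prime → q ∣ Nat.card (compl b H₁ t) → q ≠ 2 := fun hq hd e =>
    Nat.not_even_iff_odd.2 hCodd (even_iff_two_dvd.2 (e ▸ hd))
  haveI hPc : IsCyclic (P : Subgroup (compl b H₁ t)) := by
    haveI := hcyc ((P : Subgroup (compl b H₁ t)).map (compl b H₁ t).subtype) (by
      rintro _ ⟨g, -, rfl⟩; exact (mem_compl.1 g.2).1) (P.isPGroup'.map _)
    exact isCyclic_of_surjective _ (equivMapOfInjective (P : Subgroup (compl b H₁ t)) (compl b H₁ t).subtype (compl b H₁ t).subtype_injective).symm.surjective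
  have hPcomm : ∀ a ∈ (P : Subgroup (compl b H₁ t)), ∀ c ∈ (P : Subgroup (compl b H₁ t)), a * c = c * a := fun a ha c hc => by
    letI := IsCyclic.commGroup (α := (P : Subgroup (compl b H₁ t)))
    exact congrArg Subtype.val (mul_comm (⟨a, ha⟩ : (P : Subgroup (compl b H₁ t))) ⟨c, hc⟩)
  have hNC : normalizer ((P : Subgroup (compl b H₁ t)) : Set (compl b H₁ t)) ≤ centralizer ((P : Subgroup (compl b H₁ t)) : Set (compl b H₁ t)) := by
    refine (P.normalizer_le_centralizer_or_le_commutator).resolve_right fun hle => ?_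
    have hker : (P : Subgroup (compl b H₁ t)) ≤ φ.ker := hle.trans (Abelianization.commutator_subset_ker φ)
    have hidx : φ.ker.index = r := by
      rw [Subgroup.index_ker]
      have h1 : Nat.card φ.range ∣ r := by
        have := φ.range.card_subgroup_dvd_card
        rwa [Nat.card_congr Multiplicative.toAdd, Nat.card_zmod] at this
      refine ((Nat.dvd_prime hr.out).1 h1).resolve_left fun e => hφ ?_
      exact MonoidHom.range_eq_bot_iff.1 (Subgroup.eq_bot_of_card_eq _ e)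
    have := Subgroup.index_dvd_of_le hker
    rw [hidx] at this
    exact P.not_dvd_index this
  set K := (MonoidHom.transferSylow P hNC).ker with hK
  have hcompl := MonoidHom.ker_transferSylow_isComplement' P hNC
  have hKcop : (Nat.card K).Coprime r := by
    rw [← hcompl.index_eq_card]
    exact (Nat.Coprime.symm ((hr.out.coprime_iff_not_dvd).2 P.not_dvd_index))
  have hKn : ∀ A : Subgroup (compl b H₁ t), A ≤ normalizer (K : Set (compl b H₁ t)) := fun A => Subgroup.le_normalizer_of_normal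
  have hcopA : ∀ A : Subgroup (compl b H₁ t), A ≤ (P : Subgroup (compl b H₁ t)) → (Nat.card A).Coprime (Nat.card K) := fun A hA => by
    obtain ⟨n, hn⟩ := (P.isPGroup'.to_le hA).exists_card_eq
    rw [hn]
    exact Nat.Coprime.pow_left n hKcop.symm
  -- an element of order `r`, fixed-point-free and central
  obtain ⟨xP, hxP⟩ := exists_prime_orderOf_dvd_card' r (P.dvd_card_of_dvd_card hrC)
  set x : (compl b H₁ t) := (xP : (compl b H₁ t)) with hxdef
  have hxmem : x ∈ (P : Subgroup (compl b H₁ t)) := xP.2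
  have hxo : orderOf (x : G) = r := by rw [Subgroup.orderOf_coe, hxdef, Subgroup.orderOf_coe, hxP]
  have hxfix : ∀ s ∈ T, (x : G) * s = s * x → s = 1 := hfix x (mem_compl.1 x.2).1 hxo
  have hxr : (x : G) ^ r = 1 := by rw [← hxo, pow_orderOf_eq_one]
  have hxK : ∀ k ∈ K, k * x = x * k := by
    set Z := K ⊓ centralizer ({x} : Set (compl b H₁ t)) with hZ
    suffices hZK : Z = K from fun k hk => mem_centralizer_singleton_iff.1 (mem_inf.1 (hZK.symm ▸ hk : k ∈ Z)).2
    refine eq_of_le_of_card_ge inf_le_left (Nat.le_of_dvd Nat.card_pos ?_)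
    refine (Nat.dvd_iff_prime_pow_dvd_dvd _ _).2 fun q n hq hdvd => ?_
    haveI := Fact.mk hq
    rcases Nat.eq_zero_or_pos n with rfl | hn
    · simp
    have hqK : q ∣ Nat.card K := (dvd_pow_self q hn.ne').trans hdvd
    have hqr : q ≠ r := fun e => hr.out.one_lt.ne' (Nat.eq_one_of_dvd_coprimes hKcop (e ▸ hqK) dvd_rfl)
    obtain ⟨S, hSn⟩ := CoprimeAct.exists_invariant_sylow (hKn (zpowers x)) (hcopA _ (zpowers_le.2 hxmem))
      (Or.inl (Group.isSolvable_of_comm fun a c => mul_comm' a c)) q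
    set S' := (S : Subgroup K).map K.subtype with hS'
    have hSZ : S' ≤ Z := fun g hg => mem_inf.2 ⟨map_subtype_le _ hg, mem_centralizer_singleton_iff.2 (Subtype.ext (by
      exact h.commute_invariant hS hw hab ht ht2 hbig hmix hr.out x.2 hxo hrT hxfix hq hqr
        (hodd' hq (hqK.trans K.card_subgroup_dvd_card)) (Q := S'.map (compl b H₁ t).subtype)
        ((S.isPGroup'.map _).map _) (map_subtype_le _)
        (SEBrick.mem_normalizer_of (by
          rintro _ ⟨g', hg', rfl⟩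
          exact ⟨x * g' * x⁻¹, SEBrick.conj_mem_of (hSn (mem_zpowers x)) hg', rfl⟩))
        (g := (g : G)) ⟨g, hg, rfl⟩))⟩
    refine dvd_trans ?_ (Subgroup.card_dvd_of_le hSZ)
    rw [hS', card_map_of_injective K.subtype_injective]
    exact S.pow_dvd_card_of_pow_dvd_card hdvd
  have hxc : ∀ c : (compl b H₁ t), x * c = c * x := fun c => by
    have htop : K ⊔ (P : Subgroup (compl b H₁ t)) ≤ centralizer ({x} : Set (compl b H₁ t)) := sup_le
      (fun k hk => mem_centralizer_singleton_iff.2 (hxK k hk))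
      (fun p hp => mem_centralizer_singleton_iff.2 (hPcomm p hp x hxmem))
    exact (mem_centralizer_singleton_iff.1 (htop (hcompl.sup_eq_top.symm ▸ mem_top c))).symm
  have hxc' : ∀ c ∈ (compl b H₁ t), (x : G) * c = c * x := fun c hc => congrArg Subtype.val (hxc ⟨c, hc⟩)
  -- move the element with fixed points into an invariant Sylow subgroup of `K`
  set p := orderOf y₀ with hp
  haveI := Fact.mk hy₀p
  have hnor : ∀ {g : (compl b H₁ t)}, orderOf g = r → ∀ s ∈ T, (g : G) * s = s * g → s = 1 := fun {g} hg =>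
    hfix g (mem_compl.1 g.2).1 (by rw [Subgroup.orderOf_coe, hg])
  have hpr : p ≠ r := fun e => hz₀1 (hnor (g := (⟨y₀, hy₀⟩ : (compl b H₁ t)))
    (by rw [Subgroup.orderOf_mk]; exact e) z₀ hz₀ hz₀y.symm)
  have hyK : (⟨y₀, hy₀⟩ : (compl b H₁ t)) ∈ K := by
    rw [hK, MonoidHom.mem_ker]
    obtain ⟨n, hn⟩ := P.isPGroup'.exists_card_eq
    have h1 := orderOf_map_dvd (MonoidHom.transferSylow P hNC) (⟨y₀, hy₀⟩ : (compl b H₁ t))
    exact orderOf_eq_one_iff.1 (Nat.eq_one_of_dvd_coprimes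
      (Nat.Coprime.pow_right n ((Nat.coprime_primes hy₀p hr.out).2 hpr))
      (h1.trans (Subgroup.orderOf_mk y₀ hy₀).dvd)
      (hn ▸ orderOf_dvd_natCard _))
  obtain ⟨S, hSn⟩ := CoprimeAct.exists_invariant_sylow (hKn (P : Subgroup (compl b H₁ t))) (hcopA _ le_rfl)
    (Or.inl (Group.isSolvable_of_comm fun a c => Subtype.ext (hPcomm a a.2 c c.2))) p
  obtain ⟨S₀, hS₀⟩ := (IsPGroup.of_card (n := 1) (by
    rw [Nat.card_zpowers, pow_one, ← Subgroup.orderOf_coe, ← Subgroup.orderOf_coe]) :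
    IsPGroup p (zpowers (⟨⟨y₀, hy₀⟩, hyK⟩ : K))).exists_le_sylow
  obtain ⟨k, hk⟩ := MulAction.exists_smul_eq K S₀ S
  set y : K := k * ⟨⟨y₀, hy₀⟩, hyK⟩ * k⁻¹ with hy
  have hyS : y ∈ (S : Subgroup K) := by
    rw [← hk]
    show y ∈ ((MulAut.conj k • S₀ : Sylow p K) : Subgroup K)
    rw [Sylow.pointwise_smul_def]
    exact ⟨_, hS₀ (mem_zpowers _), rfl⟩
  have hyp : orderOf ((y : (compl b H₁ t)) : G) = p := by
    rw [Subgroup.orderOf_coe, Subgroup.orderOf_coe, hy, Invol.order_conj, ← Subgroup.orderOf_coe,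
      ← Subgroup.orderOf_coe]
  set z := ((k : (compl b H₁ t)) : G) * z₀ * ((k : (compl b H₁ t)) : G)⁻¹ with hz
  have hzT : z ∈ T := h.T_norm _ (mem_compl.1 (k : (compl b H₁ t)).2).1 z₀ hz₀
  have hz1 : z ≠ 1 := fun e => hz₀1 (by simpa [hz] using e)
  have hzy : z * ((y : (compl b H₁ t)) : G) = ((y : (compl b H₁ t)) : G) * z := by
    have : ((y : (compl b H₁ t)) : G) = ((k : (compl b H₁ t)) : G) * y₀ * ((k : (compl b H₁ t)) : G)⁻¹ := rfl
    rw [this, hz]
    calc ((k : (compl b H₁ t)) : G) * z₀ * ((k : (compl b H₁ t)) : G)⁻¹ * (((k : (compl b H₁ t)) : G) * y₀ * ((k : (compl b H₁ t)) : G)⁻¹)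
        = ((k : (compl b H₁ t)) : G) * (z₀ * y₀) * ((k : (compl b H₁ t)) : G)⁻¹ := by group
      _ = ((k : (compl b H₁ t)) : G) * (y₀ * z₀) * ((k : (compl b H₁ t)) : G)⁻¹ := by rw [hz₀y]
      _ = _ := by group
  -- the subgroup of order `p` of that Sylow subgroup is unique
  have hsh : ∀ {a c : K}, orderOf ((a : (compl b H₁ t)) : G) = p → orderOf ((c : (compl b H₁ t)) : G) = p → a * c = c * a →
      ∀ {s₁ : G}, s₁ ∈ T → s₁ ≠ 1 → s₁ * ((a : (compl b H₁ t)) : G) = ((a : (compl b H₁ t)) : G) * s₁ →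
      ∀ {s : G}, s ∈ T → s * ((a : (compl b H₁ t)) : G) = ((a : (compl b H₁ t)) : G) * s → s * ((c : (compl b H₁ t)) : G) = ((c : (compl b H₁ t)) : G) * s :=
    fun {a c} ha hc hac {s₁} hs₁ hs₁1 hs₁a {s} hs hsa =>
      h.share hS hw hab ht ht2 hr.out x.2 hxr hxfix hxc' (a : (compl b H₁ t)).2 (c : (compl b H₁ t)).2 (ha ▸ hy₀p) (hc ▸ hy₀p)
        (hc ▸ hpr) (congrArg (fun g : K => ((g : (compl b H₁ t)) : G)) hac) hs₁ hs₁1 hs₁a hs hsa
  haveI : Nontrivial (S : Subgroup K) := ⟨⟨⟨y, hyS⟩, 1, fun e => hy₀p.one_lt.ne (by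
    rw [← hyp, show y = 1 from congrArg Subtype.val e, OneMemClass.coe_one, OneMemClass.coe_one,
      orderOf_one])⟩⟩
  haveI := S.isPGroup'.center_nontrivial
  obtain ⟨cS, hcS⟩ := exists_prime_orderOf_dvd_card' (G := center (S : Subgroup K)) p (by
    rcases (S.isPGroup'.to_subgroup (center (S : Subgroup K))).card_eq_or_dvd with e | e
    · exact absurd e Finite.one_lt_card.ne'
    · exact e)
  set c₀ : K := ((cS : (S : Subgroup K)) : K) with hc₀
  have hc₀o : orderOf ((c₀ : (compl b H₁ t)) : G) = p := by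
    rw [Subgroup.orderOf_coe, Subgroup.orderOf_coe, hc₀, Subgroup.orderOf_coe, Subgroup.orderOf_coe, hcS]
  have hc₀c : ∀ g ∈ (S : Subgroup K), g * c₀ = c₀ * g := fun g hg =>
    congrArg Subtype.val (mem_center_iff.1 cS.2 ⟨g, hg⟩)
  have hzc : z * ((c₀ : (compl b H₁ t)) : G) = ((c₀ : (compl b H₁ t)) : G) * z := hsh hyp hc₀o (hc₀c y hyS) hzT hz1 hzy hzT hzy
  have hunique : ∀ g ∈ (S : Subgroup K), orderOf ((g : (compl b H₁ t)) : G) = p → g ∈ zpowers c₀ := by
    intro g hg hgp
    by_contra hnot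
    set a₁ := ((c₀ : (compl b H₁ t)) : G) with ha₁
    set a₂ := ((g : (compl b H₁ t)) : G) with ha₂
    set A := Subgroup.closure ({a₁, a₂} : Set G) with hA
    have ha12 : a₁ * a₂ = a₂ * a₁ := congrArg (fun g : K => ((g : (compl b H₁ t)) : G)) (hc₀c g hg).symm
    have hgens : ∀ v ∈ A, ∀ w ∈ A, v * w = w * v := by
      haveI : IsMulCommutative A := isMulCommutative_closure (by
        rintro v (rfl | rfl) w (rfl | rfl) <;> first | rfl | exact ha12 | exact ha12.symm)
      exact fun v hv w hw => congrArg Subtype.val (mul_comm' (⟨v, hv⟩ : A) ⟨w, hw⟩)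
    haveI : IsMulCommutative A := ⟨⟨fun v w => Subtype.ext (hgens v v.2 w w.2)⟩⟩
    have hAK : A ≤ ((S : Subgroup K).map K.subtype).map (compl b H₁ t).subtype := (closure_le _).2 (by
      rintro v (rfl | rfl)
      exacts [⟨_, ⟨c₀, (cS : (S : Subgroup K)).2, rfl⟩, rfl⟩, ⟨_, ⟨g, hg, rfl⟩, rfl⟩])
    have hAp : ∀ v ∈ A, v ^ p = 1 := fun v hv => by
      induction hv using closure_induction with
      | mem v hv => rcases hv with rfl | rfl
                    · rw [← hc₀o, pow_orderOf_eq_one]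
                    · rw [← hgp, pow_orderOf_eq_one]
      | one => exact one_pow p
      | mul v w hv hw ihv ihw => rw [Commute.mul_pow (hgens v hv w hw : Commute v w), ihv, ihw, one_mul]
      | inv v hv ihv => rw [inv_pow, ihv, inv_one]
    have hAnc : ¬ IsCyclic A := by
      intro hc
      obtain ⟨w, hw⟩ := hc.exists_generator
      refine hnot ?_
      have hA1 : zpowers a₁ = A := by
        refine eq_of_le_of_card_ge (zpowers_le.2 (subset_closure (Or.inl rfl))) ?_
        rw [Nat.card_zpowers, hc₀o, ← orderOf_eq_card_of_forall_mem_zpowers hw]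
        exact orderOf_le_of_pow_eq_one hy₀p.pos (Subtype.ext (hAp w w.2))
      have : a₂ ∈ zpowers a₁ := hA1 ▸ subset_closure (Or.inr rfl)
      obtain ⟨j, hj⟩ := mem_zpowers_iff.1 this
      exact mem_zpowers_iff.2 ⟨j, Subtype.ext (Subtype.ext (by simpa [ha₁, ha₂] using hj))⟩
    -- every element of `A` centralises the torus of `c₀`, and conversely
    obtain ⟨l, hl, hlT, hlp⟩ := hmix p
    haveI := Fact.mk hl
    obtain ⟨s, hs, hne⟩ := h.exists_moved hS hw hab ht ht2 hbig (y := a₁) (c₀ : (compl b H₁ t)).2 (hc₀o ▸ hy₀p) hl hlT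
    have hAn : A ≤ normalizer (h.omega l : Set G) := fun v hv => by
      obtain ⟨v', -, rfl⟩ := hAK hv
      exact SEBrick.mem_normalizer_of fun s hs =>
        ⟨h.T_norm _ (mem_compl.1 v'.2).1 s hs.1, by rw [conj_pow, hs.2, mul_one, mul_inv_cancel]⟩
    have hAcop : (Nat.card A).Coprime (Nat.card (h.omega l)) := by
      obtain ⟨i, hi⟩ := (((S.isPGroup'.map _).map _).to_le hAK).exists_card_eq
      have hOp : IsPGroup l (h.omega l) := fun v => ⟨1, Subtype.ext (by rw [pow_one]; exact v.2.2)⟩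
      obtain ⟨j, hj⟩ := hOp.exists_card_eq
      rw [hi, hj]
      exact Nat.coprime_pow_primes i j hy₀p hl hlp.symm
    have hgen := CoprimeAct.generated_by_centralizers hAnc hAn hAcop
    rw [← hgen] at hs
    refine hne (?_ : a₁ * s = s * a₁)
    have hle : (⨆ v ∈ {v : G | v ∈ A ∧ v ≠ 1}, h.omega l ⊓ centralizer {v}) ≤ centralizer ({a₁} : Set G) := by
      refine iSup₂_le fun v hv w hw => ?_
      obtain ⟨hv, hv1⟩ := hv
      obtain ⟨v', ⟨v'', hv'', rfl⟩, rfl⟩ := hAK hv
      obtain ⟨hwO, hwv⟩ := mem_inf.1 hw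
      rw [mem_centralizer_singleton_iff] at hwv ⊢
      have hvo : orderOf (((v'' : K) : (compl b H₁ t)) : G) = p := orderOf_eq_prime (hAp _ hv) hv1
      have hzv : z * ((v'' : (compl b H₁ t)) : G) = ((v'' : (compl b H₁ t)) : G) * z :=
        hsh hc₀o hvo (hc₀c v'' hv'').symm hzT hz1 hzc hzT hzc
      exact hsh hvo hc₀o (hc₀c v'' hv'') hzT hz1 hzv hwO.1 hwv
    exact (mem_centralizer_singleton_iff.1 (hle hs)).symm
  -- the Sylow `r`-subgroup has order `r`
  have hyz : zpowers c₀ = zpowers y := by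
    refine (eq_of_le_of_card_ge (zpowers_le.2 (hunique y hyS hyp)) (le_of_eq ?_)).symm
    rw [Nat.card_zpowers, Nat.card_zpowers, ← Subgroup.orderOf_coe, ← Subgroup.orderOf_coe, hc₀o,
      ← Subgroup.orderOf_coe, ← Subgroup.orderOf_coe, hyp]
  have hPexp : ∀ g ∈ (P : Subgroup (compl b H₁ t)), g ^ r = 1 := by
    intro g hg
    by_contra hne
    have hgy : (g : G)⁻¹ * ((y : (compl b H₁ t)) : G) * g ∈ zpowers ((y : (compl b H₁ t)) : G) := by
      obtain ⟨v, hv, hve⟩ : g⁻¹ * (y : (compl b H₁ t)) * g⁻¹⁻¹ ∈ (S : Subgroup K).map K.subtype :=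
        SEBrick.conj_mem_of (inv_mem (hSn hg)) ⟨y, hyS, rfl⟩
      have hvo : orderOf ((v : (compl b H₁ t)) : G) = p := by
        rw [show (v : (compl b H₁ t)) = g⁻¹ * (y : (compl b H₁ t)) * g⁻¹⁻¹ from hve, Subgroup.orderOf_coe, Invol.order_conj,
          ← Subgroup.orderOf_coe, hyp]
      have hvy : v ∈ zpowers y := hyz ▸ hunique v hv hvo
      obtain ⟨j, hj⟩ := mem_zpowers_iff.1 hvy
      refine mem_zpowers_iff.2 ⟨j, ?_⟩
      have h1 := congrArg (fun w : (compl b H₁ t) => (w : G)) hve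
      simp only [inv_inv, Subgroup.coe_mul, Subgroup.coe_inv, Subgroup.coe_subtype] at h1
      rw [← h1, ← hj]
      simp
    have h1 := h.pow_centralizes hS hw hab ht ht2 hr.out x.2 hxr hxfix (y : (compl b H₁ t)).2 (hxc' _ (y : (compl b H₁ t)).2)
      (hyp ▸ hy₀p) hzT hz1 hzy g.2 hgy hzT hzy
    obtain ⟨i, hi⟩ := exists_pow_prime hne
    have hio : orderOf ((g ^ r) ^ i) = r := by
      obtain ⟨n, hn⟩ := IsPGroup.iff_orderOf.1 P.isPGroup' ⟨(g ^ r) ^ i, pow_mem (pow_mem hg r) i⟩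
      rw [Subgroup.orderOf_mk] at hn
      exact (Nat.prime_dvd_prime_iff_eq hi hr.out).1 (hi.dvd_of_dvd_pow (n := n) (hn ▸ dvd_rfl))
    refine hz1 (hnor hio z hzT ?_)
    rw [SubgroupClass.coe_pow, SubgroupClass.coe_pow]
    exact (Commute.pow_left (h1 : Commute ((g : G) ^ r) z) i).eq
  intro g hg
  obtain ⟨w, hw⟩ := hPc.exists_generator
  have hcard : Nat.card (P : Subgroup (compl b H₁ t)) ≤ orderOf xP := by
    rw [hxP, ← orderOf_eq_card_of_forall_mem_zpowers hw]
    exact orderOf_le_of_pow_eq_one hr.out.pos (Subtype.ext (hPexp w w.2))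
  have hgx : (⟨g, hg⟩ : (P : Subgroup (compl b H₁ t))) ∈ zpowers xP := by
    rw [eq_top_of_le_card (zpowers xP) (by rw [Nat.card_zpowers]; exact hcard)]
    exact mem_top _
  obtain ⟨j, hj⟩ := mem_zpowers_iff.1 hgx
  refine mem_center_iff.2 fun c => ?_
  have hgj : g = x ^ j := (congrArg Subtype.val hj).symm.trans (SubgroupClass.coe_zpow xP j)
  rw [hgj]
  exact (Commute.zpow_left (hxc c : Commute x c) j).eq.symm

/-- No element of prime order of the complement has a fixed point on `T`. -/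
theorem false_of_rankTwo (hS : Setting H) (hw : SETrans.Weak G (G ⧸ H) ((1 : G) : G ⧸ H))
    (hab : ((1 : G) : G ⧸ H) ≠ b) {t : G} (ht : t ∈ H) (ht2 : orderOf t = 2)
    (hbig : ∀ y ∈ compl b H₁ t, (orderOf y).Prime → ∀ (l : ℕ), l.Prime → ∀ k ∈ T, orderOf k = l →
      k * y = y * k → l < Nat.card {s : T // s ^ l = 1})
    (hmix : ∀ q : ℕ, ∃ l : ℕ, l.Prime ∧ l ∣ Nat.card T ∧ l ≠ q)
    {y₀ z₀ : G} (hy₀ : y₀ ∈ compl b H₁ t) (hy₀p : (orderOf y₀).Prime) (hz₀ : z₀ ∈ T) (hz₀1 : z₀ ≠ 1)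
    (hz₀y : z₀ * y₀ = y₀ * z₀) : False := by
  classical
  set C := compl b H₁ t with hC
  have hCodd : Odd (Nat.card C) :=
    (pairStab_odd hS.se hab).of_dvd_nat (card_dvd_of_le (inf_le_left.trans inf_le_right))
  haveI hsol : Group.IsSolvable C := OddChar.oddSolvable _ hCodd
  -- `C` is generated by its commutators and its centre
  have hM : commutator C ⊔ center C = ⊤ := by
    by_contra hne
    haveI : (commutator C ⊔ center C).Normal := Subgroup.sup_normal _ _
    haveI : Nontrivial (C ⧸ (commutator C ⊔ center C)) := QuotientGroup.nontrivial_iff.2 hne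
    obtain ⟨r, hr, -, φ, hφ⟩ := exists_hom_of_solvable
      (A := C ⧸ (commutator C ⊔ center C)) inferInstance
    haveI := Fact.mk hr
    set φ' := φ.comp (QuotientGroup.mk' (commutator C ⊔ center C)) with hφ'
    have hφ'1 : φ' ≠ 1 := fun e => hφ (MonoidHom.ext fun q => by
      obtain ⟨g, rfl⟩ := QuotientGroup.mk_surjective q
      exact DFunLike.congr_fun e g)
    obtain ⟨P⟩ : Nonempty (Sylow r C) := inferInstance
    have hPker : (P : Subgroup C) ≤ φ'.ker := fun g hg => by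
      have hgc := h.central_of_top hS hw hab ht ht2 hbig hmix hy₀ hy₀p hz₀ hz₀1 hz₀y hφ'1 P hg
      rw [MonoidHom.mem_ker, hφ', MonoidHom.comp_apply,
        show QuotientGroup.mk' _ g = (1 : C ⧸ (commutator C ⊔ center C)) from
          (QuotientGroup.eq_one_iff g).2 (mem_sup_right hgc), map_one]
    have hidx : φ'.ker.index = r := by
      rw [Subgroup.index_ker]
      have h1 : Nat.card φ'.range ∣ r := by
        have := φ'.range.card_subgroup_dvd_card
        rwa [Nat.card_congr Multiplicative.toAdd, Nat.card_zmod] at this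
      refine ((Nat.dvd_prime hr).1 h1).resolve_left fun e => hφ'1 ?_
      exact MonoidHom.range_eq_bot_iff.1 (Subgroup.eq_bot_of_card_eq _ e)
    have := Subgroup.index_dvd_of_le hPker
    rw [hidx] at this
    exact P.not_dvd_index this
  -- so it is abelian
  have hperf : derivedSeries C 1 ≤ derivedSeries C 2 := by
    rw [derivedSeries_succ (G := C) 1, derivedSeries_one]
    conv_lhs => rw [_root_.commutator_def, ← hM]
    rw [Subgroup.commutator_le]
    intro a ha c hc
    obtain ⟨a₁, ha₁, a₂, ha₂, rfl⟩ := mem_sup_of_normal_right.1 ha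
    obtain ⟨c₁, hc₁, c₂, hc₂, rfl⟩ := mem_sup_of_normal_right.1 hc
    have hA := fun g => mem_center_iff.1 ha₂ g
    have hC' := fun g => mem_center_iff.1 hc₂ g
    have e : ⁅a₁ * a₂, c₁ * c₂⁆ = ⁅a₁, c₁⁆ := by
      rw [commutatorElement_def, commutatorElement_def, mul_inv_rev, mul_inv_rev]
      calc a₁ * a₂ * (c₁ * c₂) * (a₂⁻¹ * a₁⁻¹) * (c₂⁻¹ * c₁⁻¹)
          = a₁ * (a₂ * (c₁ * c₂)) * a₂⁻¹ * a₁⁻¹ * c₂⁻¹ * c₁⁻¹ := by group
        _ = a₁ * ((c₁ * c₂) * a₂) * a₂⁻¹ * a₁⁻¹ * c₂⁻¹ * c₁⁻¹ := by rw [← hA (c₁ * c₂)]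
        _ = a₁ * c₁ * (c₂ * a₁⁻¹) * c₂⁻¹ * c₁⁻¹ := by group
        _ = a₁ * c₁ * (a₁⁻¹ * c₂) * c₂⁻¹ * c₁⁻¹ := by rw [hC' a₁⁻¹]
        _ = _ := by group
    rw [e]
    exact commutator_mem_commutator ha₁ hc₁
  have hbot : commutator C = ⊥ := by
    obtain ⟨n, hn⟩ := hsol.solvable
    have hall : ∀ m, derivedSeries C 1 ≤ derivedSeries C (m + 1) := by
      intro m
      induction m with
      | zero => exact le_rfl
      | succ m ih =>
        refine hperf.trans ?_
        rw [derivedSeries_succ (G := C) (m + 1), show (2 : ℕ) = 1 + 1 from rfl, derivedSeries_succ (G := C) 1]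
        exact Subgroup.commutator_mono ih ih
    rw [← derivedSeries_one, eq_bot_iff, ← hn]
    exact (hall n).trans (derivedSeries_antitone C n.le_succ)
  letI : CommGroup C := { (inferInstance : Group C) with
    mul_comm := fun a c => commutatorElement_eq_one_iff_mul_comm.1
      ((Subgroup.eq_bot_iff_forall _).1 hbot _ (commutator_mem_commutator (mem_top a) (mem_top c))) }
  -- and the prime of `y₀` is excepted
  haveI := Fact.mk hy₀p
  obtain ⟨φ, hφ⟩ := exists_hom_prime (A := C) (p := orderOf y₀)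
    ((Subgroup.orderOf_mk y₀ hy₀).symm ▸ orderOf_dvd_natCard (⟨y₀, hy₀⟩ : C))
  exact hz₀1 ((h.top_compl ht ht2 hy₀p hφ).2.2.2 y₀ (mem_compl.1 hy₀).1 rfl z₀ hz₀ hz₀y.symm)

end CommData

end Cfsg.Agent.SEMain
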