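import Cfsg.Agent.Lib.Solvable.CoprimeFreeGroup
import Mathlib.FieldTheory.Finite.Basic
import Mathlib.RingTheory.IntegralDomain

/-!
# A torus on an elementary abelian 2-group

An abelian group regular on the non-identity elements of an elementary abelian 2-group is cyclic and a
normalising element fixing one of them raises it to a power of two. With an element of prime order `r`
without fixed points its order is `2 ^ r - 1`, and `r`-th powers centralise it.
-/

set_option autoImplicit false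
set_option linter.style.haveILetI false
set_option linter.unusedSectionVars false

namespace Cfsg.Agent.SEMain

open Subgroup

universe u

variable {G : Type u} [Group G] [Finite G]

/-- An abelian group `Z` regular on the non-identity elements of the elementary abelian group `E`. -/
structure Torus (E Z : Subgroup G) (t : G) : Prop where
  sq : ∀ e ∈ E, e * e = 1
  norm : Z ≤ normalizer (E : Set G)
  comm : ∀ z ∈ Z, ∀ w ∈ Z, z * w = w * z
  mem : t ∈ E
  ne : t ≠ 1
  free : ∀ z ∈ Z, z * t * z⁻¹ = t → z = 1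
  trans : ∀ e ∈ E, e ≠ 1 → ∃ z ∈ Z, z * t * z⁻¹ = e

theorem Torus.card_cyclic {E Z : Subgroup G} {t : G} (h : Torus E Z t) :
    IsCyclic Z ∧ (∃ k : ℕ, Nat.card Z + 1 = 2 ^ k) ∧
      ∀ g : G, g ∈ normalizer (E : Set G) → g ∈ normalizer (Z : Set G) → g * t = t * g →
        ∃ i : ℕ, ∀ z ∈ Z, g * z * g⁻¹ = z ^ 2 ^ i := by
  classical
  have hEc : ∀ a b : E, a * b = b * a := fun a b => by
    have hi : ∀ c : E, c⁻¹ = c := fun c => inv_eq_of_mul_eq_one_left (Subtype.ext (h.sq c c.2))
    have := hi (a * b)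
    rw [mul_inv_rev, hi, hi] at this
    exact this.symm
  letI : CommGroup E := { (inferInstance : Group E) with mul_comm := hEc }
  letI : Module (ZMod 2) (Additive E) := AddCommGroup.zmodModule fun v => by
    rw [two_nsmul]; exact Subtype.ext (h.sq _ (Additive.toMul v).2)
  let Φ : normalizer (E : Set G) →* Module.End (ZMod 2) (Additive E) :=
    (CoprimeFree.autEnd 2 E).comp E.normalizerMonoidHom
  have hΦ : ∀ (g : normalizer (E : Set G)) (v : Additive E),
      ((Additive.toMul (Φ g v) : E) : G) = (g : G) * ((Additive.toMul v : E) : G) * (g : G)⁻¹ :=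
    fun g v => rfl
  have hext : ∀ {v w : Additive E}, ((Additive.toMul v : E) : G) = ((Additive.toMul w : E) : G) → v = w :=
    fun e => Additive.toMul.injective (Subtype.ext e)
  let θ : Z →* Module.End (ZMod 2) (Additive E) := Φ.comp (inclusion h.norm)
  let t₀ : Additive E := Additive.ofMul ⟨t, h.mem⟩
  have ht₀ : t₀ ≠ 0 := fun e => h.ne (congrArg (fun v : Additive E => ((Additive.toMul v : E) : G)) e)
  have hθinj : Function.Injective θ := (injective_iff_map_eq_one θ).2 fun z hz =>
    Subtype.ext (h.free z z.2 (congrArg (fun F : Module.End (ZMod 2) (Additive E) =>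
      ((Additive.toMul (F t₀) : E) : G)) hz))
  have htr : ∀ v : Additive E, v ≠ 0 → ∃ z : Z, θ z t₀ = v := by
    intro v hv
    obtain ⟨z, hz, he⟩ := h.trans _ (Additive.toMul v).2 fun e => hv (hext e)
    exact ⟨⟨z, hz⟩, hext he⟩
  have hθc : ∀ z w : Z, θ z * θ w = θ w * θ z := fun z w => by
    rw [← map_mul, ← map_mul, show z * w = w * z from Subtype.ext (h.comm _ z.2 _ w.2)]
  set C := Subalgebra.centralizer (ZMod 2) (Set.range θ) with hC
  have hmem : ∀ z : Z, θ z ∈ C := fun z => by
    rw [hC, Subalgebra.mem_centralizer_iff]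
    rintro _ ⟨w, rfl⟩
    exact hθc w z
  have hcent : ∀ a ∈ C, a = 0 ∨ ∃ z : Z, a = θ z := by
    intro a ha
    rw [hC, Subalgebra.mem_centralizer_iff] at ha
    have hcom : ∀ (w : Z) (v : Additive E), a (θ w v) = θ w (a v) := fun w v =>
      (congrArg (fun F : Module.End (ZMod 2) (Additive E) => F v) (ha _ ⟨w, rfl⟩)).symm
    by_cases h0 : a t₀ = 0
    · refine Or.inl (LinearMap.ext fun v => ?_)
      by_cases hv : v = 0
      · rw [hv, map_zero, LinearMap.zero_apply]
      · obtain ⟨w, rfl⟩ := htr v hv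
        rw [hcom, h0, map_zero, LinearMap.zero_apply]
    · obtain ⟨z, hz⟩ := htr _ h0
      refine Or.inr ⟨z, LinearMap.ext fun v => ?_⟩
      by_cases hv : v = 0
      · rw [hv, map_zero, map_zero]
      · obtain ⟨w, rfl⟩ := htr v hv
        rw [hcom, ← hz]
        exact congrArg (fun F : Module.End (ZMod 2) (Additive E) => F t₀) (hθc w z)
  have hfield : IsField C := by
    refine ⟨⟨0, 1, fun e => ht₀ ?_⟩, fun a b => ?_, fun {a} ha => ?_⟩
    · have := congrArg (fun F : C => (F : Module.End (ZMod 2) (Additive E)) t₀) e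
      simpa using this.symm
    · refine Subtype.ext ?_
      rcases hcent a a.2 with ha | ⟨z, ha⟩ <;> rcases hcent b b.2 with hb | ⟨w, hb⟩ <;>
        simp [MulMemClass.coe_mul, ha, hb, hθc]
    · obtain ⟨z, hz⟩ := (hcent a a.2).resolve_left fun e => ha (Subtype.ext e)
      exact ⟨⟨θ z⁻¹, hmem _⟩, Subtype.ext (by
        rw [Subalgebra.coe_mul, Subalgebra.coe_one, hz, ← map_mul, mul_inv_cancel, map_one])⟩
  letI := hfield.toField
  haveI : Finite (Module.End (ZMod 2) (Additive E)) :=
    Finite.of_injective (fun f => (f : Additive E → Additive E)) DFunLike.coe_injective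
  haveI : Finite C := Subtype.finite
  haveI : Fintype C := Fintype.ofFinite C
  let θC : Z →* C := θ.codRestrict C hmem
  have hθC : Function.Injective θC := fun a b e => hθinj (congrArg Subtype.val e)
  refine ⟨isCyclic_of_subgroup_isDomain θC hθC, ?_, fun g hgE hgZ hgt => ?_⟩
  · haveI : Fact (Nat.Prime 2) := ⟨Nat.prime_two⟩
    obtain ⟨k, hk⟩ := IsPGroup.exists_card_eq (G := E) (p := 2)
      (fun e => ⟨1, by rw [pow_one, pow_two]; exact Subtype.ext (h.sq e e.2)⟩)
    refine ⟨k, hk ▸ ?_⟩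
    rw [← Finite.card_option]
    refine Nat.card_eq_of_bijective (fun o : Option Z => o.elim 0 fun z => θ z t₀) ⟨?_, ?_⟩ |>.trans
      (Nat.card_congr Additive.toMul)
    · have hne : ∀ z : Z, θ z t₀ ≠ 0 := fun z e => ht₀ (by
        have := congrArg (θ z⁻¹) e
        rwa [← Module.End.mul_apply, ← map_mul, inv_mul_cancel, map_one, map_zero] at this)
      rintro (_ | z) (_ | w) e
      · rfl
      · exact absurd e.symm (hne w)
      · exact absurd e (hne z)
      · refine congrArg some (inv_mul_eq_one.1 (Subtype.ext (h.free _ (w⁻¹ * z).2 ?_))).symm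
        have := congrArg (θ w⁻¹) e
        simp only [Option.elim_some, ← Module.End.mul_apply, ← map_mul, inv_mul_cancel, map_one] at this
        exact congrArg (fun v : Additive E => ((Additive.toMul v : E) : G)) this
    · intro v
      by_cases hv : v = 0
      · exact ⟨none, hv.symm⟩
      · obtain ⟨z, hz⟩ := htr v hv
        exact ⟨some z, hz⟩
  · set g' : normalizer (E : Set G) := ⟨g, hgE⟩ with hg'
    have hconj : ∀ z : Z, Φ g' * θ z * Φ g'⁻¹ = θ ⟨g * z * g⁻¹, (mem_normalizer_iff.1 hgZ z).1 z.2⟩ := by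
      intro z
      rw [show θ z = Φ (inclusion h.norm z) from rfl, ← map_mul, ← map_mul]
      exact congrArg Φ (Subtype.ext rfl)
    let τ : C →ₐ[ZMod 2] C :=
      { toFun := fun a => ⟨Φ g' * (a : Module.End (ZMod 2) (Additive E)) * Φ g'⁻¹, by
          rcases hcent a a.2 with ha | ⟨z, ha⟩
          · rw [ha, mul_zero, zero_mul]; exact C.zero_mem
          · rw [ha, hconj]; exact hmem _⟩
        map_one' := Subtype.ext (by simp [← map_mul])
        map_mul' := fun a b => Subtype.ext (by
          simp only [Subalgebra.coe_mul]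
          have he : Φ g'⁻¹ * Φ g' = 1 := by rw [← map_mul, inv_mul_cancel, map_one]
          simp only [mul_assoc]
          rw [← mul_assoc (Φ g'⁻¹) (Φ g'), he, one_mul])
        map_zero' := Subtype.ext (by simp)
        map_add' := fun a b => Subtype.ext (by simp [mul_add, add_mul])
        commutes' := fun c => Subtype.ext (by
          simp [Algebra.algebraMap_eq_smul_one, ← map_mul]) }
    obtain ⟨n, hn⟩ := (FiniteField.bijective_frobeniusAlgHom_pow (ZMod 2) C).2 τ
    refine ⟨n.1, fun z hz => ?_⟩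
    have h2 := congrArg (fun F : C →ₐ[ZMod 2] C => F (θC ⟨z, hz⟩)) hn
    simp only [AlgHom.coe_pow, FiniteField.coe_frobeniusAlgHom, pow_iterate, ZMod.card] at h2
    rw [← map_pow] at h2
    refine (congrArg Subtype.val (hθinj (a₁ := (⟨z, hz⟩ : Z) ^ 2 ^ n.1)
      (a₂ := ⟨g * z * g⁻¹, (mem_normalizer_iff.1 hgZ z).1 hz⟩) ?_)).symm
    rw [← hconj ⟨z, hz⟩]
    exact congrArg Subtype.val h2

/-- With an element of prime order `r` without fixed points the torus has order `2 ^ r - 1` and the
`r`-th powers of the normalising elements fixing `t` centralise it. -/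
theorem Torus.exponent {E Z : Subgroup G} {t x : G} (h : Torus E Z t) {r : ℕ} (hr : r.Prime)
    (hxE : x ∈ normalizer (E : Set G)) (hxZ : x ∈ normalizer (Z : Set G)) (hxt : x * t = t * x)
    (hxr : x ^ r = 1) (hfix : ∀ z ∈ Z, x * z = z * x → z = 1) (hne : ∃ z ∈ Z, z ≠ 1) :
    Nat.card Z = 2 ^ r - 1 ∧ ∀ g : G, g ∈ normalizer (E : Set G) → g ∈ normalizer (Z : Set G) →
      g * t = t * g → ∀ z ∈ Z, g ^ r * z = z * g ^ r := by
  obtain ⟨hcyc, ⟨k, hk⟩, haut⟩ := h.card_cyclic
  have hk1 : 2 ≤ k := by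
    obtain ⟨z, hz, hz1⟩ := hne
    haveI : Nontrivial Z := ⟨⟨⟨z, hz⟩, 1, fun e => hz1 (congrArg Subtype.val e)⟩⟩
    have h1 : 1 < Nat.card Z := Finite.one_lt_card
    by_contra hlt
    have := Nat.pow_le_pow_right two_pos (show k ≤ 1 by omega)
    omega
  obtain ⟨w, hw⟩ := hcyc.exists_generator
  have hwo : orderOf (w : G) = 2 ^ k - 1 := by
    rw [Subgroup.orderOf_coe, orderOf_eq_card_of_forall_mem_zpowers hw]
    omega
  have hiter : ∀ (g : G) (i : ℕ), (∀ z ∈ Z, g * z * g⁻¹ = z ^ 2 ^ i) → ∀ (j : ℕ), ∀ z ∈ Z,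
      g ^ j * z * (g ^ j)⁻¹ = z ^ 2 ^ (i * j) := by
    intro g i hgi j
    induction j with
    | zero => intro z _; simp
    | succ j ih =>
      intro z hz
      rw [pow_succ', mul_inv_rev, show g * g ^ j * z * ((g ^ j)⁻¹ * g⁻¹) =
        g * (g ^ j * z * (g ^ j)⁻¹) * g⁻¹ by group, ih z hz, hgi _ (pow_mem hz _), ← pow_mul, ← pow_add]
      congr 2
  have hmod : ∀ {n : ℕ}, (w : G) ^ 2 ^ n = w → k ∣ n := by
    intro n hn
    have h1 : (w : G) ^ (2 ^ n - 1) = 1 := by
      refine mul_right_cancel (b := (w : G)) ?_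
      rw [one_mul, ← pow_succ, Nat.sub_add_cancel Nat.one_le_two_pow, hn]
    have h2 := orderOf_dvd_of_pow_eq_one h1
    rw [hwo] at h2
    have h3 : Nat.gcd (2 ^ k - 1) (2 ^ n - 1) = 2 ^ k - 1 := Nat.gcd_eq_left h2
    rw [Nat.pow_sub_one_gcd_pow_sub_one] at h3
    have h4 : Nat.gcd k n = k := Nat.pow_right_injective le_rfl
      (show 2 ^ Nat.gcd k n = 2 ^ k by
        have := Nat.one_le_two_pow (n := Nat.gcd k n)
        have := Nat.one_le_two_pow (n := k)
        omega)
    exact h4 ▸ Nat.gcd_dvd_right k n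
  obtain ⟨i, hi⟩ := haut x hxE hxZ hxt
  have hki : k ∣ i * r := hmod (by
    have := hiter x i hi r w w.2
    rwa [hxr, one_mul, inv_one, mul_one, eq_comm] at this)
  have hcop : Nat.gcd k i = 1 := by
    by_contra hd
    set d := Nat.gcd k i with hdd
    set v := (w : G) ^ ((2 ^ k - 1) / (2 ^ d - 1)) with hv
    have hd0 : 0 < d := Nat.gcd_pos_of_pos_left _ (by omega)
    have hdk : 2 ^ d - 1 ∣ 2 ^ k - 1 := Nat.pow_sub_one_dvd_pow_sub_one 2 (Nat.gcd_dvd_left k i)
    have hdi : 2 ^ d - 1 ∣ 2 ^ i - 1 := Nat.pow_sub_one_dvd_pow_sub_one 2 (Nat.gcd_dvd_right k i)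
    have h4 : 4 ≤ 2 ^ d := Nat.pow_le_pow_right two_pos (show 2 ≤ d by omega)
    have hvo : orderOf v = 2 ^ d - 1 := by
      have := Nat.one_lt_two_pow (show k ≠ 0 by omega)
      rw [hv, orderOf_pow_of_dvd, hwo, Nat.div_div_self hdk (by omega)]
      · intro e
        have := Nat.div_mul_cancel hdk
        rw [e, zero_mul] at this
        omega
      · rw [hwo]; exact Nat.div_dvd_of_dvd hdk
    have hv1 : v ^ 2 ^ i = v := by
      have h1 : v ^ (2 ^ i - 1) = 1 := orderOf_dvd_iff_pow_eq_one.1 (hvo ▸ hdi)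
      rw [← Nat.sub_add_cancel (Nat.one_le_two_pow (n := i)), pow_succ, h1, one_mul]
    have := hfix v (pow_mem w.2 _) (by
      have h1 := hi v (pow_mem w.2 _)
      rw [hv1] at h1
      exact mul_inv_eq_iff_eq_mul.1 h1)
    rw [this, orderOf_one] at hvo
    omega
  have hkr : k = r := by
    rcases hr.eq_one_or_self_of_dvd k ((Nat.Coprime.dvd_of_dvd_mul_left hcop hki)) with h' | h'
    · omega
    · exact h'
  subst hkr
  refine ⟨by omega, fun g hgE hgZ hgt z hz => ?_⟩
  obtain ⟨j, hj⟩ := haut g hgE hgZ hgt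
  have hfixk : ∀ (j : ℕ), ∀ z ∈ Z, z ^ 2 ^ (j * k) = z := by
    intro j z hz
    have h1 : z ^ Nat.card Z = 1 := congrArg Subtype.val (pow_card_eq_one' (x := (⟨z, hz⟩ : Z)))
    rw [← Nat.sub_add_cancel (Nat.one_le_two_pow (n := j * k)), pow_succ]
    obtain ⟨c, hc⟩ := Nat.pow_sub_one_dvd_pow_sub_one 2 (dvd_mul_left k j)
    rw [hc, show 2 ^ k - 1 = Nat.card Z by omega, pow_mul, h1, one_pow, one_mul]
  have h1 := hiter g j hj k z hz
  rw [hfixk j z hz] at h1
  exact mul_inv_eq_iff_eq_mul.1 h1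

end Cfsg.Agent.SEMain
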