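import Cfsg.Agent.Lib.SEMain.Commute.FinishData
import Cfsg.Agent.Lib.SEMain.Commute.FinishCent
import Cfsg.Agent.Lib.SEMain.Commute.FinishField
import Cfsg.Agent.Lib.OddOrder.ComplAction
import Cfsg.Agent.Lib.Solvable.Coprime
import Mathlib.GroupTheory.SpecificGroups.ZGroup

/-!
# Elements of the complement with fixed points on `T`

Such an element gives a torus on the involutions it centralises. If none of them centralises a cyclic
subgroup of `T` of prime order unique of its order, and the order of `T` is not a prime power, there is none: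
the complement would be abelian with all its primes excepted.
-/

set_option autoImplicit false
set_option linter.style.haveILetI false
set_option linter.unusedSectionVars false

namespace Cfsg.Agent.SEMain

open Subgroup MulAction
open scoped commutatorElement

universe u

variable {G : Type u} [Group G] [Finite G] {H : Subgroup G}

/-- In a finite group, a power of a non-trivial element has prime order. -/
theorem exists_pow_prime {g : G} (hg : g ≠ 1) : ∃ i : ℕ, (orderOf (g ^ i)).Prime := by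
  obtain ⟨p, hp, hdvd⟩ := Nat.exists_prime_and_dvd (n := orderOf g) (by simpa using hg)
  exact ⟨orderOf g / p, by rw [orderOf_pow_orderOf_div (orderOf_pos g).ne' hdvd]; exact hp⟩

namespace CommData

variable {b : G ⧸ H} {H₁ T : Subgroup G} (h : CommData H b H₁ T)
include h

/-- The elements of `T` of order dividing `l`. -/
def omega (l : ℕ) : Subgroup G where
  carrier := {s | s ∈ T ∧ s ^ l = 1}
  one_mem' := ⟨T.one_mem, one_pow l⟩
  mul_mem' := fun {a c} ha hc => ⟨T.mul_mem ha.1 hc.1, by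
    rw [Commute.mul_pow (h.T_comm a ha.1 c hc.1 : Commute a c), ha.2, hc.2, one_mul]⟩
  inv_mem' := fun {a} ha => ⟨T.inv_mem ha.1, by rw [inv_pow, ha.2, inv_one]⟩

/-- Elements of prime order of the complement: the involutions of `H` centralising one with a fixed point on
`T` commute. -/
theorem comm_cent (hS : Setting H) (hw : SETrans.Weak G (G ⧸ H) ((1 : G) : G ⧸ H))
    (hab : ((1 : G) : G ⧸ H) ≠ b) {t y z : G} (hy : y ∈ compl b H₁ t) (hyp : (orderOf y).Prime) (hz : z ∈ T)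
    (hz1 : z ≠ 1) (hzy : z * y = y * z) {s s' : G} (hs : s ∈ H) (hs' : s' ∈ H) (hs2 : orderOf s = 2)
    (hs'2 : orderOf s' = 2) (hsy : s * y = y * s) (hs'y : s' * y = y * s') : s * s' = s' * s := by
  obtain ⟨i, hi⟩ := exists_pow_prime hz1
  haveI := Fact.mk hi
  haveI := Fact.mk hyp
  have hz' : z ^ i ∈ T := pow_mem hz i
  exact comm_of_centralizer hS hw hab (p := orderOf y) (l := orderOf (z ^ i)) rfl
    (mem_inf.1 (mem_compl.1 hy).1).2 (pow_orderOf_eq_one _) (mem_inf.1 (h.T_le hz')).2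
    (fun f hf => h.semi _ hz' (fun e => hi.one_lt.ne (by rw [e, orderOf_one])) f hf)
    (Commute.pow_left (hzy : Commute z y) i).eq hs hs' hs2 hs'2 hsy hs'y

/-- The torus of an element with a fixed point on `T`. -/
theorem exists_torus (hS : Setting H) (hw : SETrans.Weak G (G ⧸ H) ((1 : G) : G ⧸ H))
    (hab : ((1 : G) : G ⧸ H) ≠ b) {t y z : G} (ht : t ∈ H) (ht2 : orderOf t = 2) (hy : y ∈ compl b H₁ t)
    (hyp : (orderOf y).Prime) (hz : z ∈ T) (hz1 : z ≠ 1) (hzy : z * y = y * z) :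
    ∃ E : Subgroup G, Torus E (T ⊓ centralizer ({y} : Set G)) t ∧
      ∀ g ∈ compl b H₁ t, g⁻¹ * y * g ∈ zpowers y →
        g ∈ normalizer (E : Set G) ∧ g ∈ normalizer ((T ⊓ centralizer ({y} : Set G) : Subgroup G) : Set G) := by
  have hc : ∀ {s s' : G}, s ∈ H → s' ∈ H → orderOf s = 2 → orderOf s' = 2 → s * y = y * s →
      s' * y = y * s' → s * s' = s' * s := fun hs hs' hs2 hs'2 => h.comm_cent hS hw hab hy hyp hz hz1 hzy hs hs' hs2 hs'2
  let E : Subgroup G :=
    { carrier := {g | g = 1 ∨ (g ∈ H ∧ orderOf g = 2 ∧ g * y = y * g)}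
      one_mem' := Or.inl rfl
      mul_mem' := fun {a c} ha hc' => by
        rcases ha with rfl | ⟨ha, ha2, hay⟩
        · rwa [one_mul]
        rcases hc' with rfl | ⟨hc1, hc2, hcy⟩
        · rw [mul_one]; exact Or.inr ⟨ha, ha2, hay⟩
        by_cases h1 : a * c = 1
        · exact Or.inl h1
        refine Or.inr ⟨mul_mem ha hc1, Invol.order_two_of_sq ?_ h1, ?_⟩
        · calc a * c * (a * c) = a * c * (c * a) := by rw [hc ha hc1 ha2 hc2 hay hcy]
            _ = a * (c * c) * a := by group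
            _ = 1 := by rw [Invol.mul_self hc2, mul_one, Invol.mul_self ha2]
        · rw [mul_assoc, hcy, ← mul_assoc, hay, mul_assoc]
      inv_mem' := fun {a} ha => by
        rcases ha with rfl | ⟨ha, ha2, hay⟩
        · exact Or.inl inv_one
        · rw [Invol.inv_self ha2]; exact Or.inr ⟨ha, ha2, hay⟩ }
  have hconj : ∀ g ∈ H, (∀ v : G, v * y = y * v → g * v * g⁻¹ * y = y * (g * v * g⁻¹)) →
      g ∈ normalizer (E : Set G) := by
    intro g hg hgc
    refine SEBrick.mem_normalizer_of ?_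
    rintro e (rfl | ⟨he, he2, hey⟩)
    · exact Or.inl (by group)
    · exact Or.inr ⟨mul_mem (mul_mem hg he) (inv_mem hg), (Invol.order_conj g e).trans he2, hgc e hey⟩
  refine ⟨E, ⟨?_, fun v hv => ?_, fun v hv v' hv' => h.T_comm v (mem_inf.1 hv).1 v' (mem_inf.1 hv').1,
    Or.inr ⟨ht, ht2, (mem_compl.1 hy).2.symm⟩, Invol.ne_one ht2, fun v hv e =>
    h.free v (mem_inf.1 hv).1 t ht ht2 (mul_inv_eq_iff_eq_mul.1 e), ?_⟩, fun g hg hgy => ?_⟩
  · rintro e (rfl | ⟨-, he2, -⟩)
    · exact mul_one _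
    · exact Invol.mul_self he2
  · obtain ⟨hvT, hvy⟩ := mem_inf.1 hv
    rw [mem_centralizer_singleton_iff] at hvy
    refine hconj v (h.mem_H (h.T_le hvT)) fun w hw => ?_
    exact (Commute.mul_left (Commute.mul_left (hvy : Commute v y) hw) (Commute.inv_left hvy)).eq
  · rintro e (rfl | ⟨he, he2, hey⟩) hne
    · exact absurd rfl hne
    obtain ⟨v, hv, hve⟩ := h.trans t e ht he ht2 he2
    refine ⟨v, mem_inf.2 ⟨hv, mem_centralizer_singleton_iff.2 ?_⟩, hve⟩
    have hyt := (mem_compl.1 hy).2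
    have hv' : y * v * y⁻¹ ∈ T := h.T_norm y (mem_compl.1 hy).1 v hv
    have he' : y * v * y⁻¹ * t * (y * v * y⁻¹)⁻¹ = e := by
      calc y * v * y⁻¹ * t * (y * v * y⁻¹)⁻¹ = y * v * y⁻¹ * (t * y) * v⁻¹ * y⁻¹ := by group
        _ = y * (v * t * v⁻¹) * y⁻¹ := by rw [← hyt]; group
        _ = e := by rw [hve, ← hey]; group
    have h1 := h.free _ (mul_mem (inv_mem hv) hv') t ht ht2 (by
      calc v⁻¹ * (y * v * y⁻¹) * t = v⁻¹ * (y * v * y⁻¹ * t * (y * v * y⁻¹)⁻¹) * (y * v * y⁻¹) := by group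
        _ = v⁻¹ * (v * t * v⁻¹) * (y * v * y⁻¹) := by rw [he', hve]
        _ = t * (v⁻¹ * (y * v * y⁻¹)) := by group)
    rw [inv_mul_eq_one, eq_mul_inv_iff_mul_eq] at h1
    exact h1
  · have hgc : ∀ v : G, v * y = y * v → g * v * g⁻¹ * y = y * (g * v * g⁻¹) := fun v hv => by
      obtain ⟨i, hi⟩ := mem_zpowers_iff.1 hgy
      have hh : v * (g⁻¹ * y * g) = g⁻¹ * y * g * v := by
        rw [← hi]; exact (Commute.zpow_right (hv : Commute v y) i).eq
      calc g * v * g⁻¹ * y = g * (v * (g⁻¹ * y * g)) * g⁻¹ := by group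
        _ = g * (g⁻¹ * y * g * v) * g⁻¹ := by rw [hh]
        _ = y * (g * v * g⁻¹) := by group
    refine ⟨hconj g (h.mem_H (mem_compl.1 hg).1) hgc, SEBrick.mem_normalizer_of fun v hv => ?_⟩
    obtain ⟨hvT, hvy⟩ := mem_inf.1 hv
    exact mem_inf.2 ⟨h.T_norm g (mem_compl.1 hg).1 v hvT,
      mem_centralizer_singleton_iff.2 (hgc v (mem_centralizer_singleton_iff.1 hvy))⟩

/-- With a commuting element of prime order `r` without fixed points, `r`-th powers centralise the torus. -/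
theorem pow_centralizes (hS : Setting H) (hw : SETrans.Weak G (G ⧸ H) ((1 : G) : G ⧸ H))
    (hab : ((1 : G) : G ⧸ H) ≠ b) {t : G} (ht : t ∈ H) (ht2 : orderOf t = 2) {r : ℕ} (hr : r.Prime) {x : G}
    (hx : x ∈ compl b H₁ t) (hxr : x ^ r = 1) (hxfix : ∀ s ∈ T, x * s = s * x → s = 1)
    {y z : G} (hy : y ∈ compl b H₁ t) (hxy : x * y = y * x) (hyp : (orderOf y).Prime) (hz : z ∈ T)
    (hz1 : z ≠ 1) (hzy : z * y = y * z) {g : G} (hg : g ∈ compl b H₁ t) (hgy : g⁻¹ * y * g ∈ zpowers y)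
    {s : G} (hs : s ∈ T) (hsy : s * y = y * s) : g ^ r * s = s * g ^ r := by
  obtain ⟨E, hE, hn⟩ := h.exists_torus hS hw hab ht ht2 hy hyp hz hz1 hzy
  have hxy' : x⁻¹ * y * x ∈ zpowers y := by
    rw [mul_assoc, ← hxy, inv_mul_cancel_left]; exact mem_zpowers y
  obtain ⟨-, hpow⟩ := hE.exponent hr (hn x hx hxy').1 (hn x hx hxy').2 (mem_compl.1 hx).2 hxr
    (fun v hv => hxfix v (mem_inf.1 hv).1) ⟨z, mem_inf.2 ⟨hz, mem_centralizer_singleton_iff.2 hzy⟩, hz1⟩
  exact hpow g (hn g hg hgy).1 (hn g hg hgy).2 (mem_compl.1 hg).2 s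
    (mem_inf.2 ⟨hs, mem_centralizer_singleton_iff.2 hsy⟩)

/-- Where no element of the complement centralises a unique subgroup of prime order of `T`, each element of
prime order moves some element of order `l` of `T`, for every prime `l` dividing its order. -/
theorem exists_moved (hS : Setting H) (hw : SETrans.Weak G (G ⧸ H) ((1 : G) : G ⧸ H))
    (hab : ((1 : G) : G ⧸ H) ≠ b) {t : G} (ht : t ∈ H) (ht2 : orderOf t = 2)
    (hbig : ∀ y ∈ compl b H₁ t, (orderOf y).Prime → ∀ (l : ℕ), l.Prime → ∀ k ∈ T, orderOf k = l →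
      k * y = y * k → l < Nat.card {s : T // s ^ l = 1})
    {y : G} (hy : y ∈ compl b H₁ t) (hyp : (orderOf y).Prime) {l : ℕ} (hl : l.Prime) (hlT : l ∣ Nat.card T) :
    ∃ s ∈ h.omega l, y * s ≠ s * y := by
  by_contra hall
  push Not at hall
  haveI := Fact.mk hl
  obtain ⟨k, hk⟩ := exists_prime_orderOf_dvd_card' l hlT
  have hkl : orderOf (k : G) = l := by rw [Subgroup.orderOf_coe, hk]
  have hky : (k : G) * y = y * k := (hall k ⟨k.2, by rw [← hkl, pow_orderOf_eq_one]⟩).symm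
  have hlt := hbig y hy hyp l hl k k.2 hkl hky
  obtain ⟨E, hE, -⟩ := h.exists_torus hS hw hab ht ht2 hy hyp k.2
    (fun e => hl.one_lt.ne (by rw [← hkl, e, orderOf_one])) hky
  haveI := hE.card_cyclic.1
  set Z := T ⊓ centralizer ({y} : Set G) with hZ
  haveI : Fintype Z := Fintype.ofFinite _
  classical
  let f : {s : T // s ^ l = 1} → {z : Z // z ^ l = 1} := fun s =>
    ⟨⟨s.1, mem_inf.2 ⟨s.1.2, mem_centralizer_singleton_iff.2
      (hall s.1 ⟨s.1.2, congrArg Subtype.val s.2⟩).symm⟩⟩, Subtype.ext (congrArg Subtype.val s.2 :)⟩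
  have hf : Function.Injective f := fun a c e =>
    Subtype.ext (Subtype.ext (congrArg (fun z : {z : Z // z ^ l = 1} => ((z.1 : Z) : G)) e))
  have hle : Nat.card {z : Z // z ^ l = 1} ≤ l := by
    rw [Nat.card_eq_fintype_card, Fintype.card_subtype]
    exact IsCyclic.card_pow_eq_one_le hl.pos
  exact absurd ((Nat.card_le_card_of_injective f hf).trans hle) (Nat.not_le.2 hlt)

/-- Then every element of the complement centralising the elements of order dividing `l` is trivial. -/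
theorem eq_one_of_centralizes (hS : Setting H) (hw : SETrans.Weak G (G ⧸ H) ((1 : G) : G ⧸ H))
    (hab : ((1 : G) : G ⧸ H) ≠ b) {t : G} (ht : t ∈ H) (ht2 : orderOf t = 2)
    (hbig : ∀ y ∈ compl b H₁ t, (orderOf y).Prime → ∀ (l : ℕ), l.Prime → ∀ k ∈ T, orderOf k = l →
      k * y = y * k → l < Nat.card {s : T // s ^ l = 1})
    {c : G} (hc : c ∈ compl b H₁ t) {l : ℕ} (hl : l.Prime) (hlT : l ∣ Nat.card T)
    (hcent : ∀ s ∈ h.omega l, c * s = s * c) : c = 1 := by
  by_contra hc1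
  obtain ⟨i, hi⟩ := exists_pow_prime hc1
  obtain ⟨s, hs, hne⟩ := h.exists_moved hS hw hab ht ht2 hbig (pow_mem hc i) hi hl hlT
  exact hne (Commute.pow_left (hcent s hs : Commute c s) i).eq

/-- An element of prime order `r` without fixed points centralises every invariant `q`-subgroup. -/
theorem commute_invariant (hS : Setting H) (hw : SETrans.Weak G (G ⧸ H) ((1 : G) : G ⧸ H))
    (hab : ((1 : G) : G ⧸ H) ≠ b) {t : G} (ht : t ∈ H) (ht2 : orderOf t = 2)
    (hbig : ∀ y ∈ compl b H₁ t, (orderOf y).Prime → ∀ (l : ℕ), l.Prime → ∀ k ∈ T, orderOf k = l →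
      k * y = y * k → l < Nat.card {s : T // s ^ l = 1})
    (hmix : ∀ q : ℕ, ∃ l : ℕ, l.Prime ∧ l ∣ Nat.card T ∧ l ≠ q)
    {r : ℕ} (hr : r.Prime) {x : G} (hx : x ∈ compl b H₁ t) (hxr : orderOf x = r) (hrT : ¬ r ∣ Nat.card T)
    (hxfix : ∀ s ∈ T, x * s = s * x → s = 1) {q : ℕ} (hq : q.Prime) (hqr : q ≠ r) (hq2 : q ≠ 2)
    {Q : Subgroup G} (hQ : IsPGroup q Q) (hQC : Q ≤ compl b H₁ t) (hxQ : x ∈ normalizer (Q : Set G))
    {g : G} (hg : g ∈ Q) : g * x = x * g := by
  obtain ⟨l, hl, hlT, hlq⟩ := hmix q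
  have hnorm : ∀ c ∈ compl b H₁ t, c ∈ normalizer (h.omega l : Set G) := fun c hc =>
    SEBrick.mem_normalizer_of fun s hs =>
      ⟨h.T_norm c (mem_compl.1 hc).1 s hs.1, by rw [conj_pow, hs.2, mul_one, mul_inv_cancel]⟩
  have hfix : h.omega l ⊓ centralizer (zpowers x : Set G) = ⊥ := (Subgroup.eq_bot_iff_forall _).2 fun s hs =>
    hxfix s (mem_inf.1 hs).1.1 (mem_centralizer_iff.1 (mem_inf.1 hs).2 x (mem_zpowers x))
  have hcomm := OddOrder.ComplAction.commutator_le_centralizer_of_fixed hl hq hr hlq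
    (fun e : l = r => hrT (e ▸ hlT)) hqr hq2 (zpowers x) Q (h.omega l) (by rw [Nat.card_zpowers, hxr]) hQ
    ⟨⟨⟨fun a c => Subtype.ext (h.T_comm _ a.2.1 _ c.2.1)⟩⟩, fun s hs => hs.2⟩
    (zpowers_le.2 hxQ) (zpowers_le.2 (hnorm x hx)) (fun g hg => hnorm g (hQC hg)) hfix
  have h1 := h.eq_one_of_centralizes hS hw hab ht ht2 hbig
    (c := ⁅g, x⁆) (by rw [commutatorElement_def]
                      exact mul_mem (mul_mem (mul_mem (hQC hg) hx) (inv_mem (hQC hg))) (inv_mem hx))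
    hl hlT fun s hs => (mem_centralizer_iff.1 (hcomm (commutator_mem_commutator hg (mem_zpowers x))) s hs).symm
  exact commutatorElement_eq_one_iff_mul_comm.1 h1

end CommData

end Cfsg.Agent.SEMain
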