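import Cfsg.Agent.Lib.Signalizer.SFT.Tools
import Cfsg.Agent.Lib.SEBrick.Basic
import Cfsg.Agent.Lib.CoprimeHHS.FrobTwo
import Cfsg.Agent.Lib.CN.FpfAut

/-!
Fixed point free elements of prime order normalising an odd `s`-group (LEMMA HH of the commuting step),
and the small fixed point case on an elementary two-group: the group induced is cyclic and semiregular,
the two-group has order `2 ^ r`.
-/

set_option autoImplicit false
set_option linter.style.haveILetI false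
set_option linter.unusedSectionVars false

namespace Cfsg.Agent.SEMain

open Subgroup

universe u

theorem eq_of_card_le_two {α : Type u} [Group α] [Finite α] (h : Nat.card α ≤ 2) {a b : α} (ha : a ≠ 1)
    (hb : b ≠ 1) : a = b := by
  classical
  haveI := Fintype.ofFinite α
  by_contra hne
  have h3 : ({1, a, b} : Finset α).card = 3 := by
    rw [Finset.card_insert_of_notMem (by simp [Ne.symm ha, Ne.symm hb]), Finset.card_pair hne]
  have := Finset.card_le_univ ({1, a, b} : Finset α)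
  rw [Nat.card_eq_fintype_card] at h
  omega

section Linear

variable {E : Type u} [CommGroup E] [Finite E] {r l : ℕ} [hr : Fact r.Prime] [hl : Fact l.Prime]

/-- The fixed points of a normalised odd group are trivial as soon as every invariant subgroup meets the
small fixed group of `σ`. -/
theorem fixed_trivial (hE : ∀ e : E, e ^ 2 = 1) {Γ : Subgroup (MulAut E)} {σ : MulAut E}
    (hfix : Nat.card (CoprimeHHS.fixed σ) ≤ 2)
    (hmeet : ∀ M : Subgroup E, (∀ g ∈ Γ, ∀ m ∈ M, g m ∈ M) → (∀ m ∈ M, σ m ∈ M) → M ≠ ⊥ →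
      ∃ m ∈ M, m ≠ 1 ∧ σ m = m)
    {A : Subgroup (MulAut E)} (hA : Odd (Nat.card A)) (hA1 : A ≠ ⊥) (hAΓ : ∀ g ∈ Γ, ∀ a ∈ A, g⁻¹ * a * g ∈ A)
    (hAσ : ∀ a ∈ A, σ⁻¹ * a * σ ∈ A) {e : E} (he : ∀ a ∈ A, a e = e) : e = 1 := by
  classical
  haveI := Fintype.ofFinite A
  by_contra he1
  let K : Subgroup E :=
    { carrier := {x | ∀ a ∈ A, a x = x}
      one_mem' := fun a _ => map_one a
      mul_mem' := fun {x y} hx hy a ha => by rw [map_mul, hx a ha, hy a ha]
      inv_mem' := fun {x} hx a ha => by rw [map_inv, hx a ha] }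
  let N : E →* E :=
    { toFun := fun x => ∏ a : A, (a : MulAut E) x
      map_one' := Finset.prod_eq_one fun a _ => map_one _
      map_mul' := fun x y => by rw [← Finset.prod_mul_distrib]; exact Finset.prod_congr rfl fun a _ => map_mul _ x y }
  have hNg : ∀ g : MulAut E, (∀ a ∈ A, g⁻¹ * a * g ∈ A) → ∀ x, N (g x) = g (N x) := by
    intro g hg x
    let f : A → A := fun a => ⟨g⁻¹ * a * g, hg a a.2⟩
    have hf : Function.Bijective f := Finite.injective_iff_bijective.1 fun a b hab =>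
      Subtype.ext (mul_left_cancel (mul_right_cancel (congrArg Subtype.val hab)))
    show ∏ a : A, (a : MulAut E) (g x) = g (∏ a : A, (a : MulAut E) x)
    rw [map_prod]
    exact Fintype.prod_bijective f hf _ _ fun a => by
      show (a : MulAut E) (g x) = g ((g⁻¹ * a * g) x)
      simp [MulAut.mul_apply]
  have hKg : ∀ g : MulAut E, (∀ a ∈ A, g⁻¹ * a * g ∈ A) → ∀ x ∈ K, g x ∈ K := by
    intro g hg x hx a ha
    have h1 := hx _ (hg a ha)
    apply g⁻¹.injective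
    rw [MulAut.mul_apply, MulAut.mul_apply] at h1
    rw [h1]
    simp
  have hkg : ∀ g : MulAut E, (∀ a ∈ A, g⁻¹ * a * g ∈ A) → ∀ x ∈ N.ker, g x ∈ N.ker := fun g hg x hx => by
    rw [MonoidHom.mem_ker] at hx ⊢
    rw [hNg g hg, hx, map_one]
  obtain ⟨c, hc, hc1, hcσ⟩ := hmeet K (fun g hg => hKg g (hAΓ g hg)) (hKg σ hAσ)
    (fun h => he1 (mem_bot.1 (h ▸ (he : e ∈ K))))
  obtain ⟨d, hd, hd1, hdσ⟩ := hmeet N.ker (fun g hg => hkg g (hAΓ g hg)) (hkg σ hAσ) (by
    obtain ⟨a, ha, ha1⟩ : ∃ a ∈ A, a ≠ 1 := by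
      by_contra h
      push Not at h
      exact hA1 ((eq_bot_iff_forall _).2 h)
    obtain ⟨x, hx⟩ : ∃ x, a x ≠ x := by
      by_contra h
      push Not at h
      exact ha1 (MulEquiv.ext h)
    intro h
    refine hx (mul_inv_eq_one.1 (mem_bot.1 (h ▸ (MonoidHom.mem_ker.2 ?_ : a x * x⁻¹ ∈ N.ker))))
    rw [map_mul, map_inv, mul_inv_eq_one]
    exact Fintype.prod_bijective (fun b : A => b * ⟨a, ha⟩) (Group.mulRight_bijective _) _ _ fun b => rfl)
  have hcd : c = d := congrArg Subtype.val (eq_of_card_le_two hfix (a := ⟨c, hcσ⟩) (b := ⟨d, hdσ⟩)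
    (fun h => hc1 (congrArg Subtype.val h)) fun h => hd1 (congrArg Subtype.val h))
  have hNc : N c = c := by
    show ∏ a : A, (a : MulAut E) c = c
    rw [Finset.prod_congr rfl fun (a : A) _ => hc _ a.2, Finset.prod_const, Finset.card_univ, ← Nat.card_eq_fintype_card]
    obtain ⟨k, hk⟩ := hA
    rw [hk, pow_succ, pow_mul, hE, one_pow, one_mul]
  exact hc1 (hNc ▸ (hcd ▸ MonoidHom.mem_ker.1 hd : N c = 1))

/-- An odd `l`-group `Γ` of automorphisms of an elementary two-group without fixed vector, normalised by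
`σ` of prime order with at most one fixed involution which every invariant subgroup contains. -/
theorem cyclic_of_small_fixed [Nontrivial E] (hE : ∀ e : E, e ^ 2 = 1) (hl2 : l ≠ 2) (hr2 : r ≠ 2) (hrl : r ≠ l)
    {Γ : Subgroup (MulAut E)} (hΓ : IsPGroup l Γ) {σ : MulAut E} (hσ : σ ^ r = 1)
    (hσΓ : ∀ g ∈ Γ, σ * g * σ⁻¹ ∈ Γ) (hfree : ∀ e : E, (∀ g ∈ Γ, g e = e) → e = 1)
    (hfix : Nat.card (CoprimeHHS.fixed σ) ≤ 2)
    (hmeet : ∀ M : Subgroup E, (∀ g ∈ Γ, ∀ m ∈ M, g m ∈ M) → (∀ m ∈ M, σ m ∈ M) → M ≠ ⊥ →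
      ∃ m ∈ M, m ≠ 1 ∧ σ m = m) :
    Nat.card E = 2 ^ r ∧ (∀ g ∈ Γ, g ≠ 1 → ∀ e : E, g e = e → e = 1) ∧ IsCyclic Γ := by
  classical
  haveI : Finite (MulAut E) := Finite.of_injective _ MulEquiv.toEquiv_injective
  obtain ⟨c, -, hc1, hcσ⟩ := hmeet ⊤ (fun _ _ _ _ => trivial) (fun _ _ => trivial) top_ne_bot
  have hlodd : ∀ n, Odd (l ^ n) := fun n => (hl.out.odd_of_ne_two hl2).pow
  have hoddΓ : ∀ A : Subgroup (MulAut E), A ≤ Γ → Odd (Nat.card A) := fun A hA => by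
    obtain ⟨n, hn⟩ := (hΓ.to_le hA).exists_card_eq
    rw [hn]; exact hlodd n
  have hinv : ∀ x : MulAut E, x ∈ Γ → σ⁻¹ * x * σ ∈ Γ := by
    intro x hx
    have hi : σ⁻¹ = σ ^ (r - 1) := inv_eq_of_mul_eq_one_right (by rw [← pow_succ', Nat.sub_add_cancel hr.out.one_le, hσ])
    have key : ∀ n : ℕ, ∀ x ∈ Γ, σ ^ n * x * (σ ^ n)⁻¹ ∈ Γ := by
      intro n
      induction n with
      | zero => intro x hx; simpa using hx
      | succ n ih =>
        intro x hx
        rw [show σ ^ (n + 1) * x * (σ ^ (n + 1))⁻¹ = σ ^ n * (σ * x * σ⁻¹) * (σ ^ n)⁻¹ by rw [pow_succ]; group]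
        exact ih _ (hσΓ x hx)
    have := key (r - 1) x hx
    rwa [← hi, inv_inv] at this
  -- a central element moved by `σ`
  let Z : Subgroup (MulAut E) := Γ ⊓ centralizer (Γ : Set (MulAut E))
  have hZσ : ∀ x ∈ Z, σ * x * σ⁻¹ ∈ Z := fun x hx => ⟨hσΓ x hx.1, mem_centralizer_iff.2 fun g hg => by
    have h1 := mem_centralizer_iff.1 hx.2 _ (hinv g hg)
    calc g * (σ * x * σ⁻¹) = σ * ((σ⁻¹ * g * σ) * x) * σ⁻¹ := by group
      _ = σ * (x * (σ⁻¹ * g * σ)) * σ⁻¹ := by rw [h1]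
      _ = _ := by group⟩
  have hZΓ : ∀ g ∈ Γ, ∀ x ∈ Z, g⁻¹ * x * g = x := fun g hg x hx => by
    rw [mul_assoc, ← mem_centralizer_iff.1 hx.2 g hg, inv_mul_cancel_left]
  obtain ⟨x, hx, hxσ⟩ : ∃ x ∈ Z, σ * x * σ⁻¹ ≠ x := by
    by_contra h
    push Not at h
    haveI : Nontrivial Γ := (nontrivial_iff_ne_bot _).2 fun e => hc1 (hfree c fun g hg => by
      rw [e, mem_bot] at hg; rw [hg]; rfl)
    haveI : Nontrivial (Subgroup.center Γ) := hΓ.center_nontrivial
    obtain ⟨⟨⟨x, hxΓ⟩, hxc⟩, hx1⟩ := exists_ne (1 : Subgroup.center Γ)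
    have hxZ : x ∈ Z := ⟨hxΓ, mem_centralizer_iff.2 fun g hg =>
      congrArg Subtype.val (Subgroup.mem_center_iff.1 hxc ⟨g, hg⟩)⟩
    have hσx : σ * x = x * σ := mul_inv_eq_iff_eq_mul.1 (h x hxZ)
    have hxne : x ≠ 1 := fun e => hx1 (Subtype.ext (Subtype.ext e))
    have hxc : x c = c := congrArg Subtype.val (eq_of_card_le_two hfix
      (a := ⟨x c, show σ (x c) = x c by rw [← MulAut.mul_apply, hσx, MulAut.mul_apply, hcσ]⟩) (b := ⟨c, hcσ⟩)
      (fun h => hc1 (x.injective ((congrArg Subtype.val h).trans (map_one x).symm)))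
      fun h => hc1 (congrArg Subtype.val h))
    refine hc1 (fixed_trivial hE hfix hmeet (A := zpowers x) (hoddΓ _ (zpowers_le.2 hxΓ))
      (zpowers_ne_bot.2 hxne) (fun g hg a ha => ?_) (fun a ha => ?_) fun a ha => ?_)
    · have : g⁻¹ * a * g = a := hZΓ g hg a (zpowers_le.2 hxZ ha)
      rwa [this]
    · obtain ⟨n, rfl⟩ := mem_zpowers_iff.1 ha
      rw [mul_assoc, ← (Commute.zpow_right hσx n).eq, inv_mul_cancel_left]
      exact zpow_mem (mem_zpowers x) n
    · have hst : zpowers x ≤ MulAction.stabilizer (MulAut E) c := zpowers_le.2 hxc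
      exact hst ha
  -- the displacements of the centre
  have hZc : ∀ a ∈ Z, ∀ b ∈ Z, a * b = b * a := fun a ha b hb => mem_centralizer_iff.1 hb.2 a ha.1
  let ψ : Z →* MulAut E :=
    { toFun := fun a => (a : MulAut E)⁻¹ * (σ * a * σ⁻¹)
      map_one' := by simp
      map_mul' := fun a b => by
        have h1 := hZc _ (inv_mem b.2) _ (mul_mem (inv_mem a.2) (hZσ a a.2))
        calc ((a * b : Z) : MulAut E)⁻¹ * (σ * (a * b : Z) * σ⁻¹)
            = (b : MulAut E)⁻¹ * ((a : MulAut E)⁻¹ * (σ * a * σ⁻¹)) * (σ * b * σ⁻¹) := by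
              rw [Subgroup.coe_mul]; group
          _ = _ := by rw [h1]; group }
  set A := ψ.range with hA
  have hAZ : A ≤ Z := by rintro _ ⟨a, rfl⟩; exact mul_mem (inv_mem a.2) (hZσ a a.2)
  have hAΓ : A ≤ Γ := hAZ.trans inf_le_left
  have hA1 : A ≠ ⊥ := fun e => hxσ (inv_mul_eq_one.1 (mem_bot.1
    (e.le (⟨⟨x, hx⟩, rfl⟩ : x⁻¹ * (σ * x * σ⁻¹) ∈ A)))).symm
  have hAi : CoprimeHHS.Inv (MulAut.conj σ) A := by
    rintro _ ⟨a, rfl⟩
    refine ⟨⟨_, hZσ a a.2⟩, ?_⟩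
    show (σ * a * σ⁻¹)⁻¹ * (σ * (σ * a * σ⁻¹) * σ⁻¹) = σ * ((a : MulAut E)⁻¹ * (σ * a * σ⁻¹)) * σ⁻¹
    group
  have hconj : (MulAut.conj σ : MulAut (MulAut E)) ^ r = 1 := by rw [← map_pow, hσ, map_one]
  have hAσ : ∀ a ∈ A, σ⁻¹ * a * σ ∈ A := fun a ha => hAi.symm_mem (by
    rw [MulAut.conj_apply, show σ * (σ⁻¹ * a * σ) * σ⁻¹ = a by group]; exact ha)
  obtain ⟨n, hn⟩ := (hΓ.to_le hAΓ).exists_card_eq
  have hθ : CoprimeHHS.Cop r hAi.aut := ⟨hr.out, MulEquiv.ext fun a => Subtype.ext (by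
    rw [CoprimeHHS.Inv.aut_pow_apply, hconj]; rfl), fun hd => hrl
      ((Nat.prime_dvd_prime_iff_eq hr.out hl.out).1 (hr.out.dvd_of_dvd_pow (hn ▸ hd)))⟩
  have hfpf : ∀ a : A, hAi.aut a = a → a = 1 := by
    rintro ⟨_, b, rfl⟩ he
    have he' : σ * ψ b * σ⁻¹ = ψ b := congrArg Subtype.val he
    have key : ∀ k : ℕ, σ ^ k * b * (σ ^ k)⁻¹ = b * ψ b ^ k := by
      intro k
      induction k with
      | zero => simp
      | succ k ih =>
        calc σ ^ (k + 1) * b * (σ ^ (k + 1))⁻¹ = σ * (σ ^ k * b * (σ ^ k)⁻¹) * σ⁻¹ := by rw [pow_succ']; group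
          _ = (b : MulAut E) * ψ b * (σ * ψ b * σ⁻¹) ^ k := by
            rw [ih, conj_pow, show ψ b = (b : MulAut E)⁻¹ * (σ * b * σ⁻¹) from rfl]; group
          _ = _ := by rw [he', mul_assoc, ← pow_succ']
    have h1 : ψ b ^ r = 1 := by simpa [hσ] using (key r).symm
    have h2 : (⟨ψ b, b, rfl⟩ : A) ^ r = 1 := Subtype.ext h1
    have h4 := pow_gcd_eq_one.2 ⟨h2, pow_card_eq_one' (x := (⟨ψ b, b, rfl⟩ : A))⟩
    rwa [show Nat.gcd r (Nat.card A) = 1 from hr.out.coprime_iff_not_dvd.2 hθ.ndvd, pow_one] at h4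
  have hcard2 : Nat.card (CoprimeHHS.fixed σ) = 2 := by
    haveI : Nontrivial (CoprimeHHS.fixed σ) := ⟨⟨⟨c, hcσ⟩, 1, fun e => hc1 (congrArg Subtype.val e)⟩⟩
    have := Finite.one_lt_card (α := CoprimeHHS.fixed σ)
    omega
  have hcard : Nat.card E = 2 ^ r := by
    rw [← hcard2]
    exact CoprimeHHS.card_eq_fixed_pow hE hl2 (hΓ.to_le hAΓ) hθ hfpf hr2 A.subtype σ hσ
      (fun a e => by
        show σ ((a : MulAut E) e) = (σ * (a : MulAut E) * σ⁻¹) (σ e)
        simp [MulAut.mul_apply])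
      fun e he => fixed_trivial hE hfix hmeet (hoddΓ A hAΓ) hA1
        (fun g hg a ha => by rw [hZΓ g hg a (hAZ ha)]; exact ha) hAσ fun a ha => he ⟨a, ha⟩
  have hlr : 2 ^ r ≡ 1 [MOD l] := by
    have h1 := hΓ.card_modEq_card_fixedPoints E
    rw [hcard] at h1
    haveI : Unique (MulAction.fixedPoints Γ E) :=
      ⟨⟨⟨1, fun g => map_one (g : MulAut E)⟩⟩, fun v => Subtype.ext (hfree v fun g hg => v.2 ⟨g, hg⟩)⟩
    rwa [Nat.card_unique] at h1
  have hsemi : ∀ g ∈ Γ, g ≠ 1 → ∀ e : E, g e = e → e = 1 := by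
    intro g hg hg1 e he
    by_contra he1
    let φ : E →* E :=
      { toFun := fun y => g y * y⁻¹
        map_one' := by simp
        map_mul' := fun y z => by rw [map_mul, mul_inv, mul_mul_mul_comm] }
    set B := φ.range with hB
    have hgB : ∀ y ∈ B, g y ∈ B := by
      rintro _ ⟨y, rfl⟩
      exact ⟨g y, by show g (g y) * (g y)⁻¹ = g (g y * y⁻¹); rw [map_mul, map_inv]⟩
    have hker : φ.ker ≠ ⊥ := fun h => he1 (mem_bot.1 (h.le (show φ e = 1 by
      show g e * e⁻¹ = 1; rw [he, mul_inv_cancel])))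
    obtain ⟨m, hm⟩ := (IsPGroup.iff_card.1 (fun y : E => ⟨1, by rw [pow_one]; exact hE y⟩ : IsPGroup 2 E))
    obtain ⟨k, hkm, hk⟩ : ∃ k ≤ m, Nat.card B = 2 ^ k := (Nat.dvd_prime_pow Nat.prime_two).1
      (hm ▸ B.card_subgroup_dvd_card)
    have hrm : m = r := Nat.pow_right_injective le_rfl (hm.symm.trans hcard)
    have hk0 : k ≠ 0 := by
      rintro rfl
      refine hg1 (MulEquiv.ext fun y => mul_inv_eq_one.1 ?_)
      rw [pow_zero, card_eq_one] at hk
      exact mem_bot.1 (hk.le (⟨y, rfl⟩ : g y * y⁻¹ ∈ B))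
    have hkr : k < r := by
      refine lt_of_le_of_ne (hrm ▸ hkm) fun h => hker ?_
      have h1 := φ.ker.card_mul_index
      rw [index_ker, show Nat.card φ.range = Nat.card E by rw [← hB, hk, h, ← hcard]] at h1
      exact card_eq_one.1 ((mul_eq_right₀ Nat.card_pos.ne').1 h1)
    haveI hX : IsPGroup l (zpowers g) := hΓ.to_le (zpowers_le.2 hg)
    have hBs : ∀ a ∈ zpowers g, ∀ y ∈ B, a y ∈ B := by
      intro a ha
      let S : Submonoid (MulAut E) :=
        { carrier := {a | ∀ y ∈ B, a y ∈ B}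
          one_mem' := fun y hy => hy
          mul_mem' := fun {a b} ha hb y hy => ha _ (hb y hy) }
      have : ∀ i : ℕ, g ^ i ∈ S := fun i => pow_mem (show g ∈ S from hgB) i
      obtain ⟨i, rfl⟩ := mem_powers_iff_mem_zpowers.2 ha
      exact this i
    have h2 := hX.card_modEq_card_fixedPoints (⟨(B : Set E), fun a y hy => hBs a a.2 y hy⟩ :
      SubMulAction (zpowers g) E)
    set Q := (⟨(B : Set E), fun a y hy => hBs a a.2 y hy⟩ : SubMulAction (zpowers g) E)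
    haveI : Unique (MulAction.fixedPoints (zpowers g) Q) := by
      refine ⟨⟨⟨⟨1, B.one_mem⟩, fun a => Subtype.ext (map_one (a : MulAut E))⟩⟩, fun v => Subtype.ext (Subtype.ext ?_)⟩
      obtain ⟨y, hy⟩ := v.1.2
      have hv : g (v.1 : E) = (v.1 : E) := congrArg Subtype.val (v.2 ⟨g, mem_zpowers g⟩)
      have hy' : g y = (v.1 : E) * y := by rw [← hy]; show g y = g y * y⁻¹ * y; rw [inv_mul_cancel_right]
      have hpow : ∀ i : ℕ, (g ^ i) y = (v.1 : E) ^ i * y := by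
        intro i
        induction i with
        | zero => simp
        | succ i ih => rw [pow_succ', MulAut.mul_apply, ih, map_mul, map_pow, hv, hy', ← mul_assoc, ← pow_succ]
      have hord : Odd (orderOf g) := by
        rw [← Nat.card_zpowers]
        exact hoddΓ _ (zpowers_le.2 hg)
      obtain ⟨j, hj⟩ := hord
      have h5 := hpow (orderOf g)
      rw [pow_orderOf_eq_one, MulAut.one_apply, eq_comm, mul_eq_right, hj, pow_succ, pow_mul, hE, one_pow,
        one_mul] at h5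
      exact h5
    rw [Nat.card_unique (α := MulAction.fixedPoints (zpowers g) Q)] at h2
    change Nat.card B ≡ 1 [MOD l] at h2
    rw [hk] at h2
    have hd1 : l ∣ 2 ^ k - 1 := (Nat.modEq_iff_dvd' Nat.one_le_two_pow).1 h2.symm
    have hd2 : l ∣ 2 ^ r - 1 := (Nat.modEq_iff_dvd' Nat.one_le_two_pow).1 hlr.symm
    have h3 := Nat.dvd_gcd hd1 hd2
    rw [Nat.pow_sub_one_gcd_pow_sub_one, Nat.Coprime.gcd_eq_one ((hr.out.coprime_iff_not_dvd.2 fun hd =>
      absurd (Nat.le_of_dvd (Nat.pos_of_ne_zero hk0) hd) (by omega)).symm)] at h3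
    exact hl.out.one_lt.ne' (Nat.dvd_one.1 (by simpa using h3))
  exact ⟨hcard, hsemi, CN.isCyclic_of_fpf hΓ hl2 Γ.subtype fun a ha e he =>
    hsemi a a.2 (fun h => ha (Subtype.ext h)) e he⟩

end Linear

variable {G : Type u} [Group G] [Finite G] {r s l : ℕ} [hr : Fact r.Prime]

/-- LEMMA HH: `z` of prime order without fixed point on a nilpotent group `V` of order prime to `r`, `s`
acts trivially, modulo the centraliser of `V`, on an odd `s`-group it normalises. -/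
theorem comm_of_fpf [Fact s.Prime] (hs2 : s ≠ 2) (hrs : r ≠ s) {S V : Subgroup G} {z : G}
    (hz : orderOf z = r) (hS : IsPGroup s S) (hzS : z ∈ normalizer (S : Set G)) (hV : Group.IsNilpotent V)
    (hzV : z ∈ normalizer (V : Set G)) (hSV : S ≤ normalizer (V : Set G)) (hVr : ¬ r ∣ Nat.card V)
    (hVs : ¬ s ∣ Nat.card V) (hfpf : ∀ v ∈ V, z * v = v * z → v = 1) :
    ⁅S, zpowers z⁆ ≤ centralizer (V : Set G) := by
  set W := V ⊓ centralizer ((⁅S, zpowers z⁆ : Subgroup G) : Set G) with hW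
  suffices h : V ≤ W from Subgroup.le_centralizer_iff.1 (h.trans inf_le_right)
  refine (eq_of_le_of_card_ge inf_le_left (Nat.le_of_dvd Nat.card_pos ?_)).ge
  refine (Nat.dvd_iff_prime_pow_dvd_dvd _ _).2 fun p k hp hd => ?_
  rcases k.eq_zero_or_pos with rfl | hk
  · simp
  haveI := Fact.mk hp
  have hpV : p ∣ Nat.card V := (dvd_pow_self p hk.ne').trans hd
  obtain ⟨P⟩ : Nonempty (Sylow p V) := inferInstance
  have hPn : (P : Subgroup V).Normal :=
    ((Group.isNilpotent_of_finite_tfae (G := V)).out 0 3 rfl rfl).1 hV p inferInstance P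
  haveI hPc : (P : Subgroup V).Characteristic := P.characteristic_of_normal hPn
  set P' := (P : Subgroup V).map V.subtype with hP'
  have hP'V : P' ≤ V := map_subtype_le _
  have hPW : P' ≤ W := by
    refine le_inf hP'V (Subgroup.le_centralizer_iff.1 ?_)
    refine Signalizer.SFT.hh (fun e : p = s => hVs (e ▸ hpV)) (fun e : p = r => hVr (e ▸ hpV)) (Ne.symm hrs)
      hz hS (Or.inl hs2) hzS (P.isPGroup'.map _) (Signalizer.SFT.normalizer_le_normalizer_map _ hPc hzV)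
      (hSV.trans (Signalizer.SFT.normalizer_le_normalizer_map _ hPc)) ?_
    intro x _
    refine mem_centralizer_iff.2 fun w hw => ?_
    rw [hfpf w (hP'V hw.1) (mem_centralizer_singleton_iff.1 hw.2).symm, one_mul, mul_one]
  refine (?_ : p ^ k ∣ Nat.card P').trans (card_dvd_of_le hPW)
  rw [hP', card_map_of_injective V.subtype_injective]
  exact P.pow_dvd_card_of_pow_dvd_card hd

/-- The linear part of LEMMA Y. -/
theorem cyclic_action [hl : Fact l.Prime] (hl2 : l ≠ 2) (hr2 : r ≠ 2) (hrl : r ≠ l) {E P : Subgroup G} {z : G}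
    (hz : orderOf z = r) (hE : ∀ e ∈ E, e * e = 1) (hP : IsPGroup l P)
    (hzP : z ∈ normalizer (P : Set G)) (hzE : z ∈ normalizer (E : Set G)) (hPE : P ≤ normalizer (E : Set G))
    (hgen : P ≤ ⁅P, zpowers z⁆) (hfree : ∀ e ∈ E, (∀ x ∈ P, x * e = e * x) → e = 1)
    (hfix : Nat.card (E ⊓ centralizer ({z} : Set G) : Subgroup G) ≤ 2) :
    (∀ x ∈ P, ∀ e ∈ E, e ≠ 1 → x * e = e * x → x ∈ centralizer (E : Set G)) ∧
      (∃ a ∈ P, ∀ x ∈ P, ∃ n : ℕ, (a ^ n)⁻¹ * x ∈ centralizer (E : Set G)) ∧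
      (E ≠ ⊥ → Nat.card E = 2 ^ r) := by
  classical
  by_cases hE1 : E = ⊥
  · subst hE1
    refine ⟨fun x _ e he h1 => absurd (mem_bot.1 he) h1, ⟨1, one_mem _, fun x _ => ⟨0, ?_⟩⟩, fun h => absurd rfl h⟩
    exact mem_centralizer_iff.2 fun e he => by rw [mem_bot.1 he, one_mul, mul_one]
  have hcomm : ∀ a b : E, a * b = b * a := fun a b => by
    have key : ∀ y : E, y⁻¹ = y := fun y => inv_eq_of_mul_eq_one_right (Subtype.ext (hE y y.2))
    rw [← key (a * b), mul_inv_rev, key, key]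
  letI : CommGroup E := { (inferInstance : Group E) with mul_comm := hcomm }
  haveI : Nontrivial E := (nontrivial_iff_ne_bot E).2 hE1
  set N := normalizer (E : Set G) with hN
  let ρ : N →* MulAut E := E.normalizerMonoidHom
  set σ : MulAut E := ρ ⟨z, hzE⟩ with hσd
  set Γ := (P.subgroupOf N).map ρ with hΓd
  have hΓp : IsPGroup l Γ := (hP.of_equiv (subgroupOfEquivOfLe hPE).symm).map ρ
  have hval : ∀ (g : N) (e : E), ((ρ g e : E) : G) = g * e * (g : G)⁻¹ := fun g e => rfl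
  have hσΓ : ∀ g ∈ Γ, σ * g * σ⁻¹ ∈ Γ := by
    rintro _ ⟨g, hg, rfl⟩
    exact ⟨⟨z, hzE⟩ * g * ⟨z, hzE⟩⁻¹, (mem_normalizer_iff.1 hzP (g : G)).1 hg, by rw [map_mul, map_mul, map_inv]⟩
  have hσr : σ ^ r = 1 := by
    rw [hσd, ← map_pow, show (⟨z, hzE⟩ : N) ^ r = 1 from Subtype.ext (by simp [← hz, pow_orderOf_eq_one]), map_one]
  have hfix' : Nat.card (CoprimeHHS.fixed σ) ≤ 2 := by
    refine le_trans ?_ hfix
    refine Nat.card_le_card_of_injective (fun e : CoprimeHHS.fixed σ => (⟨((e : E) : G), ⟨(e : E).2, ?_⟩⟩ :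
      (E ⊓ centralizer ({z} : Set G) : Subgroup G))) fun a b h => Subtype.ext (Subtype.ext
        (Subtype.mk.inj h))
    exact mem_centralizer_singleton_iff.2 (mul_inv_eq_iff_eq_mul.1 (congrArg Subtype.val e.2)).symm
  have hfree' : ∀ e : E, (∀ g ∈ Γ, g e = e) → e = 1 := fun e he => Subtype.ext (hfree e e.2 fun x hx =>
    mul_inv_eq_iff_eq_mul.1 (congrArg Subtype.val (he _ ⟨⟨x, hPE hx⟩, hx, rfl⟩)))
  have hmeet : ∀ M : Subgroup E, (∀ g ∈ Γ, ∀ m ∈ M, g m ∈ M) → (∀ m ∈ M, σ m ∈ M) → M ≠ ⊥ →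
      ∃ m ∈ M, m ≠ 1 ∧ σ m = m := by
    intro M hMΓ hMσ hM
    by_contra h
    push Not at h
    have hM2 : IsPGroup 2 M := fun m => ⟨1, Subtype.ext (Subtype.ext (by simp [sq, hE _ (m : E).2]))⟩
    haveI : Fact (Nat.Prime 2) := ⟨Nat.prime_two⟩
    have hnorm : ∀ g : N, (∀ m ∈ M, ρ g m ∈ M) → (g : G) ∈ normalizer ((M.map E.subtype : Subgroup G) : Set G) := by
      intro g hg
      refine SEBrick.mem_normalizer_of ?_
      rintro _ ⟨m, hm, rfl⟩
      exact ⟨ρ g m, hg m hm, hval g m⟩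
    have hfxM : P ≤ centralizer ((M.map E.subtype ⊓ centralizer ({z} : Set G) : Subgroup G) : Set G) := by
      intro x _
      refine mem_centralizer_iff.2 ?_
      rintro _ ⟨⟨m, hm, rfl⟩, hmz⟩
      have : σ m = m := Subtype.ext (mul_inv_eq_iff_eq_mul.2 (mem_centralizer_singleton_iff.1 hmz).symm)
      have hm1 : m = 1 := by_contra fun h1 => h m hm h1 this
      simp [hm1]
    obtain ⟨m, hm, hm1⟩ := (eq_bot_iff_forall _).not.1 hM |> fun h => by push Not at h; exact h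
    have hlz : (2 : ℕ) ≠ r := Ne.symm hr2
    have h1 := hgen.trans (Signalizer.SFT.hh (Ne.symm hl2) hlz (Ne.symm hrl) hz hP (Or.inl hl2) hzP (hM2.map _)
      (hnorm ⟨z, hzE⟩ hMσ) (fun x hx => hnorm ⟨x, hPE hx⟩ (hMΓ _ ⟨⟨x, hPE hx⟩, hx, rfl⟩)) hfxM)
    exact hm1 (Subtype.ext (hfree m m.2 fun x hx => (mem_centralizer_iff.1 (h1 hx) _ ⟨m, hm, rfl⟩).symm))
  obtain ⟨hcard, hsemi, hcyc⟩ := cyclic_of_small_fixed (fun e : E => Subtype.ext (by simp [sq, hE _ e.2])) hl2 hr2 hrl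
    hΓp hσr hσΓ hfree' hfix' hmeet
  have hker : ∀ g : N, ρ g = 1 → (g : G) ∈ centralizer (E : Set G) := fun g hg =>
    mem_centralizer_iff.2 fun e he => (mul_inv_eq_iff_eq_mul.1 ((hval g ⟨e, he⟩).symm.trans (congrArg Subtype.val
      (DFunLike.congr_fun hg (⟨e, he⟩ : E))))).symm
  refine ⟨fun x hx e he he1 hxe => hker ⟨x, hPE hx⟩ ?_, ?_, fun _ => hcard⟩
  · by_contra hg
    exact he1 (congrArg Subtype.val (hsemi _ ⟨⟨x, hPE hx⟩, hx, rfl⟩ hg ⟨e, he⟩
      (Subtype.ext (mul_inv_eq_iff_eq_mul.2 hxe))))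
  · obtain ⟨⟨_, a, ha, rfl⟩, hgen'⟩ := hcyc.exists_generator
    refine ⟨a, ha, fun x hx => ?_⟩
    obtain ⟨n, hn⟩ := mem_powers_iff_mem_zpowers.2 (hgen' ⟨_, ⟨x, hPE hx⟩, hx, rfl⟩)
    refine ⟨n, hker ((a ^ n)⁻¹ * ⟨x, hPE hx⟩) ?_⟩
    rw [map_mul, map_inv, map_pow, inv_mul_eq_one]
    exact congrArg Subtype.val hn

end Cfsg.Agent.SEMain
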