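import Cfsg.Agent.Lib.SEMain.Commute.Basic
import Cfsg.Agent.Lib.SEMain.Commute.HallHigman

/-! The Hall–Higman part of the commuting step, in the agreed shape. -/

set_option autoImplicit false
set_option linter.style.haveILetI false

namespace Cfsg.Agent.SEMain.Commute

open Subgroup
open scoped commutatorElement

universe u

theorem hallHigmanStmt : HallHigmanStmt.{u} := by
  intro X _ _ V S z l s r hl hs hr hs2 hr2 hls hlr hsr hV hS hz hSV hzV hzS
  haveI := Fact.mk hl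
  haveI := Fact.mk hs
  haveI := Fact.mk hr
  have hcomm : ∀ g : X, g * z * g⁻¹ * z⁻¹ = ⁅g, z⁆ := fun g => (commutatorElement_def g z).symm
  refine ⟨fun hfpf g hg v hv => ?_, fun hl2 hex hfix hgen => ?_⟩
  · obtain ⟨n, hn⟩ := hV.exists_card_eq
    have h := comm_of_fpf (r := r) hs2 (Ne.symm hsr) hz hS hzS hV.isNilpotent hzV hSV
      (fun hd => hlr ((Nat.prime_dvd_prime_iff_eq hr hl).1 (hr.dvd_of_dvd_pow (hn ▸ hd))).symm)
      (fun hd => hls ((Nat.prime_dvd_prime_iff_eq hs hl).1 (hs.dvd_of_dvd_pow (hn ▸ hd))).symm) hfpf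
    rw [hcomm]
    exact (mem_centralizer_iff.1 (h (commutator_mem_commutator hg (mem_zpowers z))) v hv).symm
  subst hl2
  haveI : IsMulCommutative V := .of_setLike_mul_comm fun a ha b hb => by
    have key : ∀ y ∈ V, y⁻¹ = y := fun y hy => inv_eq_of_mul_eq_one_right (hex y hy)
    rw [← key (a * b) (mul_mem ha hb), mul_inv_rev, key a ha, key b hb]
  have hcop : (Nat.card S).Coprime (Nat.card V) :=
    Signalizer.SFT.coprime_of_isPGroup (Ne.symm hls) hS hV
  have hEV : ⁅V, S⁆ ≤ V := CoprimeAct.commutator_le_left hSV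
  have hzE : z ∈ normalizer (((⁅V, S⁆ : Subgroup X)) : Set X) := by
    rw [mem_normalizer_iff_map_conj_eq, map_commutator, mem_normalizer_iff_map_conj_eq.1 hzV,
      mem_normalizer_iff_map_conj_eq.1 hzS]
  have hgen' : S ≤ ⁅S, zpowers z⁆ := hgen.trans <| (closure_le _).2 fun c ⟨g, hg, hc⟩ =>
    hc ▸ hcomm g ▸ commutator_mem_commutator hg (mem_zpowers z)
  obtain ⟨-, ⟨a, ha, hn⟩, -⟩ := cyclic_action (r := r) (l := s) hs2 hr2 (Ne.symm hsr) hz
    (fun e he => hex e (hEV he)) hS hzS hzE (normalizer_commutator_ge_right V S) hgen'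
    (fun e he h => mem_bot.1 ((CoprimeAct.centralizer_inf_commutator_eq_bot hSV hcop).le
      ⟨⟨hEV he, mem_centralizer_iff.2 fun x hx => h x hx⟩, he⟩))
    ((Nat.le_of_dvd Nat.card_pos (card_dvd_of_le (inf_le_inf_right _ hEV))).trans hfix)
  refine ⟨a, ha, fun g hg => ?_⟩
  obtain ⟨n, hn⟩ := hn g hg
  refine ⟨n, fun v hv => ?_⟩
  have h2 : (a ^ n)⁻¹ * g ∈ centralizer (V : Set X) := by
    refine Subgroup.le_centralizer_iff.1 ?_ (mem_zpowers ((a ^ n)⁻¹ * g))
    refine (CoprimeAct.centralizer_sup_commutator hSV hcop).ge.trans (sup_le ?_ ?_)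
    · refine inf_le_right.trans (centralizer_le ?_)
      exact zpowers_le.2 (mul_mem (inv_mem (pow_mem ha n)) hg)
    · exact Subgroup.le_centralizer_iff.1 (zpowers_le.2 hn)
  have h3 := mem_centralizer_iff.1 h2 v hv
  calc g * v * g⁻¹ = a ^ n * (((a ^ n)⁻¹ * g) * v) * g⁻¹ := by group
    _ = a ^ n * (v * ((a ^ n)⁻¹ * g)) * g⁻¹ := by rw [h3]
    _ = _ := by group

end Cfsg.Agent.SEMain.Commute
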