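import Cfsg.Agent.Lib.SEMain.Commute.PairPGroup

/-!
# Prime power groups generated by inverted elements

In the situation of `Frame` an `l`-group of `D` generated by elements inverted by `u` and normalised by
`u` and `z` is inverted by `u`.
-/

set_option autoImplicit false
set_option linter.style.haveILetI false
set_option linter.unusedSectionVars false

namespace Cfsg.Agent.SEMain.Commute.TPart

open Subgroup MulAction

universe u

variable {G : Type u} [Group G] [Finite G]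

theorem mem_zpowers_natPow {g x : G} (h : x ∈ zpowers g) : ∃ n : ℕ, x = g ^ n :=
  let ⟨n, hn⟩ := mem_powers_of_zpowers h
  ⟨n, hn.symm⟩

theorem inv_conj_pow (g x : G) (n : ℕ) : (g⁻¹ * x * g) ^ n = g⁻¹ * x ^ n * g := by
  simpa using (conj_pow (i := n) (a := g⁻¹) (b := x))

/-- Natural powers of an element of prime order. -/
theorem pow_eq_iff_cast {l : ℕ} {x : G} (hx : orderOf x = l) (a c : ℕ) :
    x ^ a = x ^ c ↔ (a : ZMod l) = (c : ZMod l) := by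
  rw [pow_eq_pow_iff_modEq, hx, ZMod.natCast_eq_natCast_iff]

/-- Iterated conjugation of an eigenvector. -/
theorem iter_conj {z x : G} {j : ℕ} (h : z * x * z⁻¹ = x ^ j) (k : ℕ) :
    z ^ k * x * (z ^ k)⁻¹ = x ^ (j ^ k) := by
  induction k with
  | zero => simp
  | succ k ih =>
    calc z ^ (k + 1) * x * (z ^ (k + 1))⁻¹ = z * (z ^ k * x * (z ^ k)⁻¹) * z⁻¹ := by rw [pow_succ']; group
      _ = (z * x * z⁻¹) ^ (j ^ k) := by rw [ih, conj_pow]
      _ = _ := by rw [h, ← pow_mul, ← pow_succ']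

variable {H : Subgroup G} {b : G ⧸ H} {u z : G} {r : ℕ}

namespace Frame

variable (F : Frame H b u z r)
include F

/-- The contradiction for a group which is not inverted. -/
theorem inverted_of_pgroup {l : ℕ} [hl : Fact l.Prime] {S : Subgroup G}
    (hgen : S ≤ closure (invSet u S)) (hSl : IsPGroup l S) (hSD : S ≤ pairStab ((1 : G) : G ⧸ H) b)
    (hSu : u ∈ normalizer (S : Set G)) (hSz : z ∈ normalizer (S : Set G)) :
    ∀ x ∈ S, u * x * u⁻¹ = x⁻¹ := by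
  classical
  haveI := F.fact
  have hodd := F.odd_of_le hSD
  set Zs := S ⊓ centralizer (S : Set G) with hZs
  have hZc : ∀ w ∈ Zs, ∀ s ∈ S, w * s = s * w := fun w hw s hs =>
    (mem_centralizer_iff.1 (mem_inf.1 hw).2 s hs).symm
  have hZS : Zs ≤ S := inf_le_left
  have hZu := mem_normalizer_centre hSu
  have hZz := mem_normalizer_centre hSz
  set W := Zs ⊓ centralizer ({u} : Set G) with hWdef
  by_cases hWne : W ≠ ⊥
  · exact (F.cyclic_of_centralizes (Y₀ := W) hgen hSl hSD hSu hSz (hSl.to_le (inf_le_left.trans hZS))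
      (inf_le_left.trans (hZS.trans hSD)) (fun y hy => mem_centralizer_singleton_iff.1 (mem_inf.1 hy).2)
      hWne (F.inf_fix_normalizer (Or.inr rfl) hZz) fun m hm y hy => (hZc y (mem_inf.1 hy).1 m hm).symm).1
  push Not at hWne
  have hW0 : ∀ x ∈ Zs, x * u = u * x → x = 1 := fun x hx hxu => mem_bot.1
    (hWne ▸ (mem_inf.2 ⟨hx, mem_centralizer_singleton_iff.2 hxu⟩ : x ∈ W))
  have hZinv : ∀ x ∈ Zs, u * x * u⁻¹ = x⁻¹ := fun x hx => by
    obtain ⟨f, hf, i, hi, e, hfu⟩ := exists_fix_mul_inv (F.odd_of_le (hZS.trans hSD)) F.u_order hZu hx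
    rw [e, hW0 f hf hfu, one_mul]; exact hi.2
  have hcentral : ∀ x ∈ S, (∀ k ∈ invSet u S, x * k = k * x) → x ∈ Zs := fun x hx h => by
    refine mem_inf.2 ⟨hx, mem_centralizer_iff.2 fun s hs => ?_⟩
    have hle : closure (invSet u S) ≤ centralizer ({x} : Set G) := (closure_le _).2 fun k hk =>
      mem_centralizer_singleton_iff.2 (h k hk).symm
    exact mem_centralizer_singleton_iff.1 (hle (hgen hs))
  have hcent : ∀ c ∈ S, c * u = u * c → (∀ k ∈ invSet u S, c * k = k * c) → c = 1 :=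
    fun c hc hcu h => hW0 c (hcentral c hc h) hcu
  by_contra hnot
  -- the second layer
  have hZne : Zs ≠ S := fun e => hnot fun x hx => hZinv x (e.symm ▸ hx)
  obtain ⟨n₂, hn₂, hn₂Z, hn₂c⟩ := exists_upper hSl hZS hZc hZne
  set Z2 := layerSub S Zs hZc with hZ2
  have hZ2inv : ∀ x ∈ Z2, u * x * u⁻¹ = x⁻¹ → x ∈ Zs := fun x hx hxi =>
    hcentral x (mem_layerSub.1 hx).1 fun k hk => by
      obtain ⟨w, hw, hwdef⟩ : ∃ w ∈ Zs, x * k * x⁻¹ * k⁻¹ = w := ⟨_, (mem_layerSub.1 hx).2 k hk.1, rfl⟩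
      have h1 : x⁻¹ * k⁻¹ * x * k = w⁻¹ := by
        rw [← hZinv w hw, ← hwdef, show u * (x * k * x⁻¹ * k⁻¹) * u⁻¹ =
          u * x * u⁻¹ * (u * k * u⁻¹) * (u * x * u⁻¹)⁻¹ * (u * k * u⁻¹)⁻¹ by group, hxi, hk.2, inv_inv, inv_inv]
      have h2 : w = k⁻¹ * x⁻¹ * k * x := by rw [← inv_inv w, ← h1]; group
      have h3 : x * k * x⁻¹ = x⁻¹ * k * x := by
        calc x * k * x⁻¹ = w * k := by rw [← hwdef]; group
          _ = k * w := hZc w hw k hk.1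
          _ = x⁻¹ * k * x := by rw [h2]; group
      exact comm_of_conj_eq hodd (mem_layerSub.1 hx).1 h3
  have hZ2u := mem_normalizer_layerSub (hWc := hZc) hSu hZu
  have hZ2z := mem_normalizer_layerSub (hWc := hZc) hSz hZz
  set W2 := Z2 ⊓ centralizer ({u} : Set G) with hW2def
  have hW2S : W2 ≤ S := inf_le_left.trans layerSub_le
  have hW2u : ∀ y ∈ W2, y * u = u * y := fun y hy => mem_centralizer_singleton_iff.1 (mem_inf.1 hy).2
  have hW2ne : W2 ≠ ⊥ := fun e => by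
    obtain ⟨f, hf, i, hi, eq, hfu⟩ := exists_fix_mul_inv (F.odd_of_le (layerSub_le.trans hSD)) F.u_order
      hZ2u (mem_layerSub.2 ⟨hn₂, hn₂c⟩ : n₂ ∈ Z2)
    have hf1 : f = 1 := mem_bot.1 (e ▸ (mem_inf.2 ⟨hf, mem_centralizer_singleton_iff.2 hfu⟩ : f ∈ W2))
    exact hn₂Z (by rw [eq, hf1, one_mul]; exact hZ2inv i hi.1 hi.2)
  have hW2c : ∀ c ∈ W2, ∀ d ∈ W2, c * d = d * c := fun c hc d hd => by
    refine mul_inv_eq_iff_eq_mul.1 (mul_inv_eq_one.1 (hW0 (c * d * c⁻¹ * d⁻¹)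
      ((mem_layerSub.1 (mem_inf.1 hc).1).2 d (hW2S hd)) ?_))
    have h1 : Commute c u := hW2u c hc
    have h2 : Commute d u := hW2u d hd
    exact (((h1.mul_left h2).mul_left h1.inv_left).mul_left h2.inv_left).eq
  have hZbot : Zs ≠ ⊥ := fun e => hn₂Z (mem_inf.2 ⟨hn₂, mem_centralizer_iff.2 fun s hs =>
    (mul_inv_eq_iff_eq_mul.1 (mul_inv_eq_one.1 (mem_bot.1 (e ▸ hn₂c s hs)))).symm⟩)
  obtain ⟨-, gz, -, hgz⟩ := F.cyclic_of_centralizes (P := Zs) (Y₀ := W2)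
    (fun x hx => subset_closure ⟨hx, hZinv x hx⟩) (hSl.to_le hZS) (hZS.trans hSD) hZu hZz
    (hSl.to_le hW2S) (hW2S.trans hSD) hW2u hW2ne (F.inf_fix_normalizer (Or.inr rfl) hZ2z)
    fun m hm y hy => hZc m hm y (hW2S hy)
  -- the action of `z` on the socle of the centre
  obtain ⟨x₀, hx₀, hx₀1⟩ := Zs.bot_or_exists_ne_one.resolve_left hZbot
  set z₀ := x₀ ^ (orderOf x₀ / l) with hz₀def
  have hz₀ : z₀ ∈ Zs := pow_mem hx₀ _
  have hz₀l : orderOf z₀ = l := exists_pow_prime hSl (hZS hx₀) hx₀1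
  have hz₀1 : z₀ ≠ 1 := fun e => hl.out.one_lt.ne' (by rw [← hz₀l, e, orderOf_one])
  have hsoc : ∀ x ∈ Zs, x ^ l = 1 → ∃ n : ℕ, x = z₀ ^ n := fun x hx hxl =>
    mem_zpowers_natPow (mem_zpowers_of_cyclic (hgz hx) (hgz hz₀) hxl hz₀l)
  obtain ⟨j, hj⟩ := hsoc (z * z₀ * z⁻¹) (SEBrick.conj_mem_of hZz hz₀)
    (by rw [conj_pow, ← hz₀l, pow_orderOf_eq_one, mul_one, mul_inv_cancel])
  have hlr : l ≠ r := fun e => F.not_dvd_orderOf (hSD (hZS hz₀)) (hZinv z₀ hz₀) (by rw [hz₀l, e])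
  have hj1 : (j : ZMod l) ≠ 1 := fun h => hz₀1 (F.fpf z₀ (hSD (hZS hz₀)) (hZinv z₀ hz₀)
    (mul_inv_eq_iff_eq_mul.1 (by
      rw [hj]; conv_rhs => rw [← pow_one z₀]
      exact (pow_eq_iff_cast hz₀l _ _).2 (by simpa using h))))
  have hjr : (j : ZMod l) ^ r = 1 := by
    have h := iter_conj hj r
    rw [← F.z_order, pow_orderOf_eq_one, one_mul, inv_one, mul_one, F.z_order] at h
    have h' := (pow_eq_iff_cast hz₀l 1 (j ^ r)).1 (by rw [pow_one]; exact h)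
    rw [Nat.cast_one, Nat.cast_pow] at h'
    exact h'.symm
  -- the eigenvector
  let V : Subgroup G :=
    { carrier := {x | x ∈ W2 ∧ x ^ l = 1}
      one_mem' := ⟨one_mem W2, one_pow l⟩
      mul_mem' := fun {x y} hx hy => ⟨mul_mem hx.1 hy.1, by
        rw [(show Commute x y from hW2c x hx.1 y hy.1).mul_pow, hx.2, hy.2, one_mul]⟩
      inv_mem' := fun {x} hx => ⟨inv_mem hx.1, by rw [inv_pow, hx.2, inv_one]⟩ }
  have hVne : V ≠ ⊥ := fun e => by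
    obtain ⟨w, hw, hw1⟩ := W2.bot_or_exists_ne_one.resolve_left hW2ne
    have hwl := exists_pow_prime hSl (hW2S hw) hw1
    have hmem : w ^ (orderOf w / l) ∈ V := ⟨pow_mem hw _, by
      have h := pow_orderOf_eq_one (w ^ (orderOf w / l))
      rwa [hwl] at h⟩
    rw [e, mem_bot] at hmem
    rw [hmem, orderOf_one] at hwl
    exact hl.out.one_lt.ne hwl
  have hzV : z ∈ normalizer (V : Set G) := SEBrick.mem_normalizer_of fun x hx =>
    ⟨SEBrick.conj_mem_of (F.inf_fix_normalizer (Or.inr rfl) hZ2z) hx.1, by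
      rw [conj_pow, hx.2, mul_one, mul_inv_cancel]⟩
  obtain ⟨μ, y, hyV, hy1, hzy⟩ := exists_eigen (z := z)
    (by rw [← F.z_order]; exact pow_orderOf_eq_one z) (V := V) (fun x hx y hy => hW2c x hx.1 y hy.1)
    (fun x hx => hx.2) hzV hVne hjr hj1
  have hyW : y ∈ W2 := hyV.1
  have hyS : y ∈ S := hW2S hyW
  have hyu : y * u = u * y := hW2u y hyW
  have hyl : orderOf y = l := orderOf_eq_prime hyV.2 hy1
  -- commutators with `y`
  have hcZ : ∀ g ∈ S, y * g * y⁻¹ * g⁻¹ ∈ Zs := fun g hg => (mem_layerSub.1 (mem_inf.1 hyW).1).2 g hg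
  have hcmul : ∀ g ∈ S, ∀ h ∈ S, y * (g * h) * y⁻¹ * (g * h)⁻¹ =
      y * g * y⁻¹ * g⁻¹ * (y * h * y⁻¹ * h⁻¹) := fun g hg h hh => by
    calc y * (g * h) * y⁻¹ * (g * h)⁻¹ =
        y * g * y⁻¹ * ((y * h * y⁻¹ * h⁻¹) * g⁻¹) := by group
      _ = y * g * y⁻¹ * (g⁻¹ * (y * h * y⁻¹ * h⁻¹)) := by rw [hZc _ (hcZ h hh) _ (inv_mem hg)]
      _ = _ := by group
  have hcpow : ∀ g ∈ S, ∀ n : ℕ, y * g ^ n * y⁻¹ * (g ^ n)⁻¹ = (y * g * y⁻¹ * g⁻¹) ^ n := by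
    intro g hg n
    induction n with
    | zero => simp
    | succ n ih => rw [pow_succ g n, hcmul _ (pow_mem hg n) _ hg, ih, ← pow_succ]
  have hypow : ∀ g ∈ S, ∀ n : ℕ, y ^ n * g * (y ^ n)⁻¹ * g⁻¹ = (y * g * y⁻¹ * g⁻¹) ^ n := by
    intro g hg n
    induction n with
    | zero => simp
    | succ n ih =>
      calc y ^ (n + 1) * g * (y ^ (n + 1))⁻¹ * g⁻¹ =
          y * (y ^ n * g * (y ^ n)⁻¹ * g⁻¹) * y⁻¹ * (y * g * y⁻¹ * g⁻¹) := by rw [pow_succ']; group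
        _ = (y * g * y⁻¹ * g⁻¹) ^ n * (y * g * y⁻¹ * g⁻¹) := by
          rw [ih, ← hZc _ (pow_mem (hcZ g hg) n) y hyS, mul_inv_cancel_right]
        _ = _ := (pow_succ _ _).symm
  have hcl : ∀ g ∈ S, (y * g * y⁻¹ * g⁻¹) ^ l = 1 := fun g hg => by
    rw [← hypow g hg l, hyV.2]; simp
  set M := S ⊓ centralizer (zpowers y : Set G) with hMdef
  have hMmem : ∀ {g : G}, g ∈ M ↔ g ∈ S ∧ y * g * y⁻¹ * g⁻¹ = 1 := by
    intro g
    rw [hMdef, mem_inf]
    refine and_congr_right fun _ => ⟨fun h => ?_, fun h => mem_centralizer_iff.2 fun w hw => ?_⟩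
    · rw [mem_centralizer_iff.1 h y (mem_zpowers y)]; group
    · obtain ⟨n, rfl⟩ := mem_zpowers_iff.1 hw
      exact ((show Commute y g from mul_inv_eq_iff_eq_mul.1 (mul_inv_eq_one.1 h)).zpow_left n).eq
  have hMS : M ≤ S := inf_le_left
  obtain ⟨v, hv, hve⟩ : ∃ v ∈ invSet u S, y * v * y⁻¹ * v⁻¹ ≠ 1 := by
    by_contra! h
    exact hy1 (hcent y hyS hyu fun k hk => mul_inv_eq_iff_eq_mul.1 (mul_inv_eq_one.1 (h k hk)))
  set e := y * v * y⁻¹ * v⁻¹ with he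
  have hvS := hv.1
  have heZ : e ∈ Zs := hcZ v hvS
  have hel : orderOf e = l := orderOf_eq_prime (hcl v hvS) hve
  have hec : ∀ s ∈ S, e * s = s * e := hZc e heZ
  have hdecS : ∀ g ∈ S, ∃ m ∈ M, ∃ i : ℕ, g = m * v ^ i := by
    intro g hg
    obtain ⟨i, hi⟩ := mem_zpowers_natPow (mem_zpowers_of_cyclic (hgz (hcZ g hg)) (hgz heZ) (hcl g hg) hel)
    refine ⟨g * (v ^ i)⁻¹, hMmem.2 ⟨mul_mem hg (inv_mem (pow_mem hvS i)), ?_⟩, i, by group⟩
    have h := hcmul _ (mul_mem hg (inv_mem (pow_mem hvS i))) _ (pow_mem hvS i)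
    rw [inv_mul_cancel_right, hcpow v hvS i, hi, ← he] at h
    exact mul_eq_right.1 h.symm
  have hSM : S ≤ normalizer (M : Set G) := fun g hg => SEBrick.mem_normalizer_of fun m hm => by
    obtain ⟨hmS, hmc⟩ := hMmem.1 hm
    refine hMmem.2 ⟨mul_mem (mul_mem hg hmS) (inv_mem hg), ?_⟩
    rw [hcmul _ (mul_mem hg hmS) _ (inv_mem hg), hcmul _ hg _ hmS, hmc, mul_one,
      ← hcmul _ hg _ (inv_mem hg)]
    simp
  have hMz : z ∈ normalizer (M : Set G) :=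
    inf_normalizer_le_normalizer_inf (mem_inf.2 ⟨hSz, mem_normalizer_centralizer
      (SEBrick.mem_normalizer_of fun w hw => by
        obtain ⟨n, rfl⟩ := mem_zpowers_natPow hw
        rw [← conj_pow, hzy, ← pow_mul]
        exact pow_mem (mem_zpowers y) _)⟩)
  have hMu : u ∈ normalizer (M : Set G) :=
    inf_normalizer_le_normalizer_inf (mem_inf.2 ⟨hSu, mem_normalizer_centralizer
      (SEBrick.mem_normalizer_of fun w hw => by
        obtain ⟨n, rfl⟩ := mem_zpowers_natPow hw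
        rw [← (Commute.pow_left hyu n).eq, mul_inv_cancel_right]
        exact pow_mem (mem_zpowers y) _)⟩)
  have hYcomm : ∀ m ∈ M, ∀ w ∈ zpowers y, m * w = w * m := fun m hm w hw =>
    (mem_centralizer_iff.1 (mem_inf.1 hm).2 w hw).symm
  have hYl : IsPGroup l (zpowers y) := IsPGroup.of_card (n := 1) (by rw [Nat.card_zpowers, hyl, pow_one])
  have hYD : zpowers y ≤ pairStab ((1 : G) : G ⧸ H) b := zpowers_le.2 (hSD hyS)
  have hYu : ∀ w ∈ zpowers y, w * u = u * w := fun w hw => by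
    obtain ⟨n, rfl⟩ := mem_zpowers_natPow hw
    exact (Commute.pow_left hyu n).eq
  have hYne : zpowers y ≠ ⊥ := fun h => hy1 (zpowers_eq_bot.1 h)
  have hYz : z ∈ normalizer (zpowers y : Set G) := SEBrick.mem_normalizer_of fun w hw => by
    obtain ⟨n, rfl⟩ := mem_zpowers_natPow hw
    rw [← conj_pow, hzy, ← pow_mul]
    exact pow_mem (mem_zpowers y) _
  have hZM : Zs ≤ M := fun x hx => hMmem.2 ⟨hZS hx, by rw [← hZc x hx y hyS]; group⟩
  obtain ⟨hnorm, -⟩ := F.layer (M := M) (N := Zs) (Y := zpowers y) hYl hYD hYu hYne hYz (hSl.to_le hMS)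
    (hMS.trans hSD) hMu hMz hYcomm hZM hZu hZz ⟨z₀, hz₀, hZinv z₀ hz₀, hz₀1⟩
    (fun n hn m hm => by rw [hZc n hn m (hMS hm)]; simp)
    (fun n hn hnu => by rw [hW0 n hn hnu]; exact one_mem _)
  set C := M ⊓ centralizer ({u} : Set G) with hC
  have hCu : ∀ c ∈ C, c * u = u * c := fun c hc => mem_centralizer_singleton_iff.1 (mem_inf.1 hc).2
  -- the inverted part of `M`
  set A := closure (invSet u M) with hA
  have hAM : A ≤ M := (closure_le _).2 fun k hk => hk.1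
  have hMA : M ≤ normalizer (A : Set G) := by
    intro m hm
    obtain ⟨f, hf, i, hi, eq, hfu⟩ := exists_fix_mul_inv (F.odd_of_le (hMS.trans hSD)) F.u_order hMu hm
    rw [eq]
    refine mul_mem (SEBrick.mem_normalizer_of fun x hx => ?_) (le_normalizer (subset_closure hi))
    have hle : A.map (MulAut.conj f).toMonoidHom ≤ A := by
      rw [hA, MonoidHom.map_closure]
      refine closure_mono ?_
      rintro _ ⟨k, hk, rfl⟩
      refine ⟨mul_mem (mul_mem hf hk.1) (inv_mem hf), ?_⟩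
      show u * (f * k * f⁻¹) * u⁻¹ = (f * k * f⁻¹)⁻¹
      rw [show u * (f * k * f⁻¹) * u⁻¹ = u * f * u⁻¹ * (u * k * u⁻¹) * (u * f * u⁻¹)⁻¹ by group, hk.2,
        ← hfu, mul_inv_cancel_right]
      group
    exact hle ⟨x, hx, rfl⟩
  have hAn : ∀ g : G, (g = u ∨ g = z) → g ∈ normalizer (M : Set G) → g ∈ normalizer (A : Set G) :=
    fun g hg hgM => SEBrick.mem_normalizer_of fun x hx => by
      have hle : A.map (MulAut.conj g).toMonoidHom ≤ A := by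
        rw [hA, MonoidHom.map_closure]
        refine closure_mono ?_
        rintro _ ⟨k, hk, rfl⟩
        refine ⟨SEBrick.conj_mem_of hgM hk.1, ?_⟩
        show u * (g * k * g⁻¹) * u⁻¹ = (g * k * g⁻¹)⁻¹
        rcases hg with rfl | rfl
        · rw [hk.2, show g * k⁻¹ * g⁻¹ = (g * k * g⁻¹)⁻¹ by group, hk.2]
        · exact F.z_conj_inv hk.2
      exact hle ⟨x, hx, rfl⟩
  obtain ⟨hAinv, gA, hgA, hAle⟩ := F.cyclic_of_centralizes (P := A) (Y₀ := zpowers y)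
    (closure_mono fun k hk => ⟨subset_closure hk, hk.2⟩) (hSl.to_le (hAM.trans hMS))
    (hAM.trans (hMS.trans hSD)) (hAn u (Or.inl rfl) hMu) (hAn z (Or.inr rfl) hMz) hYl hYD hYu hYne hYz
    fun m hm w hw => hYcomm m (hAM hm) w hw
  have hinvA : ∀ x ∈ M, u * x * u⁻¹ = x⁻¹ → x ∈ A := fun x hx h => subset_closure ⟨hx, h⟩
  have hAC : ∀ x ∈ A, x * u = u * x → x = 1 := fun x hx hxu =>
    eq_one_of_fix_inv hodd (hMS (hAM hx)) hxu (hAinv x hx)
  have hAA : ∀ x ∈ A, ∀ w ∈ A, x * w = w * x := fun x hx w hw => by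
    obtain ⟨p, rfl⟩ := mem_zpowers_iff.1 (hAle hx)
    obtain ⟨q, rfl⟩ := mem_zpowers_iff.1 (hAle hw)
    exact (Commute.zpow_zpow_self gA p q).eq
  have hCA : ∀ c ∈ C, ∀ x ∈ A, c * x = x * c := fun c hc x hx => by
    refine mul_inv_eq_iff_eq_mul.1 (mul_inv_eq_one.1 (hAC (c * x * c⁻¹ * x⁻¹)
      (mul_mem (SEBrick.conj_mem_of (hMA (mem_inf.1 hc).1) hx) (inv_mem hx)) (hCu _ ?_)))
    rw [show c * x * c⁻¹ * x⁻¹ = c * (x * c⁻¹ * x⁻¹) by group]
    exact mul_mem hc (SEBrick.conj_mem_of (hnorm (hAM hx)) (inv_mem hc))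
  have hdec : ∀ m ∈ M, ∃ c ∈ C, ∃ x ∈ A, m = c * x := fun m hm => by
    obtain ⟨f, hf, i, hi, eq, hfu⟩ := exists_fix_mul_inv (F.odd_of_le (hMS.trans hSD)) F.u_order hMu hm
    exact ⟨f, mem_inf.2 ⟨hf, mem_centralizer_singleton_iff.2 hfu⟩, i, subset_closure hi, eq⟩
  have hcommC : ∀ m ∈ M, ∀ m' ∈ M, m * m' * m⁻¹ * m'⁻¹ ∈ C := fun m hm m' hm' => by
    obtain ⟨c, hc, x, hx, rfl⟩ := hdec m hm
    obtain ⟨c', hc', x', hx', rfl⟩ := hdec m' hm'
    have e1 : c * x * (c' * x') * (c * x)⁻¹ * (c' * x')⁻¹ = c * c' * c⁻¹ * c'⁻¹ := by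
      calc c * x * (c' * x') * (c * x)⁻¹ * (c' * x')⁻¹ =
          c * (x * c') * (x' * x⁻¹) * (c⁻¹ * x'⁻¹) * c'⁻¹ := by group
        _ = c * (c' * x) * (x⁻¹ * x') * (x'⁻¹ * c⁻¹) * c'⁻¹ := by
          rw [hCA c' hc' x hx, hAA x' hx' x⁻¹ (inv_mem hx), hCA c⁻¹ (inv_mem hc) x'⁻¹ (inv_mem hx')]
        _ = _ := by group
    rw [e1]
    exact mul_mem (mul_mem (mul_mem hc hc') (inv_mem hc)) (inv_mem hc')
  have hCC : ∀ c ∈ C, ∀ c' ∈ C, c * c' = c' * c := fun c hc c' hc' => by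
    have hd : c * c' * c⁻¹ * c'⁻¹ ∈ C := mul_mem (mul_mem (mul_mem hc hc') (inv_mem hc)) (inv_mem hc')
    refine mul_inv_eq_iff_eq_mul.1 (mul_inv_eq_one.1 (hcent _ (hMS (mem_inf.1 hd).1) (hCu _ hd) fun k hk => ?_))
    refine (comm_of_conj_eq hodd hk.1 ?_).symm
    set d := c * c' * c⁻¹ * c'⁻¹ with hddef
    have hkd : k * d * k⁻¹ ∈ C := by
      rw [show k * d * k⁻¹ = k * c * k⁻¹ * (k * c' * k⁻¹) * (k * c * k⁻¹)⁻¹ * (k * c' * k⁻¹)⁻¹ by
        rw [hddef]; group]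
      exact hcommC _ (SEBrick.conj_mem_of (hSM hk.1) (mem_inf.1 hc).1) _
        (SEBrick.conj_mem_of (hSM hk.1) (mem_inf.1 hc').1)
    calc k * d * k⁻¹ = u * (k * d * k⁻¹) * u⁻¹ := by rw [← hCu _ hkd, mul_inv_cancel_right]
      _ = u * k * u⁻¹ * (u * d * u⁻¹) * (u * k * u⁻¹)⁻¹ := by group
      _ = k⁻¹ * d * k := by rw [hk.2, ← hCu _ hd, mul_inv_cancel_right, inv_inv]
  have hMM : ∀ m ∈ M, ∀ m' ∈ M, m * m' = m' * m := fun m hm m' hm' => by
    obtain ⟨c, hc, x, hx, rfl⟩ := hdec m hm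
    obtain ⟨c', hc', x', hx', rfl⟩ := hdec m' hm'
    exact ((Commute.mul_right (hCC c hc c' hc') (hCA c hc x' hx')).mul_left
      (Commute.mul_right (hCA c' hc' x hx).symm (hAA x hx x' hx'))).eq
  -- the map `δ`
  have hvM : ∀ m ∈ M, v * m * v⁻¹ ∈ M := fun m hm => SEBrick.conj_mem_of (hSM hvS) hm
  have hvM' : ∀ m ∈ M, v⁻¹ * m * v ∈ M := fun m hm => by
    have := SEBrick.conj_mem_of (inv_mem (hSM hvS)) hm
    rwa [inv_inv] at this
  let δ : M →* G := MonoidHom.mk' (fun m => v * (m : G) * v⁻¹ * (v⁻¹ * (m : G) * v)⁻¹) fun m m' => by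
    show v * ((m : G) * m') * v⁻¹ * (v⁻¹ * ((m : G) * m') * v)⁻¹ =
      v * (m : G) * v⁻¹ * (v⁻¹ * m * v)⁻¹ * (v * (m' : G) * v⁻¹ * (v⁻¹ * m' * v)⁻¹)
    calc v * ((m : G) * m') * v⁻¹ * (v⁻¹ * ((m : G) * m') * v)⁻¹ =
        v * (m : G) * v⁻¹ * ((v * (m' : G) * v⁻¹ * (v⁻¹ * m' * v)⁻¹) * (v⁻¹ * m * v)⁻¹) := by group
      _ = _ := by
        rw [hMM _ (mul_mem (hvM m' m'.2) (inv_mem (hvM' m' m'.2))) _ (inv_mem (hvM' m m.2))]; group
  have hδ : ∀ m : M, δ m = v * (m : G) * v⁻¹ * (v⁻¹ * (m : G) * v)⁻¹ := fun m => rfl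
  have hδM : ∀ m : M, δ m ∈ M := fun m => mul_mem (hvM m m.2) (inv_mem (hvM' m m.2))
  have huv : u * v * u⁻¹ = v⁻¹ := hv.2
  have hδu : ∀ m : M, u * δ m * u⁻¹ =
      v⁻¹ * (u * m * u⁻¹) * v * (v * (u * m * u⁻¹) * v⁻¹)⁻¹ := fun m => by
    rw [hδ, show u * (v * (m : G) * v⁻¹ * (v⁻¹ * (m : G) * v)⁻¹) * u⁻¹ = u * v * u⁻¹ * (u * m * u⁻¹) *
      (u * v * u⁻¹)⁻¹ * ((u * v * u⁻¹)⁻¹ * (u * m * u⁻¹) * (u * v * u⁻¹))⁻¹ by group, huv, inv_inv]
  have hδC : ∀ m : M, (m : G) ∈ C → δ m ∈ A := fun m hm => hinvA _ (hδM m) (by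
    rw [hδu m, ← hCu _ hm, mul_inv_cancel_right, hδ]; simp [mul_assoc])
  have hδA : ∀ m : M, (m : G) ∈ A → δ m ∈ C := fun m hm =>
    mem_inf.2 ⟨hδM m, mem_centralizer_singleton_iff.2 (Eq.symm (mul_inv_eq_iff_eq_mul.1 (by
      rw [hδu m, hAinv _ hm, hδ]
      calc v⁻¹ * (m : G)⁻¹ * v * (v * (m : G)⁻¹ * v⁻¹)⁻¹ = (v⁻¹ * m * v)⁻¹ * (v * m * v⁻¹) := by group
        _ = _ := hMM _ (inv_mem (hvM' m m.2)) _ (hvM m m.2))))⟩
  have hcv : ∀ m : M, δ m = 1 → v * (m : G) = m * v := fun m h =>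
    comm_of_conj_eq hodd hvS (mul_inv_eq_one.1 (by rw [← hδ]; exact h))
  have hMcentral : ∀ m ∈ M, v * m = m * v → m ∈ Zs := fun m hm hvm =>
    mem_inf.2 ⟨hMS hm, mem_centralizer_iff.2 fun s hs => by
      obtain ⟨m', hm', i, rfl⟩ := hdecS s hs
      exact (Commute.mul_left (hMM m' hm' m hm) ((show Commute v m from hvm).pow_left i)).eq⟩
  have hinj : ∀ m : M, (m : G) ∈ C → δ m = 1 → m = 1 := fun m hm h =>
    Subtype.ext (hW0 _ (hMcentral m m.2 (hcv m h)) (hCu _ hm))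
  have hyM : y ∈ M := hMmem.2 ⟨hyS, by group⟩
  have hyC : y ∈ C := mem_inf.2 ⟨hyM, mem_centralizer_singleton_iff.2 hyu⟩
  have hCl : ∀ x ∈ C, x ^ l = 1 → x ∈ zpowers y := fun x hx hxl => by
    have hy' : orderOf (δ ⟨y, hyM⟩) = l := orderOf_eq_prime
      (by rw [← map_pow, show (⟨y, hyM⟩ : M) ^ l = 1 from Subtype.ext hyV.2, map_one])
      fun h => hy1 (congrArg Subtype.val (hinj ⟨y, hyM⟩ hyC h))
    obtain ⟨n, hn⟩ := mem_zpowers_natPow (mem_zpowers_of_cyclic (g := gA)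
      (hAle (hδC ⟨x, (mem_inf.1 hx).1⟩ hx)) (hAle (hδC ⟨y, hyM⟩ hyC))
      (by rw [← map_pow, show (⟨x, (mem_inf.1 hx).1⟩ : M) ^ l = 1 from Subtype.ext hxl, map_one]) hy')
    have h0 := hinj (⟨x, (mem_inf.1 hx).1⟩ * (⟨y, hyM⟩ ^ n)⁻¹) (mul_mem hx (inv_mem (pow_mem hyC n)))
      (by rw [map_mul, map_inv, map_pow, hn, mul_inv_cancel])
    have h1 : x * (y ^ n)⁻¹ = 1 := congrArg Subtype.val h0
    rw [mul_inv_eq_one.1 h1]
    exact pow_mem (mem_zpowers y) n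
  -- a preimage of `y`
  obtain ⟨α, hα, hδα⟩ : ∃ α : M, (α : G) ∈ A ∧ δ α = y := by
    by_cases hall : ∀ m : M, (m : G) ∈ A → δ m = 1
    · exfalso
      have hAZ : ∀ x ∈ A, x ∈ Zs := fun x hx => hMcentral x (hAM hx) (hcv ⟨x, hAM hx⟩ (hall _ hx))
      have hform : ∀ g ∈ invSet u S, ∃ x ∈ A, ∃ i : ℕ, g = x * v ^ i := fun g hg => by
        obtain ⟨m, hm, i, rfl⟩ := hdecS g hg.1
        obtain ⟨c, hc, x, hx, rfl⟩ := hdec m hm
        refine ⟨x, hx, i, ?_⟩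
        have hcS : c ∈ S := hMS (mem_inf.1 hc).1
        have h1 : c * (v ^ i)⁻¹ = (v ^ i)⁻¹ * c⁻¹ := by
          have h2 := hg.2
          rw [show u * (c * x * v ^ i) * u⁻¹ = u * c * u⁻¹ * (u * x * u⁻¹) * (u * v ^ i * u⁻¹) by group,
            Invol.conj_pow huv i, hAinv x hx, ← hCu c hc, mul_inv_cancel_right, mul_assoc,
            hZc _ (inv_mem (hAZ x hx)) _ (inv_mem (pow_mem hvS i)), ← mul_assoc,
            show (c * x * v ^ i)⁻¹ = (v ^ i)⁻¹ * (x⁻¹ * c⁻¹) by group,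
            hZc _ (inv_mem (hAZ x hx)) _ (inv_mem hcS), ← mul_assoc] at h2
          exact mul_right_cancel h2
        have h2 : v ^ i * c * (v ^ i)⁻¹ = c⁻¹ := by
          calc v ^ i * c * (v ^ i)⁻¹ = v ^ i * (c * (v ^ i)⁻¹) := by group
            _ = v ^ i * ((v ^ i)⁻¹ * c⁻¹) := by rw [h1]
            _ = c⁻¹ := by group
        have h3 : v ^ i * c = c * v ^ i := comm_of_sq_comm hodd (pow_mem hvS i) (by
          rw [pow_two]
          calc v ^ i * v ^ i * c = v ^ i * (v ^ i * c * (v ^ i)⁻¹) * v ^ i := by group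
            _ = v ^ i * c⁻¹ * v ^ i := by rw [h2]
            _ = (v ^ i * c * (v ^ i)⁻¹)⁻¹ * (v ^ i * v ^ i) := by group
            _ = c * (v ^ i * v ^ i) := by rw [h2, inv_inv])
        rw [h3, mul_inv_cancel_right] at h2
        rw [eq_one_of_eq_inv hodd hcS h2, one_mul]
      have hK : ∀ g ∈ invSet u S, ∀ g' ∈ invSet u S, g * g' = g' * g := fun g hg g' hg' => by
        obtain ⟨x, hx, i, rfl⟩ := hform g hg
        obtain ⟨x', hx', i', rfl⟩ := hform g' hg'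
        have hxv : ∀ x ∈ A, ∀ i : ℕ, Commute x (v ^ i) := fun x hx i => hZc x (hAZ x hx) _ (pow_mem hvS i)
        exact ((Commute.mul_right (hAA x hx x' hx') (hxv x hx i')).mul_left
          (Commute.mul_right (hxv x' hx' i).symm (Commute.pow_pow_self v i i'))).eq
      have hScomm : ∀ s ∈ S, ∀ t ∈ S, s * t = t * s := fun s hs t ht => by
        have h1 : ∀ k ∈ invSet u S, s * k = k * s := fun k hk => by
          have hle : closure (invSet u S) ≤ centralizer ({k} : Set G) := (closure_le _).2 fun k' hk' =>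
            mem_centralizer_singleton_iff.2 (hK k' hk' k hk)
          exact mem_centralizer_singleton_iff.1 (hle (hgen hs))
        exact (hZc s (hcentral s hs h1) t ht)
      exact hnot (inverted_of_comm hgen hScomm)
    push Not at hall
    obtain ⟨a₁, ha₁, hδ1⟩ := hall
    set q := δ a₁ ^ (orderOf (δ a₁) / l) with hq
    have hql : orderOf q = l := exists_pow_prime (hSl.to_le hMS) (hδM a₁) hδ1
    have hqy := hCl q (pow_mem (hδA a₁ ha₁) _) (hql ▸ pow_orderOf_eq_one q)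
    obtain ⟨n, hn⟩ := mem_zpowers_natPow
      (mem_zpowers_of_cyclic (mem_zpowers y) hqy hyV.2 hql)
    refine ⟨a₁ ^ (orderOf (δ a₁) / l * n), ?_, ?_⟩
    · rw [SubgroupClass.coe_pow]; exact pow_mem ha₁ _
    · rw [map_pow, pow_mul, ← hq, hn]
  -- the action of `z`
  obtain ⟨J, hJ⟩ := mem_zpowers_natPow (hAle (SEBrick.conj_mem_of (hAn z (Or.inr rfl) hMz) hgA))
  have hJA : ∀ x ∈ A, z * x * z⁻¹ = x ^ J := fun x hx => by
    obtain ⟨n, rfl⟩ := mem_zpowers_natPow (hAle hx)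
    rw [← conj_pow, hJ, ← pow_mul, ← pow_mul, mul_comm]
  have heA : e ∈ A := hinvA e (hZM heZ) (hZinv e heZ)
  have hze : z * e * z⁻¹ = e ^ j := by
    obtain ⟨n, hn⟩ := hsoc e heZ (hcl v hvS)
    rw [hn, ← conj_pow, hj]
    exact pow_right_comm _ _ _
  have hJj : (J : ZMod l) = (j : ZMod l) := (pow_eq_iff_cast hel _ _).1 (by rw [← hJA e heA, hze])
  obtain ⟨m₁, hm₁, i, hzv⟩ := hdecS _ (SEBrick.conj_mem_of hSz hvS)
  have hcm : ∀ m ∈ M, ∀ k : ℕ, y * (m * v ^ k) * y⁻¹ * (m * v ^ k)⁻¹ = e ^ k := fun m hm k => by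
    rw [hcmul _ (hMS hm) _ (pow_mem hvS k), (hMmem.1 hm).2, one_mul, hcpow v hvS k]
  have hij : (i : ZMod l) * μ = (j : ZMod l) := by
    have h : z * e * z⁻¹ = e ^ (i * μ) := by
      rw [he, show z * (y * v * y⁻¹ * v⁻¹) * z⁻¹ =
        z * y * z⁻¹ * (z * v * z⁻¹) * (z * y * z⁻¹)⁻¹ * (z * v * z⁻¹)⁻¹ by group, hzy, hzv,
        hypow _ (mul_mem (hMS hm₁) (pow_mem hvS i)) μ, hcm m₁ hm₁ i, ← pow_mul]
    rw [hze] at h
    have h' := (pow_eq_iff_cast hel _ _).1 h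
    push_cast at h'
    exact h'.symm
  have hvy : v * y * v⁻¹ = e⁻¹ * y := by rw [he]; group
  have hey : ∀ w ∈ zpowers e, ∀ s ∈ S, w * s = s * w := fun w hw s hs => by
    obtain ⟨n, rfl⟩ := mem_zpowers_natPow hw
    exact ((show Commute e s from hec s hs).pow_left n).eq
  have hαv : v * (α : G) * v⁻¹ = y * (v⁻¹ * α * v) := by rw [← hδα, hδ]; group
  have hsq : ∀ k : ℕ, ∃ w ∈ zpowers e, v ^ (2 * k) * (α : G) * (v ^ (2 * k))⁻¹ = w * y ^ k * α := by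
    intro k
    induction k with
    | zero => exact ⟨1, one_mem _, by simp⟩
    | succ k ih =>
      obtain ⟨w, hw, hwe⟩ := ih
      have hwv : v * v * w * (v * v)⁻¹ = w := by
        rw [← hey w hw _ (mul_mem hvS hvS), mul_inv_cancel_right]
      have hy2 : v * v * y * (v * v)⁻¹ = (e * e)⁻¹ * y := by
        calc v * v * y * (v * v)⁻¹ = v * (v * y * v⁻¹) * v⁻¹ := by group
          _ = v * (e⁻¹ * y) * v⁻¹ := by rw [hvy]
          _ = v * e⁻¹ * v⁻¹ * (v * y * v⁻¹) := by group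
          _ = e⁻¹ * (e⁻¹ * y) := by rw [← hey _ (inv_mem (mem_zpowers e)) v hvS, mul_inv_cancel_right, hvy]
          _ = _ := by group
      have hα2 : v * v * (α : G) * (v * v)⁻¹ = e⁻¹ * y * α := by
        calc v * v * (α : G) * (v * v)⁻¹ = v * (v * α * v⁻¹) * v⁻¹ := by group
          _ = v * y * v⁻¹ * α := by rw [hαv]; group
          _ = _ := by rw [hvy]
      have hcomm2 : Commute ((e * e)⁻¹) y := hey _ (inv_mem (mul_mem (mem_zpowers e) (mem_zpowers e))) y hyS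
      refine ⟨w * ((e * e)⁻¹) ^ k * e⁻¹, mul_mem (mul_mem hw (pow_mem (inv_mem (mul_mem (mem_zpowers e)
        (mem_zpowers e))) k)) (inv_mem (mem_zpowers e)), ?_⟩
      calc v ^ (2 * (k + 1)) * (α : G) * (v ^ (2 * (k + 1)))⁻¹ =
          v * v * (v ^ (2 * k) * (α : G) * (v ^ (2 * k))⁻¹) * (v * v)⁻¹ := by
            rw [show 2 * (k + 1) = 2 * k + 1 + 1 by ring, pow_succ', pow_succ']; group
        _ = (v * v * w * (v * v)⁻¹) * (v * v * y * (v * v)⁻¹) ^ k * (v * v * α * (v * v)⁻¹) := by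
            rw [hwe, conj_pow]; group
        _ = w * ((e * e)⁻¹) ^ k * (y ^ k * e⁻¹) * y * α := by
            rw [hwv, hy2, hα2, hcomm2.mul_pow]; group
        _ = w * ((e * e)⁻¹) ^ k * e⁻¹ * y ^ (k + 1) * α := by
            rw [← hey _ (inv_mem (mem_zpowers e)) _ (pow_mem hyS k), pow_succ]; group
  -- transport `δ α = y` by `z`
  have hii : (μ : ZMod l) = (i : ZMod l) * (j : ZMod l) := by
    obtain ⟨w, hw, hwe⟩ := hsq i
    have hαM : (α : G) ∈ M := α.2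
    have hxM : v ^ i * (α : G) * (v ^ i)⁻¹ ∈ M := SEBrick.conj_mem_of (hSM (pow_mem hvS i)) hαM
    have hxM' : ((v ^ i)⁻¹ * (α : G) * v ^ i) ∈ M := by
      have := SEBrick.conj_mem_of (inv_mem (hSM (pow_mem hvS i))) hαM
      rwa [inv_inv] at this
    have hαJ : (α : G) ^ J ∈ M := pow_mem hαM J
    have h1 : y ^ μ = (v ^ i * (α : G) * (v ^ i)⁻¹ * ((v ^ i)⁻¹ * (α : G) * v ^ i)⁻¹) ^ J := by
      rw [(show Commute (v ^ i * (α : G) * (v ^ i)⁻¹) ((v ^ i)⁻¹ * (α : G) * v ^ i)⁻¹ from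
        hMM _ hxM _ (inv_mem hxM')).mul_pow, inv_pow]
      have e2 : ((v ^ i)⁻¹ * (α : G) * v ^ i) ^ J = (v ^ i)⁻¹ * (α : G) ^ J * v ^ i := by
        exact inv_conj_pow _ _ _
      rw [e2, conj_pow]
      calc y ^ μ = z * (v * α * v⁻¹ * (v⁻¹ * α * v)⁻¹) * z⁻¹ := by rw [← hδ, hδα, hzy]
        _ = z * v * z⁻¹ * (z * α * z⁻¹) * (z * v * z⁻¹)⁻¹ *
            ((z * v * z⁻¹)⁻¹ * (z * α * z⁻¹) * (z * v * z⁻¹))⁻¹ := by group
        _ = m₁ * (v ^ i * (α : G) ^ J * (v ^ i)⁻¹) * m₁⁻¹ *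
            ((v ^ i)⁻¹ * (m₁⁻¹ * (α : G) ^ J * m₁) * v ^ i)⁻¹ := by rw [hzv, hJA _ hα]; group
        _ = _ := by
          rw [hMM m₁ hm₁ _ (SEBrick.conj_mem_of (hSM (pow_mem hvS i)) hαJ), mul_inv_cancel_right,
            hMM _ (inv_mem hm₁) _ hαJ, inv_mul_cancel_right]
    have hyi : (v ^ i)⁻¹ * y ^ i * v ^ i = e ^ (i * i) * y ^ i := by
      have hvi : (v ^ i)⁻¹ * y * v ^ i = e ^ i * y := by
        calc (v ^ i)⁻¹ * y * v ^ i = (v ^ i)⁻¹ * ((y * v ^ i * y⁻¹ * (v ^ i)⁻¹) * v ^ i) * y := by group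
          _ = (v ^ i)⁻¹ * (v ^ i * e ^ i) * y := by
            rw [hcpow v hvS i, hey _ (pow_mem (mem_zpowers e) i) _ (pow_mem hvS i)]
          _ = _ := by group
      have h2 := congrArg (· ^ i) hvi
      rw [(show Commute (e ^ i) y from hey _ (pow_mem (mem_zpowers e) i) y hyS).mul_pow, ← pow_mul] at h2
      rw [← h2]
      exact (inv_conj_pow _ _ _).symm
    have h3 : v ^ i * (α : G) * (v ^ i)⁻¹ * ((v ^ i)⁻¹ * (α : G) * v ^ i)⁻¹ = w * e ^ (i * i) * y ^ i := by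
      calc v ^ i * (α : G) * (v ^ i)⁻¹ * ((v ^ i)⁻¹ * (α : G) * v ^ i)⁻¹ =
          (v ^ i)⁻¹ * (v ^ (2 * i) * (α : G) * (v ^ (2 * i))⁻¹ * (α : G)⁻¹) * v ^ i := by
            rw [two_mul, pow_add]; group
        _ = (v ^ i)⁻¹ * w * (y ^ i * v ^ i) := by rw [hwe]; group
        _ = w * ((v ^ i)⁻¹ * y ^ i * v ^ i) := by
            rw [← hey w hw _ (inv_mem (pow_mem hvS i))]; group
        _ = _ := by rw [hyi]; group
    have hwe' : w * e ^ (i * i) ∈ zpowers e := mul_mem hw (pow_mem (mem_zpowers e) _)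
    rw [h3, (show Commute (w * e ^ (i * i)) (y ^ i) from hey _ hwe' _ (pow_mem hyS i)).mul_pow,
      ← pow_mul] at h1
    have h4 : y ^ μ * (y ^ (i * J))⁻¹ = (w * e ^ (i * i)) ^ J := by rw [h1, mul_inv_cancel_right]
    have h5 : y ^ μ * (y ^ (i * J))⁻¹ = 1 := hAC _
      (h4 ▸ pow_mem (zpowers_le.2 heA hwe') J)
      (hCu _ (mul_mem (pow_mem hyC μ) (inv_mem (pow_mem hyC _))))
    have h6 := (pow_eq_iff_cast hyl _ _).1 (mul_inv_eq_one.1 h5)
    push_cast at h6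
    rw [h6, hJj]
  have hiter : ∀ g ∈ S, y * (z * g * z⁻¹) * y⁻¹ * (z * g * z⁻¹)⁻¹ = (y * g * y⁻¹ * g⁻¹) ^ i := by
    intro g hg
    obtain ⟨m, hm, n, rfl⟩ := hdecS g hg
    rw [hcm m hm n, show z * (m * v ^ n) * z⁻¹ = z * m * z⁻¹ * (z * v ^ n * z⁻¹) by group, ← conj_pow, hzv,
      hcmul _ (hMS (SEBrick.conj_mem_of hMz hm)) _ (pow_mem (mul_mem (hMS hm₁) (pow_mem hvS i)) n),
      (hMmem.1 (SEBrick.conj_mem_of hMz hm)).2, one_mul,
      hcpow _ (mul_mem (hMS hm₁) (pow_mem hvS i)) n, hcm m₁ hm₁ i, ← pow_mul, ← pow_mul, mul_comm]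
  have hir : (i : ZMod l) ^ r = 1 := by
    have h : ∀ k : ℕ, y * (z ^ k * v * (z ^ k)⁻¹) * y⁻¹ * (z ^ k * v * (z ^ k)⁻¹)⁻¹ = e ^ (i ^ k) := by
      intro k
      induction k with
      | zero => simp [he]
      | succ k ih =>
        rw [show z ^ (k + 1) * v * (z ^ (k + 1))⁻¹ = z * (z ^ k * v * (z ^ k)⁻¹) * z⁻¹ by
          rw [pow_succ']; group, hiter _ (SEBrick.conj_mem_of (pow_mem hSz k) hvS), ih, ← pow_mul, ← pow_succ]
    have h' := h r
    rw [← F.z_order, pow_orderOf_eq_one, one_mul, inv_one, mul_one, ← he, F.z_order] at h'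
    have h'' := (pow_eq_iff_cast hel 1 (i ^ r)).1 (by rw [pow_one]; exact h')
    rw [Nat.cast_one, Nat.cast_pow] at h''
    exact h''.symm
  have hjne : (j : ZMod l) ≠ 0 := fun h => by
    rw [h, zero_pow F.prime.ne_zero] at hjr
    exact zero_ne_one hjr
  have hi2 : (i : ZMod l) ^ 2 = 1 := by
    rw [hii] at hij
    refine mul_right_cancel₀ hjne ?_
    rw [one_mul]
    exact Eq.trans (by ring) hij
  have hi1 : (i : ZMod l) = 1 := by
    obtain ⟨t, ht⟩ := F.prime.odd_of_ne_two F.ne_two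
    rw [ht, pow_succ, pow_mul, hi2, one_pow, one_mul] at hir
    exact hir
  have hzvM : z * v * z⁻¹ * v⁻¹ ∈ M := hMmem.2 ⟨mul_mem (SEBrick.conj_mem_of hSz hvS) (inv_mem hvS), by
    have h1 := hcmul (z * v * z⁻¹ * v⁻¹) (mul_mem (SEBrick.conj_mem_of hSz hvS) (inv_mem hvS)) v hvS
    rw [inv_mul_cancel_right, hiter v hvS, ← he] at h1
    have h2 : e ^ i = e := by
      conv_rhs => rw [← pow_one e]
      exact (pow_eq_iff_cast hel _ _).2 (by simpa using hi1)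
    rw [h2] at h1
    exact mul_eq_right.1 h1.symm⟩
  have hcop : r.Coprime (Nat.card S) := by
    obtain ⟨n, hn⟩ := IsPGroup.iff_card.1 hSl
    rw [hn]
    exact ((Nat.coprime_primes F.prime hl.out).2 (Ne.symm hlr)).pow_right n
  obtain ⟨c₀, hc₀, hzc, hvc⟩ := F.exists_lift (W := M) hcop hMS hSM hSz hMz hvS one_pos
    F.prime.not_dvd_one (by rwa [pow_one])
  have hfix := F.fix_of_z_fix hSD hSu hSz hc₀ hzc
  have hm'' : v * v ∈ M := by
    have h1 : c₀ = v⁻¹ * (u * (v⁻¹ * c₀) * u⁻¹) := by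
      rw [show v⁻¹ * (u * (v⁻¹ * c₀) * u⁻¹) = v⁻¹ * (u * v * u⁻¹)⁻¹ * (u * c₀ * u⁻¹) by group, huv,
        ← hfix, mul_inv_cancel_right]
      group
    have h2 : v * v = u * (v⁻¹ * c₀) * u⁻¹ * (v⁻¹ * c₀)⁻¹ := by
      calc v * v = v * c₀ * (c₀⁻¹ * v) := by group
        _ = v * (v⁻¹ * (u * (v⁻¹ * c₀) * u⁻¹)) * (v⁻¹ * c₀)⁻¹ := by rw [← h1]; group
        _ = _ := by group
    rw [h2]
    exact mul_mem (SEBrick.conj_mem_of hMu hvc) (inv_mem hvc)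
  have h2e : e ^ 2 = 1 := by
    have h1 := hcpow v hvS 2
    rw [pow_two, (hMmem.1 hm'').2] at h1
    exact h1.symm
  exact hve (Invol.eq_one_of_sq_of_odd (SEBrick.odd_order hodd (hZS heZ)) h2e)

end Frame

end Cfsg.Agent.SEMain.Commute.TPart
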