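import Mathlib.GroupTheory.Index
import Mathlib.GroupTheory.QuotientGroup.Basic
import Mathlib.Algebra.BigOperators.Intervals
import Mathlib.FieldTheory.Finite.Basic
import Mathlib.Algebra.Ring.GeomSum

/-!
# Averaging over a group with fixed-point-free quotient, and eigenvectors

`A` acts on an abelian `V`, `g` normalises both and no power `g ^ i`, `0 < i < n`, fixes a non-trivial
element of `A / A₀`, where `A₀` acts trivially.  Then, up to the exponent `|A|`, the translates of the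
vectors on which `g` is the sign `s` and the fixed vectors of `A` generate `V`.
-/

set_option autoImplicit false
set_option linter.style.haveILetI false
set_option linter.unusedSectionVars false

namespace Cfsg.Agent.SEMain.Commute

open Subgroup Finset

universe u

variable {X : Type u} [Group X] [Finite X]

theorem conj_normalizer_mem {V : Subgroup X} {x v : X} (hx : x ∈ normalizer (V : Set X)) (hv : v ∈ V) :
    x * v * x⁻¹ ∈ V :=
  (mem_normalizer_iff.1 hx v).1 hv

theorem pow_card_mem_of_eigen {V A A₀ : Subgroup X} (hV : ∀ x ∈ V, ∀ y ∈ V, x * y = y * x)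
    (hAV : A ≤ normalizer (V : Set X)) {g : X} (hgV : g ∈ normalizer (V : Set X))
    (hgA : g ∈ normalizer (A : Set X)) {n : ℕ} (hn : 0 < n) (hgn : g ^ n = 1) {s : ℤ} (hs : s * s = 1)
    (hsn : s ^ n = 1) (hA₀ : A₀ ≤ A) (hA₀V : ∀ a ∈ A₀, ∀ v ∈ V, a * v = v * a)
    (hcomm : ∀ a ∈ A, ∀ b ∈ A, a * b * a⁻¹ * b⁻¹ ∈ A₀)
    (hfpf : ∀ i, 0 < i → i < n → ∀ a ∈ A, a * g ^ i * a⁻¹ * (g ^ i)⁻¹ ∈ A₀ → a ∈ A₀)
    {W : Subgroup X} (hfix : ∀ x ∈ V, (∀ a ∈ A, a * x = x * a) → x ∈ W)
    (heig : ∀ a ∈ A, ∀ w ∈ V, g * w * g⁻¹ = w ^ s → a * w * a⁻¹ ∈ W) {e : X} (he : e ∈ V) :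
    e ^ Nat.card A ∈ W := by
  classical
  haveI := Fintype.ofFinite A
  let N := normalizer (V : Set X)
  letI : CommGroup V := { (inferInstance : Group V) with mul_comm := fun a b => Subtype.ext (hV a a.2 b b.2) }
  let cj : N → (V →* V) := fun x =>
    { toFun := fun v => ⟨(x : X) * v * (x : X)⁻¹, conj_normalizer_mem x.2 v.2⟩
      map_one' := Subtype.ext (by simp)
      map_mul' := fun v w => Subtype.ext (by
        show (x : X) * ((v : X) * w) * (x : X)⁻¹ = (x : X) * v * (x : X)⁻¹ * ((x : X) * w * (x : X)⁻¹)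
        group) }
  have hcjmul : ∀ (x y : N) (v : V), cj (x * y) v = cj x (cj y v) := fun x y v => Subtype.ext (by
    show ((x : X) * y) * v * ((x : X) * y)⁻¹ = (x : X) * ((y : X) * v * (y : X)⁻¹) * (x : X)⁻¹
    group)
  let gN : N := ⟨g, hgV⟩
  let aN : A → N := fun a => ⟨a, hAV a.2⟩
  have hgN : gN ^ n = 1 := Subtype.ext (by rw [SubgroupClass.coe_pow, OneMemClass.coe_one]; exact hgn)
  have hcjone : ∀ v : V, cj 1 v = v := fun v => Subtype.ext (by simp [cj])
  -- the eigenvector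
  let P : V → V := fun x => ∏ i ∈ range n, cj (gN ^ i) x ^ (s ^ i)
  have hP : ∀ x, g * (P x : X) * g⁻¹ = (P x : X) ^ s := fun x => by
    have hshift : ∏ i ∈ range n, cj (gN ^ (i + 1)) x ^ (s ^ (i + 1)) = P x := by
      let f : ℕ → V := fun i => cj (gN ^ i) x ^ (s ^ i)
      have h1 := prod_range_succ' f n
      have h2 := prod_range_succ f n
      have h0 : f n = f 0 := by simp [f, hgN, hsn, hcjone]
      rw [h2, h0] at h1
      exact (mul_right_cancel h1).symm
    have h3 : (cj gN (P x)) ^ s = P x := by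
      rw [map_prod, ← Finset.prod_zpow]
      refine (Finset.prod_congr rfl fun i _ => ?_).trans hshift
      rw [map_zpow, ← hcjmul, ← pow_succ', ← zpow_mul, ← pow_succ]
    have h4 : cj gN (P x) = (P x) ^ s := by
      conv_rhs => rw [← h3, ← zpow_mul, hs, zpow_one]
    simpa [cj, gN] using congrArg (Subtype.val : V → X) h4
  let F : V := ∏ a : A, cj (aN a) (P (cj (aN a)⁻¹ ⟨e, he⟩))
  have hF : (F : X) ∈ W := by
    refine Finset.prod_induction _ (fun v : V => (v : X) ∈ W) (fun a b => mul_mem) (one_mem W) fun a _ => ?_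
    exact heig a a.2 _ (P _).2 (hP _)
  let E : V := ⟨e, he⟩
  have hF' : F = ∏ i ∈ range n, (∏ a : A, cj (aN a * gN ^ i * (aN a)⁻¹) E) ^ (s ^ i) := by
    show ∏ a : A, cj (aN a) (∏ i ∈ range n, cj (gN ^ i) (cj (aN a)⁻¹ E) ^ (s ^ i)) = _
    simp only [map_prod, map_zpow, ← hcjmul, ← mul_assoc]
    rw [Finset.prod_comm]
    exact Finset.prod_congr rfl fun i _ => Finset.prod_zpow _ _ _
  -- the terms with `0 < i < n` are fixed by `A`
  have hA₀n : (A₀.subgroupOf A).Normal := ⟨fun x hx a => by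
    rw [mem_subgroupOf] at hx ⊢
    have := mul_mem (hcomm a a.2 x x.2) hx
    simpa [mul_assoc] using this⟩
  have hrest : ∀ i, 0 < i → i < n → ∀ b ∈ A,
      b * ((∏ a : A, cj (aN a * gN ^ i * (aN a)⁻¹) E : V) : X) =
        ((∏ a : A, cj (aN a * gN ^ i * (aN a)⁻¹) E : V) : X) * b := by
    intro i hi0 hin b hb
    let c : A → A := fun a => ⟨(a : X) * g ^ i * (a : X)⁻¹ * (g ^ i)⁻¹, by
      rw [show (a : X) * g ^ i * (a : X)⁻¹ * (g ^ i)⁻¹ = a * (g ^ i * (a : X)⁻¹ * (g ^ i)⁻¹) by group]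
      exact mul_mem a.2 (conj_normalizer_mem (pow_mem hgA i) (inv_mem a.2))⟩
    let Q := A ⧸ A₀.subgroupOf A
    have hsw : ∀ x y : A, ((x * y : A) : Q) = ((y * x : A) : Q) := fun x y => by
      rw [QuotientGroup.eq, mem_subgroupOf]
      have := hcomm _ (inv_mem y.2) _ (inv_mem x.2)
      simpa [mul_assoc] using this
    let ψ : A →* Q := MonoidHom.mk' (fun a => (c a : Q)) fun x y => by
      have e1 : c (x * y) = x * c y * x⁻¹ * c x := Subtype.ext (by
        show ((x : X) * y) * g ^ i * ((x : X) * y)⁻¹ * (g ^ i)⁻¹ =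
          (x : X) * ((y : X) * g ^ i * (y : X)⁻¹ * (g ^ i)⁻¹) * (x : X)⁻¹ *
            ((x : X) * g ^ i * (x : X)⁻¹ * (g ^ i)⁻¹)
        group)
      show (c (x * y) : Q) = (c x : Q) * (c y : Q)
      rw [e1, QuotientGroup.mk_mul, hsw, ← mul_assoc, inv_mul_cancel, one_mul,
        ← QuotientGroup.mk_mul, hsw, QuotientGroup.mk_mul]
    have hker : ψ.ker ≤ A₀.subgroupOf A := fun a ha => by
      rw [MonoidHom.mem_ker] at ha
      exact mem_subgroupOf.2 (hfpf i hi0 hin a a.2 (mem_subgroupOf.1 ((QuotientGroup.eq_one_iff (c a)).1 ha)))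
    have hsurj : Function.Surjective ψ := by
      rw [← MonoidHom.range_eq_top]
      refine eq_top_of_le_card _ ?_
      rw [← index_ker]
      exact Nat.le_of_dvd (Nat.pos_of_ne_zero index_ne_zero_of_finite) (index_dvd_of_le hker)
    obtain ⟨a₀, ha₀⟩ := hsurj ((⟨b, hb⟩ : A) : Q)
    let f : V := cj (gN ^ i) E
    let cN : A → N := fun a => aN (c a)
    have hterm : ∀ a : A, cj (aN a * gN ^ i * (aN a)⁻¹) E = cj (cN a) f := fun a => by
      rw [← hcjmul]
      congr 2
      exact Subtype.ext (by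
        show (a : X) * (gN ^ i : N) * (a : X)⁻¹ = (a : X) * g ^ i * (a : X)⁻¹ * (g ^ i)⁻¹ * (gN ^ i : N)
        rw [show ((gN ^ i : N) : X) = g ^ i from SubgroupClass.coe_pow _ _, inv_mul_cancel_right])
    simp only [hterm]
    have hcong : ∀ x y : A, (x : Q) = (y : Q) → cj (aN x) f = cj (aN y) f := fun x y hxy => by
      rw [QuotientGroup.eq, mem_subgroupOf] at hxy
      refine Subtype.ext ?_
      show (x : X) * f * (x : X)⁻¹ = (y : X) * f * (y : X)⁻¹
      have h := hA₀V _ hxy _ f.2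
      rw [Subgroup.coe_mul, Subgroup.coe_inv] at h
      calc (x : X) * f * (x : X)⁻¹ = x * ((f : X) * ((x : X)⁻¹ * y)) * (y : X)⁻¹ := by group
        _ = x * (((x : X)⁻¹ * y) * f) * (y : X)⁻¹ := by rw [h]
        _ = _ := by group
    have hb' : cj (aN ⟨b, hb⟩) (∏ a : A, cj (cN a) f) = ∏ a : A, cj (cN a) f := by
      rw [map_prod]
      refine Fintype.prod_bijective (fun a => a₀ * a) (Group.mulLeft_bijective a₀) _ _ fun a => ?_
      rw [← hcjmul]
      exact hcong (⟨b, hb⟩ * c a) (c (a₀ * a)) (by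
        show _ = ψ (a₀ * a)
        rw [map_mul, ha₀]; rfl)
    have hb'' : b * ((∏ a : A, cj (cN a) f : V) : X) * b⁻¹ = ((∏ a : A, cj (cN a) f : V) : X) :=
      congrArg (Subtype.val : V → X) hb'
    exact mul_inv_eq_iff_eq_mul.1 hb''
  obtain ⟨n, rfl⟩ : ∃ m, n = m + 1 := ⟨n - 1, by omega⟩
  rw [prod_range_succ'] at hF'
  have h0 : (∏ a : A, cj (aN a * gN ^ 0 * (aN a)⁻¹) E) ^ (s ^ 0) = E ^ Nat.card A := by
    simp [hcjone, Nat.card_eq_fintype_card]
  rw [h0] at hF'
  have hR : ((∏ i ∈ range n, (∏ a : A, cj (aN a * gN ^ (i + 1) * (aN a)⁻¹) E) ^ (s ^ (i + 1)) : V) : X) ∈ W :=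
    Finset.prod_induction _ (fun v : V => (v : X) ∈ W) (fun a b => mul_mem) (one_mem W) fun i hi => by
      rw [SubgroupClass.coe_zpow]
      exact zpow_mem (hfix _ (Subtype.coe_prop _)
        (hrest (i + 1) (by omega) (by rw [Finset.mem_range] at hi; omega))) _
  rw [hF', Subgroup.coe_mul, SubgroupClass.coe_pow] at hF
  exact (mul_mem_cancel_left hR).1 hF

/-- An element of prime order `r` acting on an elementary `l`-group has an eigenvector, if there is a
primitive `r`-th root of unity modulo `l`. -/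
theorem exists_eigen {r l : ℕ} [hr : Fact r.Prime] [hl : Fact l.Prime] {z : X} (hz : z ^ r = 1)
    {V : Subgroup X} (hV : ∀ x ∈ V, ∀ y ∈ V, x * y = y * x) (hexp : ∀ x ∈ V, x ^ l = 1)
    (hzV : z ∈ normalizer (V : Set X)) (hne : V ≠ ⊥) {j : ℕ} (hj : (j : ZMod l) ^ r = 1)
    (hj1 : (j : ZMod l) ≠ 1) : ∃ μ : ℕ, ∃ y ∈ V, y ≠ 1 ∧ z * y * z⁻¹ = y ^ μ := by
  classical
  obtain ⟨w, hw, hw1⟩ := V.bot_or_exists_ne_one.resolve_left hne
  letI : CommGroup V := { (inferInstance : Group V) with mul_comm := fun a b => Subtype.ext (hV a a.2 b b.2) }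
  let x : ℕ → V := fun i => ⟨z ^ i * w * (z ^ i)⁻¹, conj_normalizer_mem (pow_mem hzV i) hw⟩
  let φ : V →* V :=
    { toFun := fun v => ⟨z * v * z⁻¹, conj_normalizer_mem hzV v.2⟩
      map_one' := Subtype.ext (by simp)
      map_mul' := fun a b => Subtype.ext (by
        show z * ((a : X) * b) * z⁻¹ = z * a * z⁻¹ * (z * b * z⁻¹)
        group) }
  have hx : ∀ i, φ (x i) = x (i + 1) := fun i => Subtype.ext (by
    show z * (z ^ i * w * (z ^ i)⁻¹) * z⁻¹ = z ^ (i + 1) * w * (z ^ (i + 1))⁻¹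
    rw [pow_succ']; group)
  have hcast : ∀ (v : V) (a b : ℕ), (a : ZMod l) = (b : ZMod l) → v ^ a = v ^ b := fun v a b h => by
    rw [ZMod.natCast_eq_natCast_iff] at h
    refine pow_eq_pow_iff_modEq.2 (h.of_dvd ?_)
    exact orderOf_dvd_of_pow_eq_one (Subtype.ext (by simpa using hexp v v.2))
  let Y : ℕ → V := fun k => ∏ i ∈ range r, x i ^ ((j ^ k) ^ (r - 1 - i))
  have hY : ∀ k, φ (Y k) = Y k ^ (j ^ k) := fun k => by
    set J := j ^ k with hJ
    let f : ℕ → V := fun i => x i ^ (J ^ (r - i))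
    have h1 : φ (Y k) = ∏ i ∈ range r, f (i + 1) := by
      rw [map_prod]
      refine Finset.prod_congr rfl fun i _ => ?_
      show φ (x i ^ (J ^ (r - 1 - i))) = x (i + 1) ^ (J ^ (r - (i + 1)))
      rw [map_pow, hx, show r - (i + 1) = r - 1 - i by omega]
    have h2 : Y k ^ J = ∏ i ∈ range r, f i := by
      rw [← Finset.prod_pow]
      refine Finset.prod_congr rfl fun i hi => ?_
      rw [Finset.mem_range] at hi
      rw [← pow_mul, ← pow_succ, show r - 1 - i + 1 = r - i by omega]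
    have h0 : f r = f 0 := by
      show x r ^ (J ^ (r - r)) = x 0 ^ (J ^ (r - 0))
      rw [show x r = x 0 from Subtype.ext (by simp [x, hz]), Nat.sub_self, Nat.sub_zero]
      refine hcast _ _ _ ?_
      rw [hJ]; push_cast
      rw [pow_zero, ← pow_mul, mul_comm k r, pow_mul, hj, one_pow]
    have h3 := prod_range_succ' f r
    rw [prod_range_succ f r, h0] at h3
    rw [h1, h2]
    exact (mul_right_cancel h3).symm
  have hrl : r ≠ l := by
    rintro rfl
    exact hj1 (by rwa [ZMod.pow_card] at hj)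
  suffices h : ∃ k, Y k ≠ 1 by
    obtain ⟨k, hk⟩ := h
    exact ⟨j ^ k, _, (Y k).2, fun e => hk (Subtype.ext e),
      by simpa [φ] using congrArg (Subtype.val : V → X) (hY k)⟩
  by_contra! hall
  have hsum : ∀ m, ((∑ k ∈ range r, (j ^ k) ^ m : ℕ) : ZMod l) = if r ∣ m then (r : ZMod l) else 0 := by
    intro m
    push_cast
    have e : ∀ k, ((j : ZMod l) ^ k) ^ m = ((j : ZMod l) ^ m) ^ k := fun k => by
      rw [← pow_mul, ← pow_mul, mul_comm]
    simp only [e]
    split_ifs with hm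
    · obtain ⟨q, rfl⟩ := hm
      simp [pow_mul, hj]
    · have hne1 : (j : ZMod l) ^ m ≠ 1 := fun hc => by
        refine hm ?_
        have h1 := orderOf_eq_prime hj hj1
        rw [← h1]
        exact orderOf_dvd_of_pow_eq_one hc
      have h := geom_sum_mul ((j : ZMod l) ^ m) r
      rw [← pow_mul, mul_comm m r, pow_mul, hj, one_pow, sub_self] at h
      exact (mul_eq_zero.1 h).resolve_right (sub_ne_zero.2 hne1)
  have hprod : ∏ k ∈ range r, Y k = x (r - 1) ^ r := by
    show ∏ k ∈ range r, ∏ i ∈ range r, x i ^ ((j ^ k) ^ (r - 1 - i)) = _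
    rw [Finset.prod_comm, Finset.prod_eq_single (r - 1)]
    · rw [Finset.prod_pow_eq_pow_sum]
      simp
    · intro i hi hne'
      rw [Finset.mem_range] at hi
      rw [Finset.prod_pow_eq_pow_sum, ← pow_zero (x i)]
      refine hcast _ _ _ ?_
      rw [hsum, if_neg fun hd => ?_, Nat.cast_zero]
      exact absurd (Nat.le_of_dvd (by omega) hd) (by omega)
    · intro hn
      exact absurd (Finset.mem_range.2 (Nat.sub_lt hr.out.pos one_pos)) hn
  rw [Finset.prod_eq_one fun k _ => hall k] at hprod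
  have h1 : (z ^ (r - 1) * w * (z ^ (r - 1))⁻¹) ^ r = 1 := by
    simpa [x] using congrArg (Subtype.val : V → X) hprod.symm
  rw [conj_pow, mul_inv_eq_one, mul_eq_left] at h1
  exact hw1 (orderOf_eq_one_iff.1 (Nat.eq_one_of_dvd_coprimes
    ((Nat.coprime_primes hr.out hl.out).2 hrl) (orderOf_dvd_of_pow_eq_one h1)
    (orderOf_dvd_of_pow_eq_one (hexp w hw))))

end Cfsg.Agent.SEMain.Commute
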