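import Cfsg.Agent.Lib.SEMain.Commute.FinishCent
import Cfsg.Agent.Lib.SEMain.Commute.SpanFixed
import Cfsg.Agent.Lib.SEMain.ThreeCentral
import Cfsg.Agent.Lib.SEMain.FullK
import Cfsg.Agent.Lib.SEMain.HypA
import Cfsg.Agent.Lib.CN.FpfAut
import Cfsg.Agent.Lib.Solvable.Coprime

/-!
# Layers in the torus part of a two-point stabiliser

`u` exchanges the base point and `b`, `z` of prime order `r` fixes both, commutes with `u`, is fixed-point
free on the elements inverted by `u` and centralises at most one involution of `H` up to commutation.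
For an `l`-group `M` with an abelian layer `N` over `Y` the centraliser of `u` in `M` is normal with
cyclic quotient.
-/

set_option autoImplicit false
set_option linter.style.haveILetI false
set_option linter.unusedSectionVars false

namespace Cfsg.Agent.SEMain.Commute.TPart

open Subgroup MulAction

universe u

variable {G : Type u} [Group G] [Finite G]

/-- The hypotheses on `u` and `z`. -/
structure Frame (H : Subgroup G) (b : G ⧸ H) (u z : G) (r : ℕ) : Prop where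
  setting : Setting H
  weak : SETrans.Weak G (G ⧸ H) ((1 : G) : G ⧸ H)
  ne : ((1 : G) : G ⧸ H) ≠ b
  u_order : orderOf u = 2
  u_swap : u • ((1 : G) : G ⧸ H) = b
  prime : r.Prime
  ne_two : r ≠ 2
  not_dvd : ¬ r ∣ numInv H
  z_order : orderOf z = r
  z_mem : z ∈ pairStab ((1 : G) : G ⧸ H) b
  comm : z * u = u * z
  fpf : ∀ k ∈ pairStab ((1 : G) : G ⧸ H) b, u * k * u⁻¹ = k⁻¹ → z * k = k * z → k = 1
  one : ∀ s t : G, s ∈ H → t ∈ H → orderOf s = 2 → orderOf t = 2 → z * s = s * z → z * t = t * z →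
    s * t = t * s → s = t

/-! ### Elementary facts -/

/-- In an odd group a power of `g ^ 2` is `g`. -/
theorem comm_of_sq_comm {S : Subgroup G} (hS : Odd (Nat.card S)) {g x : G} (hg : g ∈ S)
    (h : g ^ 2 * x = x * g ^ 2) : g * x = x * g := by
  obtain ⟨k, hk⟩ := Invol.exists_sqrt (SEBrick.odd_order hS hg)
  have h1 : Commute ((g ^ 2) ^ k) x := (Commute.pow_left h k)
  rw [← pow_mul, mul_comm 2 k, pow_mul, hk] at h1
  exact h1.eq

theorem eq_one_of_eq_inv {S : Subgroup G} (hS : Odd (Nat.card S)) {x : G} (hx : x ∈ S) (h : x = x⁻¹) :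
    x = 1 :=
  Invol.eq_one_of_sq_of_odd (SEBrick.odd_order hS hx) (by rw [pow_two]; exact mul_eq_one_iff_eq_inv.2 h)

/-- Fixed and inverted. -/
theorem eq_one_of_fix_inv {S : Subgroup G} (hS : Odd (Nat.card S)) {u x : G} (hx : x ∈ S)
    (hf : x * u = u * x) (hi : u * x * u⁻¹ = x⁻¹) : x = 1 :=
  eq_one_of_eq_inv hS hx (by rwa [← hf, mul_inv_cancel_right] at hi)

/-- The decomposition fixed times inverted is unique. -/
theorem fix_mul_inv_unique {S : Subgroup G} (hS : Odd (Nat.card S)) {u f f' i i' : G}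
    (hf : f * u = u * f) (hf' : f' * u = u * f') (hi : i ∈ invSet u S) (hi' : i' ∈ invSet u S)
    (h : f * i = f' * i') : f = f' ∧ i = i' := by
  have hc : ∀ {g : G}, g * u = u * g → u * g * u⁻¹ = g := fun {g} hg => by
    rw [← hg, mul_inv_cancel_right]
  have h1 : f * i⁻¹ = f' * i'⁻¹ := by
    calc f * i⁻¹ = u * f * u⁻¹ * (u * i * u⁻¹) := by rw [hc hf, hi.2]
      _ = u * (f * i) * u⁻¹ := by group
      _ = u * (f' * i') * u⁻¹ := by rw [h]
      _ = u * f' * u⁻¹ * (u * i' * u⁻¹) := by group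
      _ = f' * i'⁻¹ := by rw [hc hf', hi'.2]
  have h2 : i ^ 2 = i' ^ 2 := by
    calc i ^ 2 = (f * i⁻¹)⁻¹ * (f * i) := by rw [pow_two]; group
      _ = (f' * i'⁻¹)⁻¹ * (f' * i') := by rw [h1, h]
      _ = i' ^ 2 := by rw [pow_two]; group
  obtain ⟨m, hm⟩ := hS
  have key : ∀ x ∈ S, (x ^ 2) ^ (m + 1) = x := fun x hx => by
    have h3 : x ^ Nat.card S = 1 := congrArg Subtype.val (pow_card_eq_one' (x := (⟨x, hx⟩ : S)))
    rw [← pow_mul, show 2 * (m + 1) = 2 * m + 1 + 1 by ring, pow_succ, ← hm, h3, one_mul]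
  have h4 : i = i' := by rw [← key i hi.1, h2, key i' hi'.1]
  exact ⟨by rw [h4] at h; exact mul_right_cancel h, h4⟩

theorem exists_pow_prime {l : ℕ} [Fact l.Prime] {S : Subgroup G} (hS : IsPGroup l S) {k : G} (hk : k ∈ S)
    (h1 : k ≠ 1) : orderOf (k ^ (orderOf k / l)) = l := by
  obtain ⟨n, hn⟩ := IsPGroup.iff_orderOf.1 hS ⟨k, hk⟩
  rw [Subgroup.orderOf_mk] at hn
  refine orderOf_pow_orderOf_div (orderOf_pos k).ne' ?_
  have hn0 : n ≠ 0 := fun e => h1 (orderOf_eq_one_iff.1 (by rw [hn, e, pow_zero]))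
  rw [hn]; exact dvd_pow_self l hn0

theorem mem_powers_of_zpowers {g x : G} (h : x ∈ zpowers g) : ∃ i : ℕ, g ^ i = x :=
  (Submonoid.mem_powers_iff _ _).1 (mem_powers_iff_mem_zpowers.2 h)

theorem mem_normalizer_centralizer {C : Subgroup G} {g : G} (hg : g ∈ normalizer (C : Set G)) :
    g ∈ normalizer ((centralizer (C : Set G) : Subgroup G) : Set G) :=
  SEBrick.mem_normalizer_of fun x hx => mem_centralizer_iff.2 fun c hc => by
    have h := mem_centralizer_iff.1 hx _ (SEBrick.conj_mem_of (inv_mem hg) hc)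
    rw [inv_inv] at h
    calc c * (g * x * g⁻¹) = g * (g⁻¹ * c * g * x) * g⁻¹ := by group
      _ = g * (x * (g⁻¹ * c * g)) * g⁻¹ := by rw [h]
      _ = g * x * g⁻¹ * c := by group

/-- Fixed cosets under a power generating the group. -/
theorem coset_fixed_pow {W : Subgroup G} {w a : G} (hw : w ∈ normalizer (W : Set G))
    (h : w * a * w⁻¹ * a⁻¹ ∈ W) (m : ℕ) : w ^ m * a * (w ^ m)⁻¹ * a⁻¹ ∈ W := by
  induction m with
  | zero => simp
  | succ m ih =>
    have e : w ^ (m + 1) * a * (w ^ (m + 1))⁻¹ * a⁻¹ =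
        w * (w ^ m * a * (w ^ m)⁻¹ * a⁻¹) * w⁻¹ * (w * a * w⁻¹ * a⁻¹) := by rw [pow_succ']; group
    rw [e]
    exact mul_mem (SEBrick.conj_mem_of hw ih) h

variable {H : Subgroup G} {b : G ⧸ H} {u z : G} {r : ℕ}

namespace Frame

variable (F : Frame H b u z r)
include F

theorem fact : Fact r.Prime := ⟨F.prime⟩

theorem odd_D : Odd (Nat.card (pairStab ((1 : G) : G ⧸ H) b)) := pairStab_odd F.setting.se F.ne

theorem odd_of_le {S : Subgroup G} (hS : S ≤ pairStab ((1 : G) : G ⧸ H) b) : Odd (Nat.card S) :=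
  F.odd_D.of_dvd_nat (card_dvd_of_le hS)

theorem mem_H {x : G} (hx : x ∈ pairStab ((1 : G) : G ⧸ H) b) : x ∈ H :=
  SEBrick.fix_base_iff.1 (mem_pairStab.1 hx).1

/-- An inverted element fixes exactly two points. -/
theorem only_two {k : G} (hk : k ∈ pairStab ((1 : G) : G ⧸ H) b) (hinv : u * k * u⁻¹ = k⁻¹) (h1 : k ≠ 1)
    {f : G ⧸ H} (hf : k • f = f) : f = ((1 : G) : G ⧸ H) ∨ f = b :=
  haveI : Nontrivial (G ⧸ H) := ⟨⟨_, _, F.ne⟩⟩
  F.weak.fix_pair ⟨h1, SEBrick.odd_order F.odd_D hk, u, ((1 : G) : G ⧸ H), F.u_order, hinv,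
    (mem_pairStab.1 hk).1, by rw [F.u_swap]; exact F.ne.symm⟩ (mem_pairStab.1 hk).1 (mem_pairStab.1 hk).2 hf
    F.ne

/-- An inverted element commutes with no involution of `H`. -/
theorem lonely {k t : G} (hk : k ∈ pairStab ((1 : G) : G ⧸ H) b) (hinv : u * k * u⁻¹ = k⁻¹)
    (ht : orderOf t = 2) (htH : t ∈ H) (htk : t * k = k * t) : k = 1 := by
  by_contra h1
  have hta : t • ((1 : G) : G ⧸ H) = ((1 : G) : G ⧸ H) := SEBrick.fix_base_iff.2 htH
  rcases F.only_two hk hinv h1 (f := t • b) (by rw [← mul_smul, ← htk, mul_smul, (mem_pairStab.1 hk).2])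
    with h | h
  · exact F.ne (MulAction.injective t (hta.trans h.symm))
  · exact F.ne (Invol.se_fix_unique F.setting.se ht hta h)

/-- A subgroup centralising `u` fixes three points. -/
theorem fixesThree {Y : Subgroup G} (hYD : Y ≤ pairStab ((1 : G) : G ⧸ H) b)
    (hYu : ∀ y ∈ Y, y * u = u * y) : FixesThree H Y := by
  obtain ⟨c, hc⟩ := Invol.se_exists_fix F.setting.se F.u_order
  refine ⟨((1 : G) : G ⧸ H), b, c, F.ne, fun e => F.ne ?_, fun e => F.ne ?_,
    fun y hy => mem_stabilizer_iff.2 (mem_pairStab.1 (hYD hy)).1,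
    fun y hy => mem_stabilizer_iff.2 (mem_pairStab.1 (hYD hy)).2,
    fun y hy => mem_stabilizer_iff.2 (Invol.se_fix_unique F.setting.se F.u_order
      (by rw [← mul_smul, ← hYu y hy, mul_smul, hc]) hc)⟩
  · rw [← e] at hc
    exact (MulAction.injective u (hc.trans F.u_swap.symm)).symm
  · rw [← e, F.u_swap] at hc
    exact hc.symm

theorem z_conj_fix {x : G} (h : x * u = u * x) : z * x * z⁻¹ * u = u * (z * x * z⁻¹) := by
  have hzu : Commute z u := F.comm
  exact ((hzu.mul_left h).mul_left hzu.inv_left).eq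

theorem z_conj_inv {x : G} (h : u * x * u⁻¹ = x⁻¹) : u * (z * x * z⁻¹) * u⁻¹ = (z * x * z⁻¹)⁻¹ := by
  calc u * (z * x * z⁻¹) * u⁻¹ = u * z * x * (u * z)⁻¹ := by group
    _ = z * u * x * (z * u)⁻¹ := by rw [F.comm]
    _ = z * (u * x * u⁻¹) * z⁻¹ := by group
    _ = (z * x * z⁻¹)⁻¹ := by rw [h]; group

theorem z_mem_normalizer_inf {M : Subgroup G} (hMz : z ∈ normalizer (M : Set G)) :
    z ∈ normalizer ((M ⊓ centralizer ({u} : Set G) : Subgroup G) : Set G) :=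
  SEBrick.mem_normalizer_of fun x hx => mem_inf.2 ⟨SEBrick.conj_mem_of hMz (mem_inf.1 hx).1,
    mem_centralizer_singleton_iff.2 (F.z_conj_fix (mem_centralizer_singleton_iff.1 (mem_inf.1 hx).2))⟩

/-- An element fixed by `z` is fixed by `u`. -/
theorem fix_of_z_fix {S : Subgroup G} (hSD : S ≤ pairStab ((1 : G) : G ⧸ H) b)
    (hSu : u ∈ normalizer (S : Set G)) (hSz : z ∈ normalizer (S : Set G)) {c : G} (hc : c ∈ S)
    (hzc : z * c = c * z) : c * u = u * c := by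
  obtain ⟨f, hf, i, hi, e, hfu⟩ := exists_fix_mul_inv (F.odd_of_le hSD) F.u_order hSu hc
  have h1 : z * f * z⁻¹ * (z * i * z⁻¹) = f * i := by
    calc z * f * z⁻¹ * (z * i * z⁻¹) = z * c * z⁻¹ := by rw [e]; group
      _ = f * i := by rw [hzc, mul_inv_cancel_right, e]
  obtain ⟨-, h2⟩ := fix_mul_inv_unique (F.odd_of_le hSD) (F.z_conj_fix hfu) hfu
    ⟨SEBrick.conj_mem_of hSz hi.1, F.z_conj_inv hi.2⟩ hi h1
  rw [e, F.fpf i (hSD hi.1) hi.2 (mul_inv_eq_iff_eq_mul.1 h2), mul_one]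
  exact hfu

/-- An inverted element is an `r'`-element. -/
theorem not_dvd_orderOf {k : G} (hk : k ∈ pairStab ((1 : G) : G ⧸ H) b) (hinv : u * k * u⁻¹ = k⁻¹) :
    ¬ r ∣ orderOf k := fun hd => by
  haveI := F.fact
  set k' := k ^ (orderOf k / r) with hk'
  have ho : orderOf k' = r := orderOf_pow_orderOf_div (orderOf_pos k).ne' hd
  exact F.not_dvd (dvd_numInv F.setting.se F.ne F.u_order F.u_swap (pow_mem hk _)
    (fun e => F.prime.one_lt.ne' (by rw [← ho, hk', e, orderOf_one])) (Invol.conj_pow hinv _)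
    (IsPGroup.of_card (n := 1) (by rw [Nat.card_zpowers, ho, pow_one])))

/-- A fixed coset of `z` meets the centraliser of `z`. -/
theorem exists_lift {S W : Subgroup G} (hcop : r.Coprime (Nat.card S)) (hWS : W ≤ S)
    (hSW : S ≤ normalizer (W : Set G)) (hSz : z ∈ normalizer (S : Set G))
    (hWz : z ∈ normalizer (W : Set G)) {a : G} (ha : a ∈ S) {i : ℕ} (hi0 : 0 < i) (hir : ¬ r ∣ i)
    (h : z ^ i * a * (z ^ i)⁻¹ * a⁻¹ ∈ W) : ∃ c ∈ S, z * c = c * z ∧ a⁻¹ * c ∈ W := by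
  have hz1 : z * a * z⁻¹ * a⁻¹ ∈ W := by
    have hcop' : i.Coprime (orderOf z) := by
      rw [F.z_order]; exact ((F.prime.coprime_iff_not_dvd).2 hir).symm
    obtain ⟨m, hm⟩ := exists_pow_eq_self_of_coprime hcop'
    have := coset_fixed_pow (pow_mem hWz i) h m
    rwa [hm] at this
  obtain ⟨c, hc, hac⟩ := CoprimeAct.exists_mem_centralizer (A := zpowers z) (K := S) (N := W)
    (zpowers_le.2 hSz) (by rwa [Nat.card_zpowers, F.z_order])
    (Or.inl (Group.isSolvable_of_comm fun x y => mul_comm' x y)) hWS hSW (zpowers_le.2 hWz) ha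
    (fun g hg => by
      obtain ⟨m, rfl⟩ := mem_powers_of_zpowers hg
      exact coset_fixed_pow hWz hz1 m)
  exact ⟨c, (mem_inf.1 hc).1, mem_centralizer_iff.1 (mem_inf.1 hc).2 z (mem_zpowers z), hac⟩

/-- The layer lemma. -/
theorem layer {l : ℕ} [hl : Fact l.Prime] {M N Y : Subgroup G} (hYl : IsPGroup l Y)
    (hYD : Y ≤ pairStab ((1 : G) : G ⧸ H) b) (hYu : ∀ y ∈ Y, y * u = u * y) (hY1 : Y ≠ ⊥)
    (hYz : z ∈ normalizer (Y : Set G)) (hMl : IsPGroup l M) (hMD : M ≤ pairStab ((1 : G) : G ⧸ H) b)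
    (hMu : u ∈ normalizer (M : Set G)) (hMz : z ∈ normalizer (M : Set G))
    (hMY : ∀ m ∈ M, ∀ y ∈ Y, m * y = y * m) (hNM : N ≤ M) (hNu : u ∈ normalizer (N : Set G))
    (hNz : z ∈ normalizer (N : Set G)) (hNinv : ∃ k ∈ N, u * k * u⁻¹ = k⁻¹ ∧ k ≠ 1)
    (hNc : ∀ n ∈ N, ∀ m ∈ M, n * m * n⁻¹ * m⁻¹ ∈ Y) (hNfix : ∀ n ∈ N, n * u = u * n → n ∈ Y) :
    M ≤ normalizer ((M ⊓ centralizer ({u} : Set G) : Subgroup G) : Set G) ∧
      ∃ g ∈ M, ∀ m ∈ M, ∃ c ∈ M ⊓ centralizer ({u} : Set G), ∃ i : ℕ, m = c * g ^ i := by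
  classical
  haveI := F.fact
  set a := ((1 : G) : G ⧸ H) with ha
  set D := pairStab a b with hD
  have hse := F.setting.se
  obtain ⟨k, hkN, hkinv, hk1⟩ := hNinv
  have hkD : k ∈ D := hMD (hNM hkN)
  -- the prime
  have hl2 : l ≠ 2 := fun e => hk1 (Invol.eq_one_of_sq_of_odd (SEBrick.odd_order F.odd_D hkD) (by
    have h0 := exists_pow_prime hMl (hNM hkN) hk1
    have h1 := SEBrick.odd_order F.odd_D (pow_mem hkD (orderOf k / l))
    rw [h0, e] at h1
    exact absurd h1 (by decide)))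
  set k₀ := k ^ (orderOf k / l) with hk₀
  have hk₀l : orderOf k₀ = l := exists_pow_prime hMl (hNM hkN) hk1
  have hk₀inv : u * k₀ * u⁻¹ = k₀⁻¹ := Invol.conj_pow hkinv _
  have hlr : l ≠ r := fun e => F.not_dvd_orderOf (pow_mem hkD _) hk₀inv
    (by rw [← hk₀, hk₀l, e])
  have hk₀1 : k₀ ≠ 1 := fun e => hl.out.one_lt.ne' (by rw [← hk₀l, e, orderOf_one])
  obtain ⟨y, hyY, hy1⟩ := Y.bot_or_exists_ne_one.resolve_left hY1
  set y₀ := y ^ (orderOf y / l) with hy₀
  have hy₀l : orderOf y₀ = l := exists_pow_prime hYl hyY hy1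
  have hy₀Y : y₀ ∈ Y := pow_mem hyY _
  -- the involutions centralising `Y`
  have hcomm : ∀ s t : G, s ∈ H → t ∈ H → orderOf s = 2 → orderOf t = 2 → s * y₀ = y₀ * s →
      t * y₀ = y₀ * t → s * t = t * s := fun s t hs ht hs2 ht2 hsy hty =>
    comm_of_centralizer F.setting F.weak F.ne (l := l) hy₀l (hYD hy₀Y) (z := k₀)
      (by rw [← hk₀l]; exact pow_orderOf_eq_one k₀) (pow_mem hkD _)
      (fun f hf => F.only_two (pow_mem hkD _) hk₀inv hk₀1 hf) (hMY _ (pow_mem (hNM hkN) _) _ hy₀Y)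
      hs ht hs2 ht2 hsy hty
  have hcomm' : ∀ s t : G, s ∈ H → t ∈ H → s * s = 1 → t * t = 1 → s * y₀ = y₀ * s →
      t * y₀ = y₀ * t → s * t = t * s := by
    intro s t hs ht hs2 ht2 hsy hty
    by_cases hs1 : s = 1
    · rw [hs1, one_mul, mul_one]
    by_cases ht1 : t = 1
    · rw [ht1, one_mul, mul_one]
    exact hcomm s t hs ht (Invol.order_two_of_sq hs2 hs1) (Invol.order_two_of_sq ht2 ht1) hsy hty
  let E : Subgroup G :=
    { carrier := {x | x ∈ H ∧ x * x = 1 ∧ ∀ w ∈ Y, x * w = w * x}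
      one_mem' := ⟨one_mem H, mul_one 1, fun w _ => by rw [one_mul, mul_one]⟩
      mul_mem' := fun {s t} hs ht => ⟨mul_mem hs.1 ht.1, by
        have h := hcomm' s t hs.1 ht.1 hs.2.1 ht.2.1 (hs.2.2 _ hy₀Y) (ht.2.2 _ hy₀Y)
        calc s * t * (s * t) = t * s * (s * t) := by rw [h]
          _ = t * (s * s) * t := by group
          _ = 1 := by rw [hs.2.1, mul_one, ht.2.1],
        fun w hw => (Commute.mul_left (hs.2.2 w hw) (ht.2.2 w hw)).eq⟩
      inv_mem' := fun {s} hs => ⟨inv_mem hs.1, by rw [← mul_inv_rev, hs.2.1, inv_one],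
        fun w hw => (Commute.inv_left (hs.2.2 w hw)).eq⟩ }
  have hEmem : ∀ {x : G}, x ∈ E ↔ x ∈ H ∧ x * x = 1 ∧ ∀ w ∈ Y, x * w = w * x := Iff.rfl
  have hE2 : ∀ e ∈ E, e ≠ 1 → orderOf e = 2 := fun e he h1 => Invol.order_two_of_sq (hEmem.1 he).2.1 h1
  have hEab : ∀ x ∈ E, ∀ y ∈ E, x * y = y * x := fun x hx y hy =>
    hcomm' x y (hEmem.1 hx).1 (hEmem.1 hy).1 (hEmem.1 hx).2.1 (hEmem.1 hy).2.1
      ((hEmem.1 hx).2.2 _ hy₀Y) ((hEmem.1 hy).2.2 _ hy₀Y)
  have hEconj : ∀ g ∈ H, g ∈ normalizer (Y : Set G) → g ∈ normalizer (E : Set G) := fun g hgH hgY =>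
    SEBrick.mem_normalizer_of fun x hx => hEmem.2 ⟨mul_mem (mul_mem hgH (hEmem.1 hx).1) (inv_mem hgH),
      by
        calc g * x * g⁻¹ * (g * x * g⁻¹) = g * (x * x) * g⁻¹ := by group
          _ = 1 := by rw [(hEmem.1 hx).2.1, mul_one, mul_inv_cancel],
      fun w hw => by
        have hw' : g⁻¹ * w * g ∈ Y := by
          have := SEBrick.conj_mem_of (inv_mem hgY) hw
          rwa [inv_inv] at this
        calc g * x * g⁻¹ * w = g * (x * (g⁻¹ * w * g)) * g⁻¹ := by group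
          _ = g * ((g⁻¹ * w * g) * x) * g⁻¹ := by rw [(hEmem.1 hx).2.2 _ hw']
          _ = _ := by group⟩
  have hMnY : M ≤ normalizer (Y : Set G) := fun m hm => SEBrick.mem_normalizer_of fun w hw => by
    rw [hMY m hm w hw, mul_inv_cancel_right]; exact hw
  have hME : M ≤ normalizer (E : Set G) := fun m hm => hEconj m (F.mem_H (hMD hm)) (hMnY hm)
  have hzE : z ∈ normalizer (E : Set G) := hEconj z (F.mem_H F.z_mem) hYz
  set C := M ⊓ centralizer ({u} : Set G) with hC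
  have hCz : z ∈ normalizer (C : Set G) := F.z_mem_normalizer_inf hMz
  set EC := E ⊓ centralizer (C : Set G) with hEC
  have hECab : ∀ x ∈ EC, ∀ y ∈ EC, x * y = y * x := fun x hx y hy =>
    hEab x (mem_inf.1 hx).1 y (mem_inf.1 hy).1
  have hzEC : z ∈ normalizer (EC : Set G) :=
    inf_normalizer_le_normalizer_inf (mem_inf.2 ⟨hzE, mem_normalizer_centralizer hCz⟩)
  have hNEC : N ≤ normalizer (EC : Set G) := fun n hn => SEBrick.mem_normalizer_of fun x hx => by
    refine mem_inf.2 ⟨SEBrick.conj_mem_of (hME (hNM hn)) (mem_inf.1 hx).1, mem_centralizer_iff.2 fun c hc => ?_⟩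
    have hy' : n⁻¹ * c * n * c⁻¹ ∈ Y := by
      have := hNc _ (inv_mem hn) c (mem_inf.1 hc).1
      rwa [inv_inv] at this
    have h1 : Commute x (n⁻¹ * c * n * c⁻¹ * c) :=
      Commute.mul_right ((hEmem.1 (mem_inf.1 hx).1).2.2 _ hy')
        (mem_centralizer_iff.1 (mem_inf.1 hx).2 c hc).symm
    rw [inv_mul_cancel_right] at h1
    calc c * (n * x * n⁻¹) = n * (n⁻¹ * c * n * x) * n⁻¹ := by group
      _ = n * (x * (n⁻¹ * c * n)) * n⁻¹ := by rw [h1.eq]
      _ = n * x * n⁻¹ * c := by group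
  -- a non-trivial element centralising everything fixed
  have hYC : IsPGroup l (Y ⊔ C : Subgroup G) := IsPGroup.to_sup_of_normal_left' hYl
    (hMl.to_le inf_le_left) (inf_le_left.trans hMnY)
  obtain ⟨e, he2, hea, hec⟩ := exists_invol_at_fixed F.setting F.weak hl2 hYC
    (F.fixesThree (sup_le hYD (inf_le_left.trans hMD)) fun w hw =>
      mem_centralizer_singleton_iff.1 ((sup_le (fun y hy => mem_centralizer_singleton_iff.2 (hYu y hy))
        inf_le_right : Y ⊔ C ≤ centralizer ({u} : Set G)) hw))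
    (x := a) (fun w hw => (inf_le_left : D ≤ stabilizer G a) ((sup_le hYD (inf_le_left.trans hMD)) hw))
  have heEC : e ∈ EC := mem_inf.2 ⟨hEmem.2 ⟨SEBrick.fix_base_iff.1 hea, Invol.mul_self he2,
    fun w hw => hec w (mem_sup_left hw)⟩,
    mem_centralizer_iff.2 fun c hc => (hec c (mem_sup_right hc)).symm⟩
  -- the spanning lemma
  have hNodd : Odd (Nat.card N) := F.odd_of_le (hNM.trans hMD)
  have hcopN : r.Coprime (Nat.card N) := by
    obtain ⟨n, hn⟩ := IsPGroup.iff_card.1 (hMl.to_le hNM)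
    rw [hn]
    exact ((Nat.coprime_primes F.prime hl.out).2 (Ne.symm hlr)).pow_right n
  have hNW : N ≤ normalizer ((N ⊓ Y : Subgroup G) : Set G) :=
    (le_inf le_normalizer (hNM.trans hMnY)).trans inf_normalizer_le_normalizer_inf
  have hzW : z ∈ normalizer ((N ⊓ Y : Subgroup G) : Set G) :=
    inf_normalizer_le_normalizer_inf (mem_inf.2 ⟨hNz, hYz⟩)
  have hnofix : ∀ v ∈ E, (∀ n ∈ N, n * v = v * n) → v = 1 := fun v hv h => by
    by_contra hv1
    exact hk1 (F.lonely hkD hkinv (hE2 v hv hv1) (hEmem.1 hv).1 (h k hkN).symm)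
  have hspan : ∀ V : Subgroup G, V ≤ E → N ≤ normalizer (V : Set G) → z ∈ normalizer (V : Set G) →
      ∀ W : Subgroup G, (∀ n ∈ N, ∀ w ∈ V, z * w = w * z → n * w * n⁻¹ ∈ W) → V ≤ W := by
    intro V hVE hNV hzV W hW v hv
    have h := pow_card_mem_of_eigen (A := N) (A₀ := N ⊓ Y) (W := W)
      (fun x hx y hy => hEab x (hVE hx) y (hVE hy)) hNV hzV hNz F.prime.pos
      (by rw [← F.z_order]; exact pow_orderOf_eq_one z) (s := 1) (one_mul 1) (one_pow r) inf_le_left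
      (fun x hx w hw => ((hEmem.1 (hVE hw)).2.2 x (mem_inf.1 hx).2).symm)
      (fun x hx y hy => mem_inf.2 ⟨mul_mem (mul_mem (mul_mem hx hy) (inv_mem hx)) (inv_mem hy),
        hNc x hx y (hNM hy)⟩)
      (fun i hi0 hir x hx hxi => ?_)
      (fun x hx hfix => by rw [hnofix x (hVE hx) hfix]; exact one_mem W)
      (fun n hn w hw h => hW n hn w hw (by rw [zpow_one] at h; exact mul_inv_eq_iff_eq_mul.1 h)) hv
    · have h2 : v ^ 2 = 1 := by rw [pow_two]; exact (hEmem.1 (hVE hv)).2.1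
      obtain ⟨m, hm⟩ := hNodd
      rwa [hm, pow_succ, pow_mul, h2, one_pow, one_mul] at h
    · have hz' : z ^ i * x * (z ^ i)⁻¹ * x⁻¹ ∈ N ⊓ Y := by
        have := inv_mem hxi
        simpa [mul_assoc] using this
      obtain ⟨c, hcN, hzc, hxc⟩ := F.exists_lift hcopN inf_le_left hNW hNz hzW hx hi0
        (fun hd => absurd (Nat.le_of_dvd hi0 hd) (by omega)) hz'
      have hcY : c ∈ Y := hNfix c hcN (F.fix_of_z_fix (hNM.trans hMD) hNu hNz hcN hzc)
      refine mem_inf.2 ⟨hx, ?_⟩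
      rw [show x = c * (x⁻¹ * c)⁻¹ by group]
      exact mul_mem hcY (inv_mem (mem_inf.1 hxc).2)
  -- a fixed involution, then all of `E` centralises the fixed part
  obtain ⟨v, hvEC, hv1, hvz⟩ : ∃ v ∈ EC, v ≠ 1 ∧ z * v = v * z := by
    by_contra! hno
    have h := hspan EC inf_le_left hNEC hzEC ⊥ (fun n _ w hw hzw => by
      by_cases h1 : w = 1
      · simp [h1]
      · exact absurd hzw (hno w hw h1)) heEC
    exact Invol.ne_one he2 (mem_bot.1 h)
  have hEEC : E ≤ EC := hspan E le_rfl (hNM.trans hME) hzE EC fun n hn w hw hzw => by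
    by_cases h1 : w = 1
    · simp [h1]
    · have hwv : w = v := F.one w v (hEmem.1 hw).1 (hEmem.1 (mem_inf.1 hvEC).1).1 (hE2 w hw h1)
        (hE2 v (mem_inf.1 hvEC).1 hv1) hzw hvz (hEab w hw v (mem_inf.1 hvEC).1)
      rw [hwv]
      exact SEBrick.conj_mem_of (hNEC hn) hvEC
  have hCE : ∀ c ∈ C, ∀ x ∈ E, c * x = x * c := fun c hc x hx =>
    mem_centralizer_iff.1 (mem_inf.1 (hEEC hx)).2 c hc
  -- `M` is semiregular on `E` modulo `C`
  have hsemi : ∀ m ∈ M, ∀ x ∈ E, x ≠ 1 → m * x = x * m → m ∈ C := by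
    intro m hm x hx hx1 hmx
    obtain ⟨f, hf, i, hi, e', hfu⟩ := exists_fix_mul_inv (F.odd_of_le hMD) F.u_order hMu hm
    have hfC : f ∈ C := mem_inf.2 ⟨hf, mem_centralizer_singleton_iff.2 hfu⟩
    have hix : Commute i x := by
      rw [show i = f⁻¹ * m by rw [e']; group]
      exact (Commute.inv_left (hCE f hfC x hx)).mul_left hmx
    rw [e', F.lonely (hMD hi.1) hi.2 (hE2 x hx hx1) (hEmem.1 hx).1 hix.symm.eq, mul_one]
    exact hfC
  have heE : e ∈ E := (mem_inf.1 heEC).1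
  refine ⟨fun m hm => SEBrick.mem_normalizer_of fun c hc =>
    hsemi _ (mul_mem (mul_mem hm (mem_inf.1 hc).1) (inv_mem hm)) e heE (Invol.ne_one he2) ?_, ?_⟩
  · have he' : m⁻¹ * e * m ∈ E := by
      have := SEBrick.conj_mem_of (inv_mem (hME hm)) heE
      rwa [inv_inv] at this
    calc m * c * m⁻¹ * e = m * (c * (m⁻¹ * e * m)) * m⁻¹ := by group
      _ = m * ((m⁻¹ * e * m) * c) * m⁻¹ := by rw [hCE c hc _ he']
      _ = e * (m * c * m⁻¹) := by group
  haveI : Nontrivial E := ⟨⟨⟨e, heE⟩, 1, fun h => Invol.ne_one he2 (congrArg Subtype.val h)⟩⟩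
  let cjE : M → (E →* E) := fun m =>
    { toFun := fun x => ⟨(m : G) * x * (m : G)⁻¹, SEBrick.conj_mem_of (hME m.2) x.2⟩
      map_one' := Subtype.ext (by simp)
      map_mul' := fun x y => Subtype.ext (by
        show (m : G) * ((x : G) * y) * (m : G)⁻¹ = (m : G) * x * (m : G)⁻¹ * ((m : G) * y * (m : G)⁻¹)
        group) }
  let φ : M →* MulAut E := MonoidHom.mk' (fun m => MonoidHom.toMulEquiv (cjE m) (cjE m⁻¹)
    (MonoidHom.ext fun x => Subtype.ext (by simp [cjE, mul_assoc]))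
    (MonoidHom.ext fun x => Subtype.ext (by simp [cjE, mul_assoc])))
    fun m m' => MulEquiv.ext fun x => Subtype.ext (by simp [cjE, mul_assoc])
  have hφ : ∀ (m : M) (x : E), ((φ m x : E) : G) = (m : G) * x * (m : G)⁻¹ := fun m x => rfl
  have hcyc : IsCyclic φ.range := CN.isCyclic_of_fpf
    (IsPGroup.of_surjective hMl φ.rangeRestrict (MonoidHom.rangeRestrict_surjective φ)) hl2 φ.range.subtype
    fun p hp x hx => by
      obtain ⟨m, hm⟩ := p.2
      by_contra hx1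
      have hx' : φ m x = x := by rw [hm]; exact hx
      have hmC : (m : G) ∈ C := hsemi m m.2 x x.2 (fun e => hx1 (Subtype.ext e))
        (mul_inv_eq_iff_eq_mul.1 (by rw [← hφ, hx']))
      refine hp (Subtype.ext ?_)
      rw [← hm, OneMemClass.coe_one]
      exact MulEquiv.ext fun w => Subtype.ext (by
        rw [hφ, hCE _ hmC _ w.2, mul_inv_cancel_right]; rfl)
  obtain ⟨⟨γ, g, hg⟩, hgen⟩ := hcyc.exists_generator
  refine ⟨g, g.2, fun m hm => ?_⟩
  obtain ⟨i, hi⟩ := mem_powers_of_zpowers (hgen ⟨φ ⟨m, hm⟩, ⟨m, hm⟩, rfl⟩)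
  have hi' : φ g ^ i = φ ⟨m, hm⟩ := by rw [hg]; exact congrArg Subtype.val hi
  have hk' : φ (⟨m, hm⟩ * (g ^ i)⁻¹) = 1 := by rw [map_mul, map_inv, map_pow, hi', mul_inv_cancel]
  have hmem := hsemi _ ((⟨m, hm⟩ * (g ^ i)⁻¹ : M)).2 e heE (Invol.ne_one he2) (mul_inv_eq_iff_eq_mul.1 (by
    have h := hφ (⟨m, hm⟩ * (g ^ i)⁻¹) ⟨e, heE⟩
    rw [hk'] at h
    exact h.symm))
  exact ⟨_, hmem, i, by simp⟩

end Frame

end Cfsg.Agent.SEMain.Commute.TPart
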