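import Cfsg.Agent.Lib.SEMain.Commute.PairLayer
import Mathlib.GroupTheory.SpecificGroups.Cyclic

/-!
# The prime power parts of the torus part are abelian

In the situation of `Frame`, an `l`-group of `D` generated by elements inverted by `u` is inverted by `u`;
it is cyclic if it centralises a non-trivial invariant `l`-group centralising `u`.
-/

set_option autoImplicit false
set_option linter.style.haveILetI false
set_option linter.unusedSectionVars false

namespace Cfsg.Agent.SEMain.Commute.TPart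

open Subgroup MulAction

universe u

variable {G : Type u} [Group G] [Finite G]

/-- A non-central layer over a central subgroup. -/
theorem exists_upper {l : ℕ} [Fact l.Prime] {S W : Subgroup G} (hS : IsPGroup l S) (hWS : W ≤ S)
    (hWc : ∀ w ∈ W, ∀ s ∈ S, w * s = s * w) (hne : W ≠ S) :
    ∃ n ∈ S, n ∉ W ∧ ∀ m ∈ S, n * m * n⁻¹ * m⁻¹ ∈ W := by
  haveI hn : (W.subgroupOf S).Normal := ⟨fun x hx s => by
    rw [mem_subgroupOf] at hx ⊢
    rw [Subgroup.coe_mul, Subgroup.coe_mul, Subgroup.coe_inv, ← hWc _ hx s s.2, mul_inv_cancel_right]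
    exact hx⟩
  obtain ⟨s, hs, hsW⟩ := SetLike.exists_of_lt (lt_of_le_of_ne hWS hne)
  haveI : Nontrivial (S ⧸ W.subgroupOf S) := ⟨⟨((⟨s, hs⟩ : S) : S ⧸ W.subgroupOf S), 1,
    fun e => hsW (mem_subgroupOf.1 ((QuotientGroup.eq_one_iff _).1 e))⟩⟩
  haveI := (hS.to_quotient (W.subgroupOf S)).center_nontrivial
  obtain ⟨⟨q, hq⟩, hq1⟩ := exists_ne (1 : center (S ⧸ W.subgroupOf S))
  obtain ⟨n, rfl⟩ := QuotientGroup.mk'_surjective _ q
  refine ⟨n, n.2, fun h => hq1 (Subtype.ext ((QuotientGroup.eq_one_iff n).2 (mem_subgroupOf.2 h))),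
    fun m hm => ?_⟩
  have h : ((n * ⟨m, hm⟩ * n⁻¹ * (⟨m, hm⟩ : S)⁻¹ : S) : S ⧸ W.subgroupOf S) = 1 := by
    have hc := mem_center_iff.1 hq ((⟨m, hm⟩ : S) : S ⧸ W.subgroupOf S)
    rw [QuotientGroup.mk'_apply] at hc
    simp only [QuotientGroup.mk_mul, QuotientGroup.mk_inv]
    rw [← hc, mul_inv_cancel_right, mul_inv_cancel]
  exact mem_subgroupOf.1 ((QuotientGroup.eq_one_iff _).1 h)

/-- The elements of `S` with all commutators in a central subgroup `W`. -/
def layerSub (S W : Subgroup G) (hWc : ∀ w ∈ W, ∀ s ∈ S, w * s = s * w) : Subgroup G where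
  carrier := {n | n ∈ S ∧ ∀ m ∈ S, n * m * n⁻¹ * m⁻¹ ∈ W}
  one_mem' := ⟨one_mem S, fun m _ => by simp⟩
  mul_mem' := fun {a c} ha hc => ⟨mul_mem ha.1 hc.1, fun m hm => by
    have e : a * c * m * (a * c)⁻¹ * m⁻¹ =
        a * (c * m * c⁻¹ * m⁻¹) * a⁻¹ * (a * m * a⁻¹ * m⁻¹) := by group
    rw [e, ← hWc _ (hc.2 m hm) a ha.1, mul_inv_cancel_right]
    exact mul_mem (hc.2 m hm) (ha.2 m hm)⟩
  inv_mem' := fun {a} ha => ⟨inv_mem ha.1, fun m hm => by
    have e : a⁻¹ * m * a⁻¹⁻¹ * m⁻¹ = a⁻¹ * (a * m * a⁻¹ * m⁻¹)⁻¹ * a⁻¹⁻¹ := by group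
    rw [e, ← hWc _ (inv_mem (ha.2 m hm)) a⁻¹ (inv_mem ha.1), mul_inv_cancel_right]
    exact inv_mem (ha.2 m hm)⟩

theorem mem_layerSub {S W : Subgroup G} {hWc : ∀ w ∈ W, ∀ s ∈ S, w * s = s * w} {n : G} :
    n ∈ layerSub S W hWc ↔ n ∈ S ∧ ∀ m ∈ S, n * m * n⁻¹ * m⁻¹ ∈ W := Iff.rfl

theorem layerSub_le {S W : Subgroup G} {hWc : ∀ w ∈ W, ∀ s ∈ S, w * s = s * w} :
    layerSub S W hWc ≤ S := fun _ h => (mem_layerSub.1 h).1

theorem mem_normalizer_layerSub {S W : Subgroup G} {hWc : ∀ w ∈ W, ∀ s ∈ S, w * s = s * w} {g : G}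
    (hgS : g ∈ normalizer (S : Set G)) (hgW : g ∈ normalizer (W : Set G)) :
    g ∈ normalizer ((layerSub S W hWc : Subgroup G) : Set G) :=
  SEBrick.mem_normalizer_of fun x hx => mem_layerSub.2
    ⟨SEBrick.conj_mem_of hgS (mem_layerSub.1 hx).1, fun m hm => by
      have hm' : g⁻¹ * m * g ∈ S := by
        have := SEBrick.conj_mem_of (inv_mem hgS) hm
        rwa [inv_inv] at this
      have e : g * x * g⁻¹ * m * (g * x * g⁻¹)⁻¹ * m⁻¹ =
          g * (x * (g⁻¹ * m * g) * x⁻¹ * (g⁻¹ * m * g)⁻¹) * g⁻¹ := by group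
      rw [e]
      exact SEBrick.conj_mem_of hgW ((mem_layerSub.1 hx).2 _ hm')⟩

theorem mem_normalizer_centre {S : Subgroup G} {g : G} (hg : g ∈ normalizer (S : Set G)) :
    g ∈ normalizer ((S ⊓ centralizer (S : Set G) : Subgroup G) : Set G) :=
  inf_normalizer_le_normalizer_inf (mem_inf.2 ⟨hg, mem_normalizer_centralizer hg⟩)

/-- A conjugate by `k` and by `k⁻¹` agree only if `k` commutes. -/
theorem comm_of_conj_eq {S : Subgroup G} (hS : Odd (Nat.card S)) {k c : G} (hk : k ∈ S)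
    (h : k * c * k⁻¹ = k⁻¹ * c * k) : k * c = c * k := by
  refine comm_of_sq_comm hS hk ?_
  rw [pow_two]
  calc k * k * c = k * (k * c * k⁻¹) * k := by group
    _ = k * (k⁻¹ * c * k) * k := by rw [h]
    _ = c * (k * k) := by group

/-- Fixed `c` and inverted `k` with fixed central commutator commute. -/
theorem comm_of_commutator {S : Subgroup G} (hS : Odd (Nat.card S)) {u c k : G} (hc : c ∈ S) (hk : k ∈ S)
    (hcu : c * u = u * c) (hku : u * k * u⁻¹ = k⁻¹) (hwu : (c * k * c⁻¹ * k⁻¹) * u = u * (c * k * c⁻¹ * k⁻¹))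
    (hwk : (c * k * c⁻¹ * k⁻¹) * k = k * (c * k * c⁻¹ * k⁻¹)) : c * k = k * c := by
  set w := c * k * c⁻¹ * k⁻¹ with hw
  have hcf : u * c * u⁻¹ = c := by rw [← hcu, mul_inv_cancel_right]
  have h1 : w = c * k⁻¹ * c⁻¹ * k := by
    calc w = u * w * u⁻¹ := by rw [← hwu, mul_inv_cancel_right]
      _ = u * c * u⁻¹ * (u * k * u⁻¹) * (u * c * u⁻¹)⁻¹ * (u * k * u⁻¹)⁻¹ := by rw [hw]; group
      _ = _ := by rw [hcf, hku, inv_inv]
  have h2 : w * w = 1 := by
    calc w * w = c * k⁻¹ * c⁻¹ * (k * w) := by nth_rw 1 [h1]; group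
      _ = c * k⁻¹ * c⁻¹ * (w * k) := by rw [hwk]
      _ = 1 := by rw [hw]; group
  have h3 : w = 1 := eq_one_of_eq_inv hS
    (mul_mem (mul_mem (mul_mem hc hk) (inv_mem hc)) (inv_mem hk)) (eq_inv_of_mul_eq_one_left h2)
  exact mul_inv_eq_iff_eq_mul.1 (mul_inv_eq_one.1 h3)

/-- Commuting inverted generators. -/
theorem inverted_of_comm {S : Subgroup G} {u : G} (hgen : S ≤ closure (invSet u S))
    (hc : ∀ x ∈ S, ∀ y ∈ S, x * y = y * x) : ∀ x ∈ S, u * x * u⁻¹ = x⁻¹ := by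
  suffices h : ∀ x ∈ closure (invSet u S), x ∈ S ∧ u * x * u⁻¹ = x⁻¹ from fun x hx => (h x (hgen hx)).2
  intro x hx
  induction hx using closure_induction with
  | mem x hx => exact hx
  | one => exact ⟨one_mem S, by simp⟩
  | mul x y _ _ hx hy => exact ⟨mul_mem hx.1 hy.1, by
      rw [show u * (x * y) * u⁻¹ = u * x * u⁻¹ * (u * y * u⁻¹) by group, hx.2, hy.2, ← mul_inv_rev,
        hc y hy.1 x hx.1]⟩
  | inv x _ hx => exact ⟨inv_mem hx.1, by
      rw [show u * x⁻¹ * u⁻¹ = (u * x * u⁻¹)⁻¹ by group, hx.2]⟩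

/-- A group all of whose elements are inverted is abelian. -/
theorem comm_of_inverted {S : Subgroup G} {u : G} (h : ∀ x ∈ S, u * x * u⁻¹ = x⁻¹) :
    ∀ x ∈ S, ∀ y ∈ S, x * y = y * x := fun x hx y hy => inv_injective (by
  rw [← h _ (mul_mem hx hy), show u * (x * y) * u⁻¹ = u * x * u⁻¹ * (u * y * u⁻¹) by group,
    h x hx, h y hy, mul_inv_rev])

/-- Elements of order `l` in a cyclic group. -/
theorem mem_zpowers_of_cyclic {l : ℕ} [hl : Fact l.Prime] {g x y : G} (hx : x ∈ zpowers g)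
    (hy : y ∈ zpowers g) (hxl : x ^ l = 1) (hyl : orderOf y = l) : x ∈ zpowers y := by
  classical
  by_contra hxy
  let Q := zpowers g
  haveI := Fintype.ofFinite Q
  let s : Finset Q := (Finset.range l).image fun i => (⟨y, hy⟩ : Q) ^ i
  have hs : s.card = l := by
    rw [Finset.card_image_of_injOn, Finset.card_range]
    intro i hi j hj hij
    simp only [Finset.coe_range, Set.mem_Iio] at hi hj
    have h : y ^ i = y ^ j := by simpa using congrArg Subtype.val hij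
    exact pow_injOn_Iio_orderOf (by rw [hyl]; exact hi) (by rw [hyl]; exact hj) h
  have hx' : (⟨x, hx⟩ : Q) ∉ s := fun h => by
    obtain ⟨i, -, hi⟩ := Finset.mem_image.1 h
    exact hxy ⟨i, by simpa using congrArg Subtype.val hi⟩
  have hsub : insert (⟨x, hx⟩ : Q) s ⊆ Finset.univ.filter fun a : Q => a ^ l = 1 := fun a ha => by
    refine Finset.mem_filter.2 ⟨Finset.mem_univ _, ?_⟩
    rcases Finset.mem_insert.1 ha with rfl | ha
    · exact Subtype.ext (by simpa using hxl)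
    · obtain ⟨i, -, rfl⟩ := Finset.mem_image.1 ha
      rw [← pow_mul, mul_comm, pow_mul]
      have : (⟨y, hy⟩ : Q) ^ l = 1 := Subtype.ext (by simpa [← hyl] using pow_orderOf_eq_one y)
      rw [this, one_pow]
  have h := (Finset.card_le_card hsub).trans (IsCyclic.card_pow_eq_one_le (α := Q) hl.out.pos)
  rw [Finset.card_insert_of_notMem hx', hs] at h
  omega

variable {H : Subgroup G} {b : G ⧸ H} {u z : G} {r : ℕ}

namespace Frame

variable (F : Frame H b u z r)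
include F

theorem conj_fix_mem {x : G} (h : x * u = u * x) {g : G} (hg : g = u ∨ g = z) :
    g * x * g⁻¹ * u = u * (g * x * g⁻¹) := by
  rcases hg with rfl | rfl
  · rw [← h, mul_inv_cancel_right, h]
  · exact F.z_conj_fix h

theorem inf_fix_normalizer {M : Subgroup G} {g : G} (hg : g = u ∨ g = z)
    (hM : g ∈ normalizer (M : Set G)) :
    g ∈ normalizer ((M ⊓ centralizer ({u} : Set G) : Subgroup G) : Set G) :=
  SEBrick.mem_normalizer_of fun x hx => mem_inf.2 ⟨SEBrick.conj_mem_of hM (mem_inf.1 hx).1,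
    mem_centralizer_singleton_iff.2 (F.conj_fix_mem (mem_centralizer_singleton_iff.1 (mem_inf.1 hx).2) hg)⟩

/-- A group generated by inverted elements which centralises a fixed group is cyclic. -/
theorem cyclic_of_centralizes {l : ℕ} [hl : Fact l.Prime] {P Y₀ : Subgroup G}
    (hgen : P ≤ closure (invSet u P)) (hPl : IsPGroup l P) (hPD : P ≤ pairStab ((1 : G) : G ⧸ H) b)
    (hPu : u ∈ normalizer (P : Set G)) (hPz : z ∈ normalizer (P : Set G)) (hY₀l : IsPGroup l Y₀)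
    (hY₀D : Y₀ ≤ pairStab ((1 : G) : G ⧸ H) b) (hY₀u : ∀ y ∈ Y₀, y * u = u * y) (hY₀ : Y₀ ≠ ⊥)
    (hY₀z : z ∈ normalizer (Y₀ : Set G)) (hPY : ∀ m ∈ P, ∀ y ∈ Y₀, m * y = y * m) :
    (∀ x ∈ P, u * x * u⁻¹ = x⁻¹) ∧ ∃ g ∈ P, P ≤ zpowers g := by
  by_cases hP : P = ⊥
  · subst hP
    exact ⟨fun x hx => by rw [mem_bot.1 hx]; simp, 1, one_mem _, bot_le⟩
  have hodd := F.odd_of_le hPD
  set W := P ⊓ centralizer (P : Set G) ⊓ centralizer ({u} : Set G) with hW
  have hWc : ∀ w ∈ W, ∀ s ∈ P, w * s = s * w := fun w hw s hs =>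
    (mem_centralizer_iff.1 (mem_inf.1 (mem_inf.1 hw).1).2 s hs).symm
  have hWP : W ≤ P := inf_le_left.trans inf_le_left
  have hWu : ∀ w ∈ W, w * u = u * w := fun w hw => mem_centralizer_singleton_iff.1 (mem_inf.1 hw).2
  have hWn : ∀ g : G, (g = u ∨ g = z) → g ∈ normalizer (P : Set G) → g ∈ normalizer (W : Set G) :=
    fun g hg hgP => F.inf_fix_normalizer hg (mem_normalizer_centre hgP)
  have hcent : ∀ c ∈ P, c * u = u * c → (∀ k ∈ invSet u P, c * k = k * c) → c ∈ W := fun c hc hcu h => by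
    refine mem_inf.2 ⟨mem_inf.2 ⟨hc, mem_centralizer_iff.2 fun x hx => ?_⟩, mem_centralizer_singleton_iff.2 hcu⟩
    have hle : closure (invSet u P) ≤ centralizer ({c} : Set G) := (closure_le _).2 fun k hk =>
      mem_centralizer_singleton_iff.2 (h k hk).symm
    exact mem_centralizer_singleton_iff.1 (hle (hgen hx))
  set N := layerSub P W hWc with hN
  have hNfix : ∀ n ∈ N, n * u = u * n → n ∈ W := fun n hn hnu =>
    hcent n (mem_layerSub.1 hn).1 hnu fun k hk => by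
      have hw := (mem_layerSub.1 hn).2 k hk.1
      exact comm_of_commutator hodd (mem_layerSub.1 hn).1 hk.1 hnu hk.2 (hWu _ hw) (hWc _ hw k hk.1)
  have hWne : W ≠ P := fun e => hP (eq_bot_iff.2 fun x hx => mem_bot.2 (by
    have : closure (invSet u P) ≤ (⊥ : Subgroup G) := (closure_le _).2 fun k hk =>
      mem_bot.2 (eq_one_of_fix_inv hodd hk.1 (hWu k (e.symm ▸ hk.1)) hk.2)
    exact mem_bot.1 (this (hgen hx))))
  have hNinv : ∃ k ∈ N, u * k * u⁻¹ = k⁻¹ ∧ k ≠ 1 := by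
    obtain ⟨n, hn, hnW, hnc⟩ := exists_upper hPl hWP hWc hWne
    obtain ⟨f, hf, i, hi, e, hfu⟩ := exists_fix_mul_inv (F.odd_of_le (layerSub_le.trans hPD)) F.u_order
      (mem_normalizer_layerSub hPu (hWn u (Or.inl rfl) hPu)) (mem_layerSub.2 ⟨hn, hnc⟩ : n ∈ N)
    exact ⟨i, hi.1, hi.2, fun h => hnW (by rw [e, h, mul_one]; exact hNfix f hf hfu)⟩
  have hY₀W : W ≤ normalizer (Y₀ : Set G) := fun w hw => SEBrick.mem_normalizer_of fun y hy => by
    rw [hPY w (hWP hw) y hy, mul_inv_cancel_right]; exact hy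
  obtain ⟨hnorm, g, hg, hgen'⟩ := F.layer (M := P) (N := N) (Y := Y₀ ⊔ W)
    (IsPGroup.to_sup_of_normal_left' hY₀l (hPl.to_le hWP) hY₀W) (sup_le hY₀D (hWP.trans hPD))
    (fun y hy => mem_centralizer_singleton_iff.1
      ((sup_le (fun x hx => mem_centralizer_singleton_iff.2 (hY₀u x hx)) inf_le_right :
        Y₀ ⊔ W ≤ centralizer ({u} : Set G)) hy))
    (fun e => hY₀ (le_bot_iff.1 (e ▸ (le_sup_left : Y₀ ≤ Y₀ ⊔ W))))
    (SEBrick.mem_normalizer_of fun x hx => by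
      have h : (Y₀ ⊔ W).map (MulAut.conj z).toMonoidHom ≤ Y₀ ⊔ W := by
        rw [Subgroup.map_sup]
        refine sup_le_sup ?_ ?_
        · rintro _ ⟨y, hy, rfl⟩; exact SEBrick.conj_mem_of hY₀z hy
        · rintro _ ⟨y, hy, rfl⟩; exact SEBrick.conj_mem_of (hWn z (Or.inr rfl) hPz) hy
      exact h ⟨x, hx, rfl⟩)
    hPl hPD hPu hPz
    (fun m hm y hy => mem_centralizer_singleton_iff.1
      ((sup_le (fun x hx => mem_centralizer_singleton_iff.2 (hPY m hm x hx).symm)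
        (fun w hw => mem_centralizer_singleton_iff.2 (hWc w hw m hm)) :
          Y₀ ⊔ W ≤ centralizer ({m} : Set G)) hy) |>.symm)
    layerSub_le (mem_normalizer_layerSub hPu (hWn u (Or.inl rfl) hPu))
    (mem_normalizer_layerSub hPz (hWn z (Or.inr rfl) hPz)) hNinv
    (fun n hn m hm => mem_sup_right ((mem_layerSub.1 hn).2 m hm))
    (fun n hn hnu => mem_sup_right (hNfix n hn hnu))
  have hCW : ∀ c ∈ P, c * u = u * c → c ∈ W := fun c hc hcu => hcent c hc hcu fun k hk => by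
    refine (comm_of_conj_eq hodd hk.1 ?_).symm
    have h1 := mem_centralizer_singleton_iff.1 (mem_inf.1 (SEBrick.conj_mem_of (hnorm hk.1)
      (mem_inf.2 ⟨hc, mem_centralizer_singleton_iff.2 hcu⟩))).2
    calc k * c * k⁻¹ = u * (k * c * k⁻¹) * u⁻¹ := by rw [← h1, mul_inv_cancel_right]
      _ = u * k * u⁻¹ * (u * c * u⁻¹) * (u * k * u⁻¹)⁻¹ := by group
      _ = k⁻¹ * c * k := by rw [hk.2, ← hcu, mul_inv_cancel_right, inv_inv]
  have hform : ∀ m ∈ P, ∃ c ∈ W, ∃ i : ℕ, m = c * g ^ i := fun m hm => by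
    obtain ⟨c, hc, i, hi⟩ := hgen' m hm
    exact ⟨c, hCW c (mem_inf.1 hc).1 (mem_centralizer_singleton_iff.1 (mem_inf.1 hc).2), i, hi⟩
  have hinv : ∀ x ∈ P, u * x * u⁻¹ = x⁻¹ := inverted_of_comm hgen fun x hx y hy => by
    obtain ⟨c, hc, i, rfl⟩ := hform x hx
    obtain ⟨d, hd, j, rfl⟩ := hform y hy
    have h1 : Commute (c * g ^ i) d := (hWc d hd _ hx).symm
    have h2 : Commute (c * g ^ i) (g ^ j) :=
      (Commute.mul_left (hWc c hc _ (pow_mem hg j)) (Commute.pow_pow_self g i j))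
    exact (h1.mul_right h2).eq
  refine ⟨hinv, g, hg, fun m hm => ?_⟩
  obtain ⟨c, hc, i, rfl⟩ := hform m hm
  rw [eq_one_of_fix_inv hodd (hWP hc) (hWu c hc) (hinv c (hWP hc)), one_mul]
  exact pow_mem (mem_zpowers g) i

end Frame

end Cfsg.Agent.SEMain.Commute.TPart
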