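import Cfsg.Agent.Lib.SEMain.Commute.TCore
import Cfsg.Agent.Lib.Solvable.Coprime

/-!
# The subgroup generated by the inverted elements is abelian

A descending induction over normal invariant subgroups containing the commutator subgroup: modulo the
`p`-th powers the invariant Sylow subgroups for the other primes are central.
-/

set_option autoImplicit false
set_option linter.style.haveILetI false
set_option linter.unusedSectionVars false

namespace Cfsg.Agent.SEMain.Commute.TPart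

open Subgroup MulAction
open scoped commutatorElement

universe u

variable {G : Type u} [Group G] [Finite G]

/-- The elements of `T` commuting modulo `N` with `B`. -/
def commTo (T N : Subgroup G) (B : Set G) (hT : T ≤ normalizer (N : Set G)) : Subgroup G where
  carrier := {a | a ∈ T ∧ ∀ c ∈ B, a * c * a⁻¹ * c⁻¹ ∈ N}
  one_mem' := ⟨one_mem T, fun c _ => by simp⟩
  mul_mem' := fun {a a'} ha ha' => ⟨mul_mem ha.1 ha'.1, fun c hc => by
    rw [show a * a' * c * (a * a')⁻¹ * c⁻¹ = a * (a' * c * a'⁻¹ * c⁻¹) * a⁻¹ * (a * c * a⁻¹ * c⁻¹) by group]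
    exact mul_mem (SEBrick.conj_mem_of (hT ha.1) (ha'.2 c hc)) (ha.2 c hc)⟩
  inv_mem' := fun {a} ha => ⟨inv_mem ha.1, fun c hc => by
    rw [show a⁻¹ * c * a⁻¹⁻¹ * c⁻¹ = a⁻¹ * (a * c * a⁻¹ * c⁻¹)⁻¹ * a⁻¹⁻¹ by group]
    exact SEBrick.conj_mem_of (hT (inv_mem ha.1)) (inv_mem (ha.2 c hc))⟩

theorem mem_commTo {T N : Subgroup G} {B : Set G} {hT : T ≤ normalizer (N : Set G)} {a : G} :
    a ∈ commTo T N B hT ↔ a ∈ T ∧ ∀ c ∈ B, a * c * a⁻¹ * c⁻¹ ∈ N := Iff.rfl

/-- A proper invariant subgroup of a solvable group with elementary abelian quotient. -/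
theorem exists_elementary_step {N₀ : Subgroup G} [Group.IsSolvable N₀] (h : N₀ ≠ ⊥) :
    ∃ p : ℕ, p.Prime ∧ p ∣ Nat.card N₀ ∧ ∃ N₁ : Subgroup G, N₁ ≤ N₀ ∧ N₁ ≠ N₀ ∧
      (∀ g ∈ normalizer (N₀ : Set G), g ∈ normalizer (N₁ : Set G)) ∧
      (∀ x ∈ N₀, ∀ y ∈ N₀, x * y * x⁻¹ * y⁻¹ ∈ N₁) ∧ ∀ x ∈ N₀, x ^ p ∈ N₁ := by
  classical
  haveI : Nontrivial N₀ := (nontrivial_iff_ne_bot N₀).2 h
  let Ab := Abelianization N₀
  haveI : Nontrivial Ab :=
    QuotientGroup.nontrivial_iff.2 (Group.IsSolvable.commutator_lt_top_of_nontrivial N₀).ne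
  haveI : Finite Ab := Quotient.finite _
  obtain ⟨p, hp, hdvd⟩ := Nat.exists_prime_and_dvd (Finite.one_lt_card (α := Ab)).ne'
  haveI := Fact.mk hp
  let P : Ab →* Ab := powMonoidHom p
  obtain ⟨a, ha⟩ := exists_prime_orderOf_dvd_card' p hdvd
  have hns : P.range ≠ ⊤ := fun e => by
    have hinj := Finite.injective_iff_surjective.2 (MonoidHom.range_eq_top.1 e)
    have : a = 1 := hinj (by simp [P, ← ha, pow_orderOf_eq_one])
    rw [this, orderOf_one] at ha
    exact hp.one_lt.ne ha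
  let φ : N₀ →* Ab ⧸ P.range := (QuotientGroup.mk' P.range).comp Abelianization.of
  refine ⟨p, hp, hdvd.trans (Subgroup.card_quotient_dvd_card _),
    ⁅N₀, N₀⁆ ⊔ closure ((fun x => x ^ p) '' (N₀ : Set G)), ?_, ?_, ?_, ?_, ?_⟩
  · refine sup_le (commutator_le.2 fun x hx y hy => ?_) ((closure_le _).2 ?_)
    · exact mul_mem (mul_mem (mul_mem hx hy) (inv_mem hx)) (inv_mem hy)
    · rintro _ ⟨x, hx, rfl⟩; exact pow_mem hx p
  · intro e
    have hle : ⁅N₀, N₀⁆ ⊔ closure ((fun x => x ^ p) '' (N₀ : Set G)) ≤ φ.ker.map N₀.subtype := by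
      refine sup_le (commutator_le.2 fun x hx y hy => ⟨⁅(⟨x, hx⟩ : N₀), (⟨y, hy⟩ : N₀)⁆, ?_, rfl⟩)
        ((closure_le _).2 ?_)
      · rw [SetLike.mem_coe, MonoidHom.mem_ker, map_commutatorElement]
        exact commutatorElement_eq_one_iff_mul_comm.2 (mul_comm _ _)
      · rintro _ ⟨x, hx, rfl⟩
        refine ⟨⟨x, hx⟩ ^ p, ?_, rfl⟩
        rw [SetLike.mem_coe, MonoidHom.mem_ker]
        show QuotientGroup.mk' P.range (Abelianization.of (⟨x, hx⟩ ^ p)) = 1
        rw [QuotientGroup.mk'_apply, QuotientGroup.eq_one_iff, map_pow]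
        exact ⟨Abelianization.of ⟨x, hx⟩, rfl⟩
    rw [e] at hle
    refine hns ((eq_top_iff' _).2 fun q => ?_)
    obtain ⟨x, rfl⟩ := QuotientGroup.mk'_surjective _ q
    obtain ⟨x', hx', hxe⟩ := hle x.2
    have : x' = x := Subtype.ext hxe
    subst this
    rw [SetLike.mem_coe, MonoidHom.mem_ker] at hx'
    exact (QuotientGroup.eq_one_iff _).1 hx'
  · intro g hg
    refine SEBrick.mem_normalizer_of fun x hx => ?_
    have hle : (⁅N₀, N₀⁆ ⊔ closure ((fun x => x ^ p) '' (N₀ : Set G))).map (MulAut.conj g).toMonoidHom ≤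
        ⁅N₀, N₀⁆ ⊔ closure ((fun x => x ^ p) '' (N₀ : Set G)) := by
      have hmap : N₀.map (MulAut.conj g).toMonoidHom ≤ N₀ := by
        rintro _ ⟨y, hy, rfl⟩; exact SEBrick.conj_mem_of hg hy
      rw [Subgroup.map_sup, map_commutator, MonoidHom.map_closure]
      refine sup_le_sup (commutator_mono hmap hmap) (closure_mono ?_)
      rintro _ ⟨_, ⟨y, hy, rfl⟩, rfl⟩
      exact ⟨g * y * g⁻¹, SEBrick.conj_mem_of hg hy, (map_pow (MulAut.conj g).toMonoidHom y p).symm⟩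
    exact hle ⟨x, hx, rfl⟩
  · exact fun x hx y hy => mem_sup_left (commutator_mem_commutator hx hy)
  · exact fun x hx => mem_sup_right (subset_closure ⟨x, hx, rfl⟩)

variable {H : Subgroup G} {b : G ⧸ H} {u z : G} {r : ℕ}

namespace Frame

variable (F : Frame H b u z r)
include F

/-- The powers of `u * z`. -/
theorem uz_facts : (u * z) ^ r = u ∧ orderOf (u * z) = 2 * r ∧ z ∈ zpowers (u * z) ∧ u ∈ zpowers (u * z) := by
  have hcu : Commute u z := F.comm.symm
  have h1 : (u * z) ^ r = u := by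
    obtain ⟨t, ht⟩ := F.prime.odd_of_ne_two F.ne_two
    rw [hcu.mul_pow, ← F.z_order, pow_orderOf_eq_one, mul_one, F.z_order, ht, pow_succ, pow_mul, pow_two,
      Invol.mul_self F.u_order, one_pow, one_mul]
  have h2 : orderOf (u * z) = 2 * r := by
    rw [hcu.orderOf_mul_eq_mul_orderOf_of_coprime
      (by rw [F.u_order, F.z_order]; exact (Nat.coprime_primes Nat.prime_two F.prime).2 F.ne_two.symm),
      F.u_order, F.z_order]
  have hu : u ∈ zpowers (u * z) := by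
    have := pow_mem (mem_zpowers (u * z)) r
    rwa [h1] at this
  refine ⟨h1, h2, ?_, hu⟩
  have := mul_mem (inv_mem hu) (mem_zpowers (u * z))
  rwa [inv_mul_cancel_left] at this

/-- Elements of a fixed-inverted group centralise an elementary section. -/
theorem section_centralized {T N₀ N₁ Q : Subgroup G} (hTD : T ≤ pairStab ((1 : G) : G ⧸ H) b)
    (hcopT : r.Coprime (Nat.card T)) (hN₀T : N₀ ≤ T) (hN₁₀ : N₁ ≤ N₀)
    (hTN₀ : T ≤ normalizer (N₀ : Set G)) (hTN₁ : T ≤ normalizer (N₁ : Set G))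
    (huN₀ : u ∈ normalizer (N₀ : Set G)) (huN₁ : u ∈ normalizer (N₁ : Set G))
    (hzN₀ : z ∈ normalizer (N₀ : Set G)) (hzN₁ : z ∈ normalizer (N₁ : Set G)) {p : ℕ} [hp : Fact p.Prime]
    (hpd : p ∣ Nat.card N₀)
    (hab : ∀ x ∈ N₀, ∀ y ∈ N₀, x * y * x⁻¹ * y⁻¹ ∈ N₁) (hpow : ∀ x ∈ N₀, x ^ p ∈ N₁)
    (hQT : Q ≤ T) (hQu : u ∈ normalizer (Q : Set G)) (hQz : z ∈ normalizer (Q : Set G))
    (hQinv : ∀ a ∈ Q, u * a * u⁻¹ = a⁻¹) (hQp : ¬ p ∣ Nat.card Q) :
    ∀ a ∈ Q, ∀ x ∈ N₀, a * x * a⁻¹ * x⁻¹ ∈ N₁ := by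
  classical
  intro a ha x hx
  set X := normalizer (N₁ : Set G) with hX
  haveI hXn : (N₁.subgroupOf X).Normal := ⟨fun w hw g => by
    rw [mem_subgroupOf] at hw ⊢
    exact SEBrick.conj_mem_of g.2 hw⟩
  let π : X →* X ⧸ N₁.subgroupOf X := QuotientGroup.mk' _
  have hπ1 : ∀ w : X, π w = 1 ↔ (w : G) ∈ N₁ := fun w => by
    rw [show π w = ((w : X ⧸ N₁.subgroupOf X)) from rfl, QuotientGroup.eq_one_iff, mem_subgroupOf]
  obtain ⟨hgr, hgo, -, -⟩ := F.uz_facts
  have hcu : Commute u z := F.comm.symm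
  have hX0 : N₀ ≤ X := hN₀T.trans hTN₁
  have hXQ : Q ≤ X := hQT.trans hTN₁
  let g : X := ⟨u * z, mul_mem huN₁ hzN₁⟩
  set V := (N₀.subgroupOf X).map π with hV
  set A := (Q.subgroupOf X).map π with hA
  have hnorm : ∀ (L : Subgroup G) (w : X), (w : G) ∈ normalizer (L : Set G) →
      π w ∈ normalizer (((L.subgroupOf X).map π : Subgroup _) : Set (X ⧸ N₁.subgroupOf X)) :=
    fun L w hw => SEBrick.mem_normalizer_of fun q hq => by
      obtain ⟨m, hm, rfl⟩ := hq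
      exact ⟨w * m * w⁻¹, mem_subgroupOf.2 (SEBrick.conj_mem_of hw (mem_subgroupOf.1 hm)), by simp⟩
  have hVc : ∀ v ∈ V, ∀ w ∈ V, v * w = w * v := by
    rintro _ ⟨v, hv, rfl⟩ _ ⟨w, hw, rfl⟩
    exact mul_inv_eq_iff_eq_mul.1 (mul_inv_eq_one.1
      (by rw [← map_inv, ← map_inv, ← map_mul, ← map_mul, ← map_mul, hπ1]; exact hab _ hv _ hw))
  have hVp : ∀ v ∈ V, v ^ p = 1 := by
    rintro _ ⟨v, hv, rfl⟩
    rw [← map_pow, hπ1, SubgroupClass.coe_pow]
    exact hpow _ hv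
  have hp2 : p ≠ 2 := by
    rintro rfl
    exact Nat.not_even_iff_odd.2 (F.odd_of_le (hN₀T.trans hTD)) (even_iff_two_dvd.2 hpd)
  have hQo := F.odd_of_le (hQT.trans hTD)
  have hcopA : p.Coprime (Nat.card A) := by
    refine Nat.Coprime.coprime_dvd_right ?_ (hp.out.coprime_iff_not_dvd.2 hQp)
    have h1 := card_map_dvd (Q.subgroupOf X) π
    rwa [Nat.card_congr (subgroupOfEquivOfLe hXQ).toEquiv] at h1
  have key : π ⟨x, hX0 hx⟩ ^ Nat.card A ∈ centralizer (A : Set _) := by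
    refine pow_card_mem_of_eigen (V := V) (A₀ := ⊥) (g := π g) (n := 2 * r) hVc ?_ (hnorm N₀ g (mul_mem huN₀ hzN₀))
      (hnorm Q g (mul_mem hQu hQz)) (Nat.mul_pos two_pos F.prime.pos) ?_ (s := -1) (by norm_num)
      (by rw [pow_mul]; norm_num) bot_le (fun w hw v _ => by rw [mem_bot.1 hw, one_mul, mul_one]) ?_ ?_
      (fun v _ hfix => mem_centralizer_iff.2 hfix) ?_ ⟨⟨x, hX0 hx⟩, hx, rfl⟩
    · rintro _ ⟨w, hw, rfl⟩
      exact hnorm N₀ w (hTN₀ (hQT hw))
    · rw [← map_pow, show g ^ (2 * r) = 1 from Subtype.ext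
        (by rw [SubgroupClass.coe_pow, OneMemClass.coe_one, ← hgo]; exact pow_orderOf_eq_one _), map_one]
    · rintro _ ⟨c, hc, rfl⟩ _ ⟨d, hd, rfl⟩
      rw [mem_bot, ← map_inv, ← map_inv, ← map_mul, ← map_mul, ← map_mul, hπ1]
      show (c : G) * d * (c : G)⁻¹ * (d : G)⁻¹ ∈ N₁
      rw [comm_of_inverted hQinv (c : G) (mem_subgroupOf.1 hc) (d : G) (mem_subgroupOf.1 hd)]
      simp
    · rintro i hi0 hi2 _ ⟨c, hc, rfl⟩ hci
      rw [mem_bot] at hci ⊢
      have hci' : π g ^ i * π c * (π g ^ i)⁻¹ * (π c)⁻¹ = 1 := by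
        have := congrArg (·⁻¹) hci
        simpa [mul_assoc] using this
      rw [hπ1]
      by_cases hri : r ∣ i
      · obtain ⟨m, rfl⟩ := hri
        have hm : m = 1 := by
          rcases m with _ | _ | m
          · simp at hi0
          · rfl
          · exfalso
            have h' : r * 2 ≤ r * (m + 1 + 1) := Nat.mul_le_mul le_rfl (by omega)
            omega
        subst hm
        rw [mul_one, ← map_pow, ← map_inv, ← map_mul, ← map_inv, ← map_mul, ← map_mul, hπ1] at hci'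
        simp only [Subgroup.coe_mul, Subgroup.coe_inv, SubgroupClass.coe_pow] at hci'
        change (u * z) ^ r * (c : G) * ((u * z) ^ r)⁻¹ * (c : G)⁻¹ ∈ N₁ at hci'
        rw [hgr, hQinv (c : G) (mem_subgroupOf.1 hc)] at hci'
        obtain ⟨k, hk⟩ := Invol.exists_sqrt (SEBrick.odd_order hQo (x := (c : G)) (mem_subgroupOf.1 hc))
        rw [← hk, ← pow_mul, mul_comm, pow_mul, pow_two, ← inv_inv ((c : G) * c), mul_inv_rev]
        exact pow_mem (inv_mem hci') k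
      · have hcomm2 : π g ^ (2 * i) * π c * (π g ^ (2 * i))⁻¹ * (π c)⁻¹ = 1 := by
          have hC : Commute (π g ^ i) (π c) := mul_inv_eq_iff_eq_mul.1 (mul_inv_eq_one.1 hci')
          rw [two_mul, pow_add, (hC.mul_left hC).eq]; group
        rw [← map_pow, ← map_inv, ← map_mul, ← map_inv, ← map_mul, ← map_mul, hπ1] at hcomm2
        simp only [Subgroup.coe_mul, Subgroup.coe_inv, SubgroupClass.coe_pow] at hcomm2
        change (u * z) ^ (2 * i) * (c : G) * ((u * z) ^ (2 * i))⁻¹ * (c : G)⁻¹ ∈ N₁ at hcomm2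
        rw [hcu.mul_pow, pow_mul u, pow_two, Invol.mul_self F.u_order, one_pow, one_mul] at hcomm2
        obtain ⟨d, hd, hzd, hcd⟩ := F.exists_lift (S := Q) (W := Q ⊓ N₁)
          (hcopT.coprime_dvd_right (card_dvd_of_le hQT)) inf_le_left
          ((le_inf le_normalizer (hQT.trans hTN₁)).trans inf_normalizer_le_normalizer_inf) hQz
          (inf_normalizer_le_normalizer_inf (mem_inf.2 ⟨hQz, hzN₁⟩)) hc (i := 2 * i) (by omega)
          (fun h => (F.prime.dvd_mul.1 h).elim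
            (fun h2 => F.ne_two ((Nat.prime_dvd_prime_iff_eq F.prime Nat.prime_two).1 h2)) hri)
          (mem_inf.2 ⟨mul_mem (SEBrick.conj_mem_of (pow_mem hQz _) hc) (inv_mem hc), hcomm2⟩)
        have hd1 : d = 1 := F.fpf d (hTD (hQT hd)) (hQinv d hd) hzd
        rw [hd1, mul_one] at hcd
        exact inv_mem_iff.1 (mem_inf.1 hcd).2
    · rintro _ - _ ⟨w, hw, rfl⟩ hgw
      rw [zpow_neg, zpow_one] at hgw
      suffices h : π w = 1 by simp [h]
      have hg2 : π (g * g * w * (g * g)⁻¹ * w⁻¹) = 1 := by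
        simp only [map_mul, map_inv]
        calc π g * π g * π w * (π g * π g)⁻¹ * (π w)⁻¹ =
            π g * (π g * π w * (π g)⁻¹) * (π g)⁻¹ * (π w)⁻¹ := by group
          _ = π g * (π w)⁻¹ * (π g)⁻¹ * (π w)⁻¹ := by rw [hgw]
          _ = (π g * π w * (π g)⁻¹)⁻¹ * (π w)⁻¹ := by group
          _ = 1 := by rw [hgw]; group
      rw [hπ1] at hg2
      simp only [Subgroup.coe_mul, Subgroup.coe_inv] at hg2
      change u * z * (u * z) * (w : G) * (u * z * (u * z))⁻¹ * (w : G)⁻¹ ∈ N₁ at hg2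
      rw [← pow_two, hcu.mul_pow, pow_two u, Invol.mul_self F.u_order, one_mul] at hg2
      obtain ⟨c, hc, hzc, hwc⟩ := F.exists_lift (S := N₀) (W := N₁)
        (hcopT.coprime_dvd_right (card_dvd_of_le hN₀T)) hN₁₀ (hN₀T.trans hTN₁) hzN₀ hzN₁ hw two_pos
        (fun h => F.ne_two ((Nat.prime_dvd_prime_iff_eq F.prime Nat.prime_two).1 h)) hg2
      have hfix := F.fix_of_z_fix (hN₀T.trans hTD) huN₀ hzN₀ hc hzc
      have hwe : π w = π ⟨c, hX0 hc⟩ := inv_mul_eq_one.1 (by rw [← map_inv, ← map_mul, hπ1]; exact hwc)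
      have hgc : g * ⟨c, hX0 hc⟩ * g⁻¹ = (⟨c, hX0 hc⟩ : X) := Subtype.ext (by
        show u * z * c * (u * z)⁻¹ = c
        rw [show u * z * c * (u * z)⁻¹ = u * (z * c * z⁻¹) * u⁻¹ by group, hzc, mul_inv_cancel_right, ← hfix,
          mul_inv_cancel_right])
      have h2 : π w = (π w)⁻¹ := by
        rw [← hgw, hwe, ← map_inv, ← map_mul, ← map_mul, hgc]
      exact Invol.eq_one_of_sq_of_odd ((hp.out.odd_of_ne_two hp2).of_dvd_nat
        (orderOf_dvd_of_pow_eq_one (hVp _ ⟨w, hw, rfl⟩)))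
        (by rw [pow_two]; exact mul_eq_one_iff_eq_inv.2 h2)
  have hxp : π ⟨x, hX0 hx⟩ ∈ centralizer (A : Set _) := by
    have hcop' : (Nat.card A).Coprime (orderOf (π ⟨x, hX0 hx⟩)) :=
      hcopA.symm.coprime_dvd_right (orderOf_dvd_of_pow_eq_one (hVp _ ⟨_, hx, rfl⟩))
    obtain ⟨m, hm⟩ := exists_pow_eq_self_of_coprime hcop'
    rw [← hm]
    exact pow_mem key m
  have h := mem_centralizer_iff.1 hxp (π ⟨a, hXQ ha⟩) ⟨_, ha, rfl⟩
  have h' : π (⟨a, hXQ ha⟩ * ⟨x, hX0 hx⟩ * (⟨a, hXQ ha⟩ : X)⁻¹ * (⟨x, hX0 hx⟩ : X)⁻¹) = 1 := by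
    simp only [map_mul, map_inv]
    rw [h]; group
  exact (hπ1 _).1 h'

/-- One step down. -/
theorem derived_step {T N₀ : Subgroup G} (hTgen : T = closure (invSet u (pairStab ((1 : G) : G ⧸ H) b)))
    (hN₀T : N₀ ≤ T) (hTN₀ : T ≤ normalizer (N₀ : Set G)) (huN₀ : u ∈ normalizer (N₀ : Set G))
    (hzN₀ : z ∈ normalizer (N₀ : Set G)) (hcomm : ∀ a ∈ T, ∀ c ∈ T, a * c * a⁻¹ * c⁻¹ ∈ N₀)
    (hne : N₀ ≠ ⊥) :
    ∃ N₁ : Subgroup G, N₁ < N₀ ∧ T ≤ normalizer (N₁ : Set G) ∧ u ∈ normalizer (N₁ : Set G) ∧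
      z ∈ normalizer (N₁ : Set G) ∧ ∀ a ∈ T, ∀ c ∈ T, a * c * a⁻¹ * c⁻¹ ∈ N₁ := by
  classical
  haveI := F.fact
  set D := pairStab ((1 : G) : G ⧸ H) b with hD
  have hTD : T ≤ D := hTgen ▸ (closure_le _).2 fun k hk => hk.1
  have hcopT : r.Coprime (Nat.card T) := hTgen ▸ F.coprime_invGen
  have hTo := F.odd_of_le hTD
  have hTn : ∀ g : G, (g = u ∨ g = z) → g ∈ normalizer (T : Set G) := fun g hg =>
    SEBrick.mem_normalizer_of fun x hx => by
      have hgD : g ∈ normalizer (D : Set G) := by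
        rcases hg with rfl | rfl
        · exact F.u_mem_normalizer
        · exact le_normalizer F.z_mem
      have hle : T.map (MulAut.conj g).toMonoidHom ≤ T := by
        rw [hTgen, MonoidHom.map_closure]
        refine closure_mono ?_
        rintro _ ⟨k, hk, rfl⟩
        refine ⟨SEBrick.conj_mem_of hgD hk.1, ?_⟩
        show u * (g * k * g⁻¹) * u⁻¹ = (g * k * g⁻¹)⁻¹
        rcases hg with rfl | rfl
        · rw [hk.2, show g * k⁻¹ * g⁻¹ = (g * k * g⁻¹)⁻¹ by group, hk.2]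
        · exact F.z_conj_inv hk.2
      exact hle ⟨x, hx, rfl⟩
  -- fixed elements of `T` lie in `N₀`
  have hinvmod : ∀ t ∈ T, u * t * u⁻¹ * t ∈ N₀ := by
    intro t ht
    have hsub : ∀ t ∈ closure (invSet u D), t ∈ T ∧ u * t * u⁻¹ * t ∈ N₀ := by
      intro t ht
      induction ht using closure_induction with
      | mem k hk => exact ⟨hTgen ▸ subset_closure hk, by rw [hk.2, inv_mul_cancel]; exact one_mem _⟩
      | one => exact ⟨one_mem T, by simp⟩
      | mul s t _ _ hs ht =>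
        have hs' : s ∈ T := hs.1
        have ht' : u * t * u⁻¹ ∈ T := SEBrick.conj_mem_of (hTn u (Or.inl rfl)) ht.1
        refine ⟨mul_mem hs.1 ht.1, ?_⟩
        rw [show u * (s * t) * u⁻¹ * (s * t) = u * s * u⁻¹ * s *
          (s⁻¹ * (u * t * u⁻¹) * s⁻¹⁻¹ * (u * t * u⁻¹)⁻¹) * (u * t * u⁻¹ * t) by group]
        exact mul_mem (mul_mem hs.2 (hcomm _ (inv_mem hs') _ ht')) ht.2
      | inv t _ ht =>
        refine ⟨inv_mem ht.1, ?_⟩
        rw [show u * t⁻¹ * u⁻¹ * t⁻¹ = (t * (u * t * u⁻¹ * t) * t⁻¹)⁻¹ by group]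
        exact inv_mem (SEBrick.conj_mem_of (hTN₀ ht.1) ht.2)
    exact (hsub t (hTgen ▸ ht)).2
  have hfixN₀ : ∀ f ∈ T, f * u = u * f → f ∈ N₀ := fun f hf hfu => by
    have h := hinvmod f hf
    rw [← hfu, mul_inv_cancel_right, ← pow_two] at h
    obtain ⟨k, hk⟩ := Invol.exists_sqrt (SEBrick.odd_order hTo hf)
    rw [← hk, ← pow_mul, mul_comm, pow_mul]
    exact pow_mem h k
  haveI : Group.IsSolvable N₀ := OddChar.oddSolvable N₀ (F.odd_of_le (hN₀T.trans hTD))
  obtain ⟨p, hp, hpd, N₁, hN₁₀, hN₁ne, hnorm₁, hab, hpow⟩ := exists_elementary_step hne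
  haveI := Fact.mk hp
  have hTN₁ : T ≤ normalizer (N₁ : Set G) := fun g hg => hnorm₁ g (hTN₀ hg)
  have huN₁ := hnorm₁ u huN₀
  have hzN₁ := hnorm₁ z hzN₀
  refine ⟨N₁, lt_of_le_of_ne hN₁₀ hN₁ne, hTN₁, huN₁, hzN₁, ?_⟩
  set Z1 := commTo T N₁ (T : Set G) hTN₁ with hZ1
  obtain ⟨-, hgo, hzA, huA⟩ := F.uz_facts
  have hA : zpowers (u * z) ≤ normalizer (T : Set G) :=
    zpowers_le.2 (mul_mem (hTn u (Or.inl rfl)) (hTn z (Or.inr rfl)))
  have hcop : (Nat.card (zpowers (u * z))).Coprime (Nat.card T) := by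
    rw [Nat.card_zpowers, hgo]
    exact (Nat.coprime_two_left.2 hTo).mul_left hcopT
  have hsolv : Group.IsSolvable (zpowers (u * z)) ∨ Group.IsSolvable T :=
    Or.inl (Group.isSolvable_of_comm fun x y => mul_comm' x y)
  have hQfacts : ∀ (q : ℕ), q.Prime → ∀ S : Subgroup G, IsPGroup q S → S ≤ T →
      u ∈ normalizer (S : Set G) → z ∈ normalizer (S : Set G) →
      closure (invSet u S) ≤ S ∧ ∀ a ∈ closure (invSet u S), u * a * u⁻¹ = a⁻¹ := by
    intro q hq S hS hST hSu hSz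
    haveI := Fact.mk hq
    have hle : closure (invSet u S) ≤ S := (closure_le _).2 fun k hk => hk.1
    have hn : ∀ g : G, (g = u ∨ g = z) → g ∈ normalizer (S : Set G) →
        g ∈ normalizer ((closure (invSet u S) : Subgroup G) : Set G) := fun g hg hgS =>
      SEBrick.mem_normalizer_of fun x hx => by
        have hle' : (closure (invSet u S)).map (MulAut.conj g).toMonoidHom ≤ closure (invSet u S) := by
          rw [MonoidHom.map_closure]
          refine closure_mono ?_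
          rintro _ ⟨k, hk, rfl⟩
          refine ⟨SEBrick.conj_mem_of hgS hk.1, ?_⟩
          show u * (g * k * g⁻¹) * u⁻¹ = (g * k * g⁻¹)⁻¹
          rcases hg with rfl | rfl
          · rw [hk.2, show g * k⁻¹ * g⁻¹ = (g * k * g⁻¹)⁻¹ by group, hk.2]
          · exact F.z_conj_inv hk.2
        exact hle' ⟨x, hx, rfl⟩
    exact ⟨hle, F.inverted_of_pgroup (l := q) (closure_mono fun k hk => ⟨subset_closure hk, hk.2⟩)
      (hS.to_le hle) (hle.trans (hST.trans hTD)) (hn u (Or.inl rfl) hSu) (hn z (Or.inr rfl) hSz)⟩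
  -- the Sylow subgroups for the other primes
  have hother : ∀ q : ℕ, q.Prime → q ≠ p → ∀ S : Subgroup G, IsPGroup q S → S ≤ T →
      u ∈ normalizer (S : Set G) → z ∈ normalizer (S : Set G) → S ≤ Z1 := by
    intro q hq hqp S hS hST hSu hSz
    haveI := Fact.mk hq
    obtain ⟨hQS, hQinv⟩ := hQfacts q hq S hS hST hSu hSz
    set Q := closure (invSet u S) with hQ
    have hQu : u ∈ normalizer (Q : Set G) := SEBrick.mem_normalizer_of fun x hx => by
      rw [hQinv x hx]; exact inv_mem hx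
    have hQz : z ∈ normalizer (Q : Set G) := SEBrick.mem_normalizer_of fun x hx =>
      subset_closure ⟨SEBrick.conj_mem_of hSz (hQS hx), F.z_conj_inv (hQinv x hx)⟩
    have hQp : ¬ p ∣ Nat.card Q := fun h => by
      obtain ⟨n, hn⟩ := IsPGroup.iff_card.1 (hS.to_le hQS)
      rw [hn] at h
      exact hqp ((Nat.prime_dvd_prime_iff_eq hp hq).1 (hp.dvd_of_dvd_pow h)).symm
    have hc := F.section_centralized hTD hcopT hN₀T hN₁₀ hTN₀ hTN₁ huN₀ huN₁ hzN₀ hzN₁ hpd hab hpow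
      (hQS.trans hST) hQu hQz hQinv hQp
    have hSc : ∀ a ∈ S, ∀ x ∈ N₀, a * x * a⁻¹ * x⁻¹ ∈ N₁ := fun a ha x hx => by
      obtain ⟨f, hf, i, hi, e, hfu⟩ := exists_fix_mul_inv (F.odd_of_le (hST.trans hTD)) F.u_order hSu ha
      have hfN := hfixN₀ f (hST hf) hfu
      rw [e, show f * i * x * (f * i)⁻¹ * x⁻¹ =
        f * (i * x * i⁻¹ * x⁻¹) * f⁻¹ * (f * x * f⁻¹ * x⁻¹) by group]
      exact mul_mem (SEBrick.conj_mem_of (hTN₁ (hST hf)) (hc i (subset_closure hi) x hx)) (hab f hfN x hx)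
    intro a ha
    refine mem_commTo.2 ⟨hST ha, fun c hcT => ?_⟩
    set X := normalizer (N₁ : Set G) with hX
    haveI hXn : (N₁.subgroupOf X).Normal := ⟨fun w hw g => by
      rw [mem_subgroupOf] at hw ⊢
      exact SEBrick.conj_mem_of g.2 hw⟩
    let π : X →* X ⧸ N₁.subgroupOf X := QuotientGroup.mk' _
    have hπ1 : ∀ w : X, π w = 1 ↔ (w : G) ∈ N₁ := fun w => by
      rw [show π w = ((w : X ⧸ N₁.subgroupOf X)) from rfl, QuotientGroup.eq_one_iff, mem_subgroupOf]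
    have hw0 : a * c * a⁻¹ * c⁻¹ ∈ N₀ := hcomm a (hST ha) c hcT
    set w : X := ⟨_, (hN₀T.trans hTN₁) hw0⟩ with hw
    let a' : X := ⟨a, hTN₁ (hST ha)⟩
    let c' : X := ⟨c, hTN₁ hcT⟩
    have hcw : Commute (π a') (π w) := by
      refine mul_inv_eq_iff_eq_mul.1 (mul_inv_eq_one.1 ?_)
      rw [← map_inv, ← map_inv, ← map_mul, ← map_mul, ← map_mul, hπ1]
      exact hSc a ha _ hw0
    have hac : π a' * π c' = π w * π c' * π a' := by
      rw [← map_mul, ← map_mul, ← map_mul]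
      congr 1
      exact Subtype.ext (by show a * c = a * c * a⁻¹ * c⁻¹ * c * a; group)
    have hpw : ∀ n : ℕ, π a' ^ n * π c' = π w ^ n * π c' * π a' ^ n := by
      intro n
      induction n with
      | zero => simp
      | succ n ih =>
        calc π a' ^ (n + 1) * π c' = π a' * (π a' ^ n * π c') := by rw [pow_succ', mul_assoc]
          _ = π a' * π w ^ n * π c' * π a' ^ n := by rw [ih]; group
          _ = π w ^ n * (π a' * π c') * π a' ^ n := by rw [(hcw.pow_right n).eq]; group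
          _ = π w ^ (n + 1) * π c' * π a' ^ (n + 1) := by rw [hac, pow_succ, pow_succ']; group
    have h1 := hpw (orderOf a)
    rw [show π a' ^ orderOf a = 1 by
      rw [← map_pow, show a' ^ orderOf a = 1 from Subtype.ext (by
        rw [SubgroupClass.coe_pow, OneMemClass.coe_one]; exact pow_orderOf_eq_one a), map_one],
      one_mul, mul_one] at h1
    have h2 : π w ^ orderOf a = 1 := mul_eq_right.1 h1.symm
    have h3 : π w ^ p = 1 := by rw [← map_pow, hπ1]; exact hpow _ hw0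
    obtain ⟨k, hk⟩ := IsPGroup.iff_orderOf.1 hS ⟨a, ha⟩
    rw [Subgroup.orderOf_mk] at hk
    refine (hπ1 w).1 (orderOf_eq_one_iff.1 (Nat.eq_one_of_dvd_coprimes ?_
      (orderOf_dvd_of_pow_eq_one h3) (orderOf_dvd_of_pow_eq_one h2)))
    rw [hk]
    exact ((Nat.coprime_primes hp hq).2 (Ne.symm hqp)).pow_right k
  -- the Sylow subgroup for `p`
  obtain ⟨P, hP⟩ := CoprimeAct.exists_invariant_sylow hA hcop hsolv p
  set S := (P : Subgroup T).map T.subtype with hSdef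
  have hST : S ≤ T := map_subtype_le _
  have hSp : IsPGroup p S := P.isPGroup'.map _
  obtain ⟨hQS, hQinv⟩ := hQfacts p hp S hSp hST (hP huA) (hP hzA)
  set Q := closure (invSet u S) with hQdef
  have hTZ1 : T ≤ normalizer (Z1 : Set G) := fun g hg => SEBrick.mem_normalizer_of fun a ha => by
    obtain ⟨haT, hac⟩ := mem_commTo.1 ha
    refine mem_commTo.2 ⟨mul_mem (mul_mem hg haT) (inv_mem hg), fun c hc => ?_⟩
    rw [show g * a * g⁻¹ * c * (g * a * g⁻¹)⁻¹ * c⁻¹ =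
      g * (a * (g⁻¹ * c * g) * a⁻¹ * (g⁻¹ * c * g)⁻¹) * g⁻¹ by group]
    exact SEBrick.conj_mem_of (hTN₁ hg) (hac _ (mul_mem (mul_mem (inv_mem hg) hc) hg))
  have hsup : S ⊔ Z1 = T := by
    refine eq_of_le_of_card_ge (sup_le hST fun a ha => (mem_commTo.1 ha).1) (Nat.le_of_dvd Nat.card_pos ?_)
    rw [← Nat.factorization_le_iff_dvd Nat.card_pos.ne' Nat.card_pos.ne']
    intro q
    by_cases hq : q.Prime
    · haveI := Fact.mk hq
      have hqd : q ^ (Nat.card T).factorization q ∣ Nat.card (S ⊔ Z1 : Subgroup G) := by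
        by_cases hqp : q = p
        · subst hqp
          rw [← CoprimeAct.card_map_sylow P]
          exact card_dvd_of_le le_sup_left
        · obtain ⟨P', hP'⟩ := CoprimeAct.exists_invariant_sylow hA hcop hsolv q
          rw [← CoprimeAct.card_map_sylow P']
          exact card_dvd_of_le ((hother q hq hqp _ (P'.isPGroup'.map _) (map_subtype_le _) (hP' huA) (hP' hzA)).trans
            le_sup_right)
      exact (hq.pow_dvd_iff_le_factorization Nat.card_pos.ne').1 hqd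
    · rw [Nat.factorization_eq_zero_of_not_prime _ hq]
      exact Nat.zero_le _
  have hZ1u : u ∈ normalizer (Z1 : Set G) := SEBrick.mem_normalizer_of fun a ha => by
    obtain ⟨haT, hac⟩ := mem_commTo.1 ha
    refine mem_commTo.2 ⟨SEBrick.conj_mem_of (hTn u (Or.inl rfl)) haT, fun c hc => ?_⟩
    have hc' : u⁻¹ * c * u ∈ T := by
      have := SEBrick.conj_mem_of (inv_mem (hTn u (Or.inl rfl))) hc
      rwa [inv_inv] at this
    rw [show u * a * u⁻¹ * c * (u * a * u⁻¹)⁻¹ * c⁻¹ =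
      u * (a * (u⁻¹ * c * u) * a⁻¹ * (u⁻¹ * c * u)⁻¹) * u⁻¹ by group]
    exact SEBrick.conj_mem_of huN₁ (hac _ hc')
  -- every inverted element lies in `Q Z1`
  have hgen : T ≤ Q ⊔ Z1 := by
    rw [hTgen]
    refine (closure_le _).2 fun k hk => ?_
    have hkT : k ∈ T := hTgen ▸ subset_closure hk
    have hkm : k ∈ Z1 ⊔ S := by rw [sup_comm, hsup]; exact hkT
    obtain ⟨c, hc, s, hs, rfl⟩ := (SolvBasic.mem_sup_iff_of_le_normalizer (hST.trans hTZ1)).1 hkm
    obtain ⟨f, hf, i, hi, e, hfu⟩ := exists_fix_mul_inv (F.odd_of_le (hST.trans hTD)) F.u_order (hP huA) hs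
    have hfT : f ∈ T := hST hf
    have hiT : i ∈ T := hST hi.1
    have hiN := hTZ1 hiT
    have hfN := hTZ1 hfT
    have hrel : i * f * i⁻¹ * f ∈ Z1 := by
      have h := hk.2
      rw [e, show u * (c * (f * i)) * u⁻¹ = u * c * u⁻¹ * (u * f * u⁻¹) * (u * i * u⁻¹) by group, hi.2,
        ← hfu, mul_inv_cancel_right, mul_inv_rev, mul_inv_rev] at h
      have hc' : u * c * u⁻¹ ∈ Z1 := SEBrick.conj_mem_of hZ1u hc
      have h' : f * i⁻¹ * c * f * i = (u * c * u⁻¹)⁻¹ := by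
        refine eq_inv_of_mul_eq_one_right ?_
        calc u * c * u⁻¹ * (f * i⁻¹ * c * f * i) = u * c * u⁻¹ * f * i⁻¹ * (c * (f * i)) := by group
          _ = i⁻¹ * f⁻¹ * c⁻¹ * (c * (f * i)) := by rw [h]
          _ = 1 := by group
      have hm : i * f⁻¹ * (u * c * u⁻¹)⁻¹ * (i * f⁻¹)⁻¹ ∈ Z1 :=
        SEBrick.conj_mem_of (mul_mem hiN (inv_mem hfN)) (inv_mem hc')
      have h'' : f * i * f * i⁻¹ ∈ Z1 := by
        rw [show f * i * f * i⁻¹ = c⁻¹ * (i * f⁻¹ * (f * i⁻¹ * c * f * i) * (i * f⁻¹)⁻¹) by group, h']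
        exact mul_mem (inv_mem hc) hm
      have := SEBrick.conj_mem_of (inv_mem hfN) h''
      rwa [show f⁻¹ * (f * i * f * i⁻¹) * f⁻¹⁻¹ = i * f * i⁻¹ * f by group] at this
    have hrel2 : i ^ 2 * f * (i ^ 2)⁻¹ * f⁻¹ ∈ Z1 := by
      rw [show i ^ 2 * f * (i ^ 2)⁻¹ * f⁻¹ = i * (i * f * i⁻¹ * f) * i⁻¹ *
        (f * (i * f * i⁻¹ * f) * f⁻¹)⁻¹ by rw [pow_two]; group]
      exact mul_mem (SEBrick.conj_mem_of hiN hrel) (inv_mem (SEBrick.conj_mem_of hfN hrel))
    obtain ⟨m, hm⟩ := Invol.exists_sqrt (SEBrick.odd_order hTo hiT)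
    have hrel1 : i * f * i⁻¹ * f⁻¹ ∈ Z1 := by
      rw [← hm, ← pow_mul, mul_comm, pow_mul]
      exact coset_fixed_pow (pow_mem hiN 2) hrel2 m
    have hf2 : f * f ∈ Z1 := by
      rw [show f * f = (i * f * i⁻¹ * f⁻¹)⁻¹ * (i * f * i⁻¹ * f) by group]
      exact mul_mem (inv_mem hrel1) hrel
    have hfZ : f ∈ Z1 := by
      obtain ⟨k', hk'⟩ := Invol.exists_sqrt (SEBrick.odd_order hTo hfT)
      rw [← hk', ← pow_mul, mul_comm, pow_mul, pow_two]
      exact pow_mem hf2 k'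
    rw [e]
    exact mul_mem (mem_sup_right hc) (mul_mem (mem_sup_right hfZ) (mem_sup_left (subset_closure hi)))
  have hgens : ∀ a : G, (a ∈ Q ∨ a ∈ Z1) → ∀ c : G, (c ∈ Q ∨ c ∈ Z1) → a * c * a⁻¹ * c⁻¹ ∈ N₁ := by
    intro a ha c hc
    have hT' : ∀ x : G, x ∈ Q ∨ x ∈ Z1 → x ∈ T := fun x hx =>
      hx.elim (fun h => hST (hQS h)) fun h => (mem_commTo.1 h).1
    rcases ha with ha | ha
    · rcases hc with hc | hc
      · rw [comm_of_inverted hQinv a ha c hc]; simp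
      · have h := inv_mem ((mem_commTo.1 hc).2 a (hT' a (Or.inl ha)))
        simpa [mul_assoc] using h
    · exact (mem_commTo.1 ha).2 c (hT' c hc)
  have hstep : ∀ c : G, (c ∈ Q ∨ c ∈ Z1) → ∀ a ∈ T, a * c * a⁻¹ * c⁻¹ ∈ N₁ := fun c hc a ha => by
    have hle : Q ⊔ Z1 ≤ commTo T N₁ {c} hTN₁ := sup_le
      (fun x hx => mem_commTo.2 ⟨hST (hQS hx), fun d hd => by
        rw [Set.mem_singleton_iff] at hd; subst hd; exact hgens x (Or.inl hx) _ hc⟩)
      (fun x hx => mem_commTo.2 ⟨(mem_commTo.1 hx).1, fun d hd => by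
        rw [Set.mem_singleton_iff] at hd; subst hd; exact hgens x (Or.inr hx) _ hc⟩)
    exact (mem_commTo.1 (hle (hgen ha))).2 c rfl
  intro a ha c hc
  have hle : Q ⊔ Z1 ≤ commTo T N₁ {a} hTN₁ := sup_le
    (fun x hx => mem_commTo.2 ⟨hST (hQS hx), fun d hd => by
      rw [Set.mem_singleton_iff] at hd; subst hd
      simpa [mul_assoc] using inv_mem (hstep x (Or.inl hx) _ ha)⟩)
    (fun x hx => mem_commTo.2 ⟨(mem_commTo.1 hx).1, fun d hd => by
      rw [Set.mem_singleton_iff] at hd; subst hd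
      simpa [mul_assoc] using inv_mem (hstep x (Or.inr hx) _ ha)⟩)
  simpa [mul_assoc] using inv_mem ((mem_commTo.1 (hle (hgen hc))).2 a rfl)

/-- The subgroup generated by the inverted elements is abelian. -/
theorem comm_invGen {a c : G} (ha : a ∈ closure (invSet u (pairStab ((1 : G) : G ⧸ H) b)))
    (hc : c ∈ closure (invSet u (pairStab ((1 : G) : G ⧸ H) b))) : a * c = c * a := by
  classical
  set D := pairStab ((1 : G) : G ⧸ H) b with hD
  set T := closure (invSet u D) with hT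
  suffices h : ∀ n : ℕ, ∀ N₀ : Subgroup G, Nat.card N₀ = n → N₀ ≤ T → T ≤ normalizer (N₀ : Set G) →
      u ∈ normalizer (N₀ : Set G) → z ∈ normalizer (N₀ : Set G) →
      (∀ a ∈ T, ∀ c ∈ T, a * c * a⁻¹ * c⁻¹ ∈ N₀) → ∀ a ∈ T, ∀ c ∈ T, a * c = c * a by
    have hn : ∀ g : G, (g = u ∨ g = z) → g ∈ normalizer (T : Set G) := fun g hg =>
      SEBrick.mem_normalizer_of fun x hx => by
        have hgD : g ∈ normalizer (D : Set G) := by
          rcases hg with rfl | rfl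
          · exact F.u_mem_normalizer
          · exact le_normalizer F.z_mem
        have hle : T.map (MulAut.conj g).toMonoidHom ≤ T := by
          rw [hT, MonoidHom.map_closure]
          refine closure_mono ?_
          rintro _ ⟨k, hk, rfl⟩
          refine ⟨SEBrick.conj_mem_of hgD hk.1, ?_⟩
          show u * (g * k * g⁻¹) * u⁻¹ = (g * k * g⁻¹)⁻¹
          rcases hg with rfl | rfl
          · rw [hk.2, show g * k⁻¹ * g⁻¹ = (g * k * g⁻¹)⁻¹ by group, hk.2]
          · exact F.z_conj_inv hk.2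
        exact hle ⟨x, hx, rfl⟩
    exact h _ T rfl le_rfl le_normalizer (hn u (Or.inl rfl)) (hn z (Or.inr rfl))
      (fun a ha c hc => mul_mem (mul_mem (mul_mem ha hc) (inv_mem ha)) (inv_mem hc)) a ha c hc
  intro n
  induction n using Nat.strong_induction_on with
  | _ n ih =>
    intro N₀ hn hN₀T hTN₀ hu hz hcomm
    by_cases hne : N₀ = ⊥
    · intro a ha c hc
      exact mul_inv_eq_iff_eq_mul.1 (mul_inv_eq_one.1 (mem_bot.1 (hne ▸ hcomm a ha c hc)))
    obtain ⟨N₁, hlt, h1, h2, h3, h4⟩ := F.derived_step hT hN₀T hTN₀ hu hz hcomm hne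
    refine ih _ ?_ N₁ rfl (hlt.le.trans hN₀T) h1 h2 h3 h4
    rw [← hn]
    exact lt_of_le_of_ne (card_le_of_le hlt.le) fun e => hlt.ne (eq_of_le_of_card_ge hlt.le e.ge)

end Frame

end Cfsg.Agent.SEMain.Commute.TPart
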