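import Cfsg.Agent.Lib.SEMain.Commute.PGroupInverted
import Cfsg.Agent.Lib.Solvable.Fitting
import Cfsg.Agent.Lib.OddChar.OddTheorem

/-!
# The inverted elements lie in an `r'`-group

In the situation of `Frame` the elements of `D` inverted by `u` generate a subgroup of order prime to `r`.
-/

set_option autoImplicit false
set_option linter.style.haveILetI false
set_option linter.unusedSectionVars false

namespace Cfsg.Agent.SEMain.Commute.TPart

open Subgroup MulAction

universe u

/-- An `r`-element dividing an `r'`-element is trivial. -/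
theorem eq_one_of_pElement {Q : Type u} [Group Q] [Finite Q] {r : ℕ} [hr : Fact r.Prime] {R : Subgroup Q}
    (hR : IsPGroup r R) {x : Q} (hx : x ∈ R) {n : ℕ} (hd : orderOf x ∣ n) (hn : ¬ r ∣ n) : x = 1 := by
  obtain ⟨k, hk⟩ := IsPGroup.iff_orderOf.1 hR ⟨x, hx⟩
  rw [Subgroup.orderOf_mk] at hk
  rcases Nat.eq_zero_or_pos k with rfl | hk0
  · rwa [pow_zero, orderOf_eq_one_iff] at hk
  · exact absurd ((dvd_pow_self r hk0.ne').trans (hk ▸ hd)) hn

theorem eq_one_of_sq_of_dvd {Q : Type u} [Group Q] {x : Q} (h : x ^ 2 = 1) {n : ℕ} (hd : orderOf x ∣ n)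
    (hn : Odd n) : x = 1 :=
  Invol.eq_one_of_sq_of_odd (hn.of_dvd_nat hd) h

variable {G : Type u} [Group G] [Finite G] {H : Subgroup G} {b : G ⧸ H} {u z : G} {r : ℕ}

namespace Frame

variable (F : Frame H b u z r)
include F

theorem u_mem_normalizer : u ∈ normalizer ((pairStab ((1 : G) : G ⧸ H) b : Subgroup G) : Set G) :=
  swapper_mem_normalizer F.setting.se F.u_order F.u_swap

/-- The subgroup generated by the inverted elements has order prime to `r`. -/
theorem coprime_invGen :
    r.Coprime (Nat.card (closure (invSet u (pairStab ((1 : G) : G ⧸ H) b)))) := by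
  classical
  haveI := F.fact
  set D := pairStab ((1 : G) : G ⧸ H) b with hD
  have hDo := F.odd_D
  have hu := F.u_mem_normalizer
  let ψ : D ≃* D :=
    { toFun := fun d => ⟨u * d * u⁻¹, SEBrick.conj_mem_of hu d.2⟩
      invFun := fun d => ⟨u⁻¹ * d * u, by
        have := SEBrick.conj_mem_of (inv_mem hu) d.2
        rwa [inv_inv] at this⟩
      left_inv := fun d => Subtype.ext (by simp [mul_assoc])
      right_inv := fun d => Subtype.ext (by simp [mul_assoc])
      map_mul' := fun a c => Subtype.ext (by simp [mul_assoc]) }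
  set M := Cfsg.pPrimeCore r D with hM
  haveI hMn : M.Normal := FittingCores.pPrimeCore_normal r
  let Q := D ⧸ M
  haveI : Group.IsSolvable Q :=
    OddChar.oddSolvable Q (hDo.of_dvd_nat (card_quotient_dvd_card M))
  have hbot : Cfsg.pPrimeCore r Q = ⊥ := FittingCores.pPrimeCore_quotient_eq_bot r M rfl
  set R := Cfsg.pCore r Q with hR
  haveI hRn : R.Normal := FittingCores.pCore_normal r
  have hRp : IsPGroup r R := FittingCores.pCore_isPGroup r
  let ψQ : Q →* Q := QuotientGroup.map M M ψ.toMonoidHom (fun x hx => by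
    rw [mem_comap]
    exact (FittingCores.pPrimeCore_map_equiv r ψ).le ⟨x, hx, rfl⟩)
  have hψs : Function.Surjective ψQ := fun q => by
    obtain ⟨x, rfl⟩ := QuotientGroup.mk'_surjective M q
    exact ⟨QuotientGroup.mk' M (ψ.symm x), by
      show QuotientGroup.mk' M (ψ (ψ.symm x)) = _
      rw [ψ.apply_symm_apply]⟩
  have hψR : ∀ q ∈ R, ψQ q ∈ R := fun q hq => FittingCores.pCore_map_le r hψs ⟨q, hq, rfl⟩
  let π : D →* Q := QuotientGroup.mk' M
  have hψπ : ∀ x : D, ψQ (π x) = π (ψ x) := fun x => rfl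
  have hπord : ∀ x : D, orderOf (π x) ∣ orderOf (x : G) := fun x => by
    rw [Subgroup.orderOf_coe]; exact orderOf_map_dvd π x
  have hR0 : ∀ x : D, π x ∈ R → π (ψ x) = π x := by
    intro x hx
    obtain ⟨f, hf, i, hi, e, hfu⟩ := exists_fix_mul_inv hDo F.u_order hu x.2
    set f' : D := ⟨f, hf⟩ with hf'
    set i' : D := ⟨i, hi.1⟩ with hi'
    have hx' : x = f' * i' := Subtype.ext e
    have hf'' : ψ f' = f' := Subtype.ext (by
      show u * f * u⁻¹ = f
      rw [← hfu, mul_inv_cancel_right])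
    have hi'' : ψ i' = i'⁻¹ := Subtype.ext (by show u * i * u⁻¹ = i⁻¹; exact hi.2)
    have h1 : π i' ^ 2 ∈ R := by
      have h2 := mul_mem (inv_mem (hψR _ hx)) hx
      rw [hψπ, hx', map_mul, hf'', hi'', map_mul, map_inv, map_mul] at h2
      rwa [show (π f' * (π i')⁻¹)⁻¹ * (π f' * π i') = π i' ^ 2 by rw [pow_two]; group] at h2
    have h3 : π i' ^ 2 = 1 := eq_one_of_pElement hRp h1 ((orderOf_pow_dvd 2).trans (hπord i'))
      (F.not_dvd_orderOf hi.1 hi.2)
    have h4 : π i' = 1 := eq_one_of_sq_of_dvd h3 (hπord i') (SEBrick.odd_order hDo hi.1)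
    rw [hx', map_mul, hf'', hi'', map_mul, map_mul, map_inv, h4, inv_one]
  have hmem : invSet u D ⊆ (M.map D.subtype : Subgroup G) := by
    intro k hk
    let k' : D := ⟨k, hk.1⟩
    have hk' : ψ k' = k'⁻¹ := Subtype.ext (by show u * k * u⁻¹ = k⁻¹; exact hk.2)
    have hcen : π k' ^ 2 ∈ centralizer (R : Set Q) := mem_centralizer_iff.2 fun q hq => by
      obtain ⟨x, rfl⟩ := QuotientGroup.mk'_surjective M q
      have hconj : π (k' * x * k'⁻¹) ∈ R := by
        rw [map_mul, map_mul, map_inv]; exact hRn.conj_mem _ hq _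
      have h1 := hR0 _ hconj
      simp only [map_mul, map_inv, hk', inv_inv, hR0 x hq] at h1
      show π x * π k' ^ 2 = π k' ^ 2 * π x
      calc π x * π k' ^ 2 = π k' * ((π k')⁻¹ * π x * π k') * π k' := by rw [pow_two]; group
        _ = π k' * (π k' * π x * (π k')⁻¹) * π k' := by rw [h1]
        _ = π k' ^ 2 * π x := by rw [pow_two]; group
    have h3 : π k' ^ 2 = 1 := eq_one_of_pElement hRp
      (FittingCores.centralizer_pCore_le F.prime hbot hcen) ((orderOf_pow_dvd 2).trans (hπord k'))
      (F.not_dvd_orderOf hk.1 hk.2)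
    exact ⟨k', (QuotientGroup.eq_one_iff k').1
      (eq_one_of_sq_of_dvd h3 (hπord k') (SEBrick.odd_order hDo hk.1)), rfl⟩
  refine Nat.Coprime.coprime_dvd_right (card_dvd_of_le ((closure_le _).2 hmem)) ?_
  rw [card_map_of_injective D.subtype_injective]
  exact (FittingCores.pPrimeCore_coprime r).symm

end Frame

end Cfsg.Agent.SEMain.Commute.TPart
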