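import Cfsg.Agent.Lib.SEMain.Commute.Basic
import Cfsg.Agent.Lib.SEMain.ThreeCentral
import Cfsg.Agent.Lib.SEMain.LocalTools
import Cfsg.Agent.Lib.SEMain.Odd
import Cfsg.Agent.Lib.SEMain.Kernel

/-!
# Odd prime-power groups with three fixed points

Section 1 of the commutation proof: the fields of `ThreePoint`.
-/

set_option autoImplicit false
set_option linter.style.haveILetI false
set_option linter.unusedSectionVars false

namespace Cfsg.Agent.SEMain.Commute

open Subgroup MulAction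

universe u

variable {G : Type u} [Group G] [Finite G] {H : Subgroup G}

/-- The subgroup generated by the involutions centralising `Y`. -/
def involGen (Y : Subgroup G) : Subgroup G :=
  closure {w : G | orderOf w = 2 ∧ w ∈ centralizer (Y : Set G)}

theorem involGen_le (Y : Subgroup G) : involGen Y ≤ centralizer (Y : Set G) :=
  (closure_le _).2 fun _ hw => hw.2

theorem mem_involGen {Y : Subgroup G} {w : G} (hw : orderOf w = 2) (hwY : w ∈ centralizer (Y : Set G)) :
    w ∈ involGen Y :=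
  subset_closure ⟨hw, hwY⟩

theorem Three.exists_ne {l : ℕ} {Y : Subgroup G} (hT : Three H l Y) (p q : G ⧸ H) :
    ∃ x : G ⧸ H, x ≠ p ∧ x ≠ q ∧ Y ≤ stabilizer G x := by
  obtain ⟨a, b, c, hab, hbc, hac, ha, hb, hc⟩ := hT.three
  by_contra hno
  push Not at hno
  by_cases h1 : a = p
  · by_cases h2 : b = q
    · exact hno c (h1 ▸ hac.symm) (h2 ▸ hbc.symm) hc
    · exact hno b (h1 ▸ hab.symm) h2 hb
  · by_cases h2 : a = q
    · by_cases h3 : b = p
      · exact hno c (h3 ▸ hbc.symm) (h2 ▸ hac.symm) hc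
      · exact hno b h3 (h2 ▸ hab.symm) hb
    · exact hno a h1 h2 ha

/-- The fixed point of an involution centralising `Y` is fixed by `Y`. -/
theorem fix_of_centre (hH : Cfsg.IsStronglyEmbedded H) {Y : Subgroup G} {w : G} (hw : orderOf w = 2)
    (hwY : w ∈ centralizer (Y : Set G)) {e : G ⧸ H} (he : w • e = e) : Y ≤ stabilizer G e := fun y hy =>
  mem_stabilizer_iff.2 (Invol.se_fix_unique hH hw
    (by rw [← mul_smul, ← mem_centralizer_iff.1 hwY y hy, mul_smul, he]) he)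

theorem centre_of (h : Hyp H) {l : ℕ} {Y : Subgroup G} {p : G ⧸ H} (hT : Three H l Y)
    (hp : Y ≤ stabilizer G p) :
    ∃ w : G, orderOf w = 2 ∧ w • p = p ∧ w ∈ centralizer (Y : Set G) := by
  haveI := Fact.mk hT.prime
  obtain ⟨w, hw, hwp, hwc⟩ := exists_invol_at_fixed h.setting h.weak hT.ne_two hT.pgroup hT.three hp
  exact ⟨w, hw, hwp, mem_centralizer_iff.2 fun y hy => (hwc y hy).symm⟩

theorem swap_of (h : Hyp H) {l : ℕ} {Y : Subgroup G} {p q : G ⧸ H} (hT : Three H l Y)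
    (hp : Y ≤ stabilizer G p) (hq : Y ≤ stabilizer G q) (hpq : p ≠ q) :
    ∃ w : G, orderOf w = 2 ∧ w • p = q ∧ w ∈ centralizer (Y : Set G) := by
  obtain ⟨s, hs, hsp, hsY⟩ := centre_of h hT hp
  obtain ⟨t, ht, htq, htY⟩ := centre_of h hT hq
  obtain ⟨w, hwY, hw, hwp, -⟩ := exists_swap_mem h.setting.se hsY htY hs ht hsp htq hpq
  exact ⟨w, hw, hwp, hwY⟩

/-- The involutions centralising `Y` generate a group transitive on its fixed points. -/
theorem exists_involGen_smul (h : Hyp H) {l : ℕ} {Y : Subgroup G} {p q : G ⧸ H} (hT : Three H l Y)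
    (hp : Y ≤ stabilizer G p) (hq : Y ≤ stabilizer G q) : ∃ g ∈ involGen Y, g • p = q := by
  by_cases hpq : p = q
  · exact ⟨1, one_mem _, by rw [one_smul, hpq]⟩
  obtain ⟨w, hw, hwp, hwY⟩ := swap_of h hT hp hq hpq
  exact ⟨w, mem_involGen hw hwY, hwp⟩

/-- The normaliser of a group of rank one has rank one. -/
theorem rankOne_normalizer (h : Hyp H) {l : ℕ} {Y : Subgroup G} {p : G ⧸ H} (hT : Three H l Y)
    (hp : Y ≤ stabilizer G p) (hrk : ¬ RankTwoAt Y p) :
    BrauerSuzuki.RankOne (normalizer (Y : Set G)) := by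
  haveI := Fact.mk hT.prime
  intro u v hu hv huv
  by_contra hne
  rw [← Subgroup.orderOf_coe] at hu hv
  have hmem : ∀ w : normalizer (Y : Set G), orderOf (w : G) = 2 → (w : G) ∈ centralizer (Y : Set G) :=
    fun w hw => mem_centralizer_iff.2 fun y hy =>
      (centralizes_of_normalizes h.setting.se h.weak hT.ne_two hT.pgroup hT.three hw w.2 y hy).symm
  obtain ⟨E, hEY, hE, huE⟩ := exists_four_pair hu hv (hmem u hu) (hmem v hv)
    (fun e => hne (Subtype.ext e)) (congrArg Subtype.val huv.eq)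
  obtain ⟨c, hEc⟩ := SESolv.exists_fix_four h.setting.se hE
  have hYc : Y ≤ stabilizer G c := fix_of_centre h.setting.se hu (hmem u hu) (hEc huE)
  obtain ⟨g, hgY, hgc⟩ := exists_involGen_smul h hT hYc hp
  refine hrk ⟨E.map (MulAut.conj g).toMonoidHom, hE.conj g, ?_⟩
  rintro _ ⟨e, he, rfl⟩
  refine mem_inf.2 ⟨?_, mul_mem (mul_mem (involGen_le Y hgY) (hEY he)) (inv_mem (involGen_le Y hgY))⟩
  have h1 := conj_smul_eq (g := g) (mem_stabilizer_iff.1 (hEc he))
  rwa [hgc] at h1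

theorem third_of (h : Hyp H) {l : ℕ} {Y : Subgroup G} {p q : G ⧸ H} (hT : Three H l Y)
    (hp : Y ≤ stabilizer G p) (hq : Y ≤ stabilizer G q) (hpq : p ≠ q) (hrk : ¬ RankTwoAt Y p)
    {s : ℕ} {S : Subgroup G} [hs : Fact s.Prime] (hS : IsPGroup s S)
    (hSle : S ≤ normalizer (Y : Set G) ⊓ pairStab p q) :
    ∃ f : G ⧸ H, f ≠ p ∧ f ≠ q ∧ Y ⊔ S ≤ stabilizer G f := by
  haveI := Fact.mk hT.prime
  set M := normalizer (Y : Set G) with hM
  by_cases hs2 : s = 2
  · obtain ⟨f, hfp, hfq, hf⟩ := hT.exists_ne p q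
    refine ⟨f, hfp, hfq, sup_le hf fun x hx => ?_⟩
    obtain ⟨n, hn⟩ := IsPGroup.iff_orderOf.1 hS ⟨x, hx⟩
    rw [Subgroup.orderOf_mk, hs2] at hn
    have hodd := odd_of_mem_pairStab h.setting.se hpq (hSle hx).2
    rw [orderOf_eq_one_iff.1 (Nat.eq_one_of_dvd_coprimes
      ((Nat.coprime_two_left.2 hodd).pow_left n) (hn ▸ dvd_rfl) dvd_rfl)]
    exact one_mem _
  have hR := rankOne_normalizer h hT hp hrk
  haveI : (Cfsg.pPrimeCore 2 M).Normal := FittingCores.pPrimeCore_normal 2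
  let Φ : SubMulAction M (G ⧸ H) :=
    { carrier := {x | Y ≤ stabilizer G x}
      smul_mem' := fun g _ hx => le_stabilizer_smul g.2 hx }
  have htr : ∀ x y : Φ, ∃ o ∈ Cfsg.pPrimeCore 2 M, o • x = y := by
    intro x y
    rcases eq_or_ne x y with rfl | hne
    · exact ⟨1, one_mem _, one_smul _ x⟩
    obtain ⟨t, ht, htx, htY⟩ := centre_of h hT x.2
    obtain ⟨i, hi, hix, hiY⟩ := swap_of h hT x.2 y.2 fun e => hne (Subtype.ext e)
    refine ⟨⟨i, centralizer_le_normalizer (Y : Set G) hiY⟩ * ⟨t, centralizer_le_normalizer (Y : Set G) htY⟩,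
      SETrans.invol_mul_mem hR (by rwa [Subgroup.orderOf_mk]) (by rwa [Subgroup.orderOf_mk]),
      Subtype.ext ?_⟩
    show (i * t) • (x : G ⧸ H) = y
    rw [mul_smul, htx, hix]
  obtain ⟨c, hcp, hcq, hc⟩ := exists_third_fixed (Φ := Φ) (Cfsg.pPrimeCore 2 M) SETrans.odd_core htr hs2
    (Y := S.subgroupOf M) hS.comap_subtype (p := ⟨p, hp⟩) (q := ⟨q, hq⟩)
    (fun e => hpq (congrArg Subtype.val e))
    (fun g hg => Subtype.ext (mem_pairStab.1 (hSle hg).2).1)
    (fun g hg => Subtype.ext (mem_pairStab.1 (hSle hg).2).2)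
  exact ⟨c, fun e => hcp (Subtype.ext e), fun e => hcq (Subtype.ext e),
    sup_le c.2 fun x hx => congrArg Subtype.val (hc ⟨x, (hSle hx).1⟩ hx)⟩

/-- The local data of rank two, with a central kernel. -/
theorem exists_local (h : Hyp H) {l : ℕ} {Y : Subgroup G} {p : G ⧸ H} (hT : Three H l Y)
    (hp : Y ≤ stabilizer G p) (hrk : RankTwoAt Y p) :
    ∃ K : Subgroup G, LocalData (involGen Y) p K ∧ ∀ k ∈ K, involGen Y ≤ centralizer ({k} : Set G) := by
  have hH := h.setting.se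
  obtain ⟨E, hE, hEle⟩ := hrk
  obtain ⟨q, hqp, -, hq⟩ := hT.exists_ne p p
  have hlt : Nat.card (involGen Y) < Nat.card G :=
    lt_of_le_of_lt (card_le_of_le ((involGen_le Y).trans (centralizer_le_normalizer _)))
      (card_normalizer_lt h.setting.core hT.ne_bot hp)
  obtain ⟨w₀, hw₀, hw₀p, hw₀Y⟩ := swap_of h hT hp hq hqp.symm
  obtain ⟨K, hK⟩ := exists_localData hH h.setting.below hlt hE
    (fun e he => by
      by_cases he1 : e = 1
      · rw [he1]; exact one_mem _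
      · exact mem_involGen (hE.order he he1) (hEle he).2)
    (hEle.trans inf_le_left) ⟨w₀, mem_involGen hw₀ hw₀Y, fun e => hqp (hw₀p.symm.trans e)⟩
  refine ⟨K, hK, fun k hk => (closure_le _).2 ?_⟩
  rintro w ⟨hw2, hwY⟩
  refine mem_centralizer_singleton_iff.2 ?_
  have hwL : w ∈ involGen Y := mem_involGen hw2 hwY
  set k' := k⁻¹ * (w * k * w⁻¹) with hk'
  have hk'K : k' ∈ K := mul_mem (inv_mem hk) (SEBrick.conj_mem_of (hK.norm hwL) hk)
  obtain ⟨e, he⟩ := Invol.se_exists_fix hH hw2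
  have hfix : ∀ f : G ⧸ H, Y ≤ stabilizer G f → k' • f = f := fun f hf => by
    obtain ⟨x, hx, rfl⟩ := exists_involGen_smul h hT hp hf
    exact hK.fix k' hk'K x hx
  have hinv : w * k' * w⁻¹ = k'⁻¹ := by
    rw [hk', Invol.inv_self hw2]
    calc w * (k⁻¹ * (w * k * w)) * w = w * k⁻¹ * w * k * (w * w) := by group
      _ = (k⁻¹ * (w * k * w))⁻¹ := by
        rw [Invol.mul_self hw2, mul_one, mul_inv_rev, mul_inv_rev, mul_inv_rev, inv_inv, Invol.inv_self hw2]
        group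
  have hk'1 : k' = 1 := by
    by_contra h1
    have h2 := fun (x : G ⧸ H) (hx : Y ≤ stabilizer G x) =>
      h.weak.lonely w k' e x hw2 hinv (SEBrick.odd_order hK.odd hk'K) h1 he
        (hfix e (fix_of_centre hH hw2 hwY he)) (hfix x hx)
    exact hqp ((h2 q hq).trans (h2 p hp).symm)
  nth_rw 2 [inv_mul_eq_one.1 hk'1]
  group

theorem comm_of (h : Hyp H) {l : ℕ} {Y : Subgroup G} {p : G ⧸ H} (hT : Three H l Y)
    (hp : Y ≤ stabilizer G p) (hrk : RankTwoAt Y p) {s t : G} (hs : orderOf s = 2) (ht : orderOf t = 2)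
    (hsp : s • p = p) (htp : t • p = p) (hsY : s ∈ centralizer (Y : Set G))
    (htY : t ∈ centralizer (Y : Set G)) : s * t = t * s := by
  obtain ⟨K, hK, hKc⟩ := exists_local h hT hp hrk
  have hk := hK.comm s t (mem_involGen hs hsY) (mem_involGen ht htY) hs ht hsp htp
  have hc := mem_centralizer_singleton_iff.1 (hKc _ hk (mem_involGen hs hsY))
  have hk1 : s * t * (s * t) = 1 := by
    refine Invol.eq_one_of_sq_of_odd (SEBrick.odd_order hK.odd hk) ?_
    rw [pow_two]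
    calc s * t * (s * t) * (s * t * (s * t))
        = s * (s * t * (s * t)) * s * (s * t * (s * t)) := by
          rw [hc, mul_assoc (s * t * (s * t)) s s, Invol.mul_self hs, mul_one]
      _ = (s * s) * t * s * t * (s * s) * t * (s * t) := by group
      _ = 1 := by
          rw [Invol.mul_self hs, one_mul, mul_one, mul_assoc (t * s) t t, Invol.mul_self ht, mul_one,
            mul_assoc t s (s * t), ← mul_assoc s s t, Invol.mul_self hs, one_mul, Invol.mul_self ht]
  calc s * t = (s * t)⁻¹ := eq_inv_of_mul_eq_one_left hk1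
    _ = t * s := by rw [mul_inv_rev, Invol.inv_self hs, Invol.inv_self ht]

theorem regular_of (h : Hyp H) {l : ℕ} {Y : Subgroup G} {p : G ⧸ H} (hT : Three H l Y)
    (hp : Y ≤ stabilizer G p) (hrk : RankTwoAt Y p) :
    ∃ Q : Subgroup G, IsPGroup 2 Q ∧ Q ≤ stabilizer G p ⊓ centralizer (Y : Set G) ∧
      stabilizer G p ⊓ normalizer (Y : Set G) ≤ normalizer (Q : Set G) ∧
      ∀ x y : G ⧸ H, x ≠ p → y ≠ p → Y ≤ stabilizer G x → Y ≤ stabilizer G y →
        ∃! g : G, g ∈ Q ∧ g • x = y := by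
  classical
  haveI : Fact (Nat.Prime 2) := ⟨Nat.prime_two⟩
  obtain ⟨K, hK, hKc⟩ := exists_local h hT hp hrk
  obtain ⟨Q, hKQ, hQp, hQK, hQ2, hQtr⟩ := hK.two
  obtain ⟨T⟩ : Nonempty (Sylow 2 Q) := inferInstance
  set S := (T : Subgroup Q).map Q.subtype with hS
  have hSQ : S ≤ Q := map_subtype_le _
  have hS2 : IsPGroup 2 S := T.isPGroup'.map _
  have hKS : K ≤ normalizer (S : Set G) := fun k hk => SEBrick.mem_normalizer_of fun s hs => by
    rwa [← mem_centralizer_singleton_iff.1 (hKc k hk (hQp (hSQ hs)).1), mul_inv_cancel_right]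
  have hQeq : Q = S ⊔ K := by
    refine (eq_of_le_of_card_ge (sup_le hSQ hKQ) ?_).symm
    haveI : (K.subgroupOf Q).Normal :=
      normal_subgroupOf_of_le_normalizer (hQp.trans (inf_le_left.trans hK.norm))
    have h2 : IsPGroup 2 (Q ⧸ K.subgroupOf Q) := fun z => by
      induction z using QuotientGroup.induction_on with
      | _ z =>
        obtain ⟨k, hk⟩ := hQK z z.2
        refine ⟨k, ?_⟩
        rw [← QuotientGroup.mk_pow, QuotientGroup.eq_one_iff, mem_subgroupOf]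
        exact hk
    obtain ⟨j, hj⟩ := IsPGroup.iff_card.1 h2
    have hQc : Nat.card Q = 2 ^ j * Nat.card K := by
      rw [card_eq_card_quotient_mul_card_subgroup (K.subgroupOf Q), hj,
        Nat.card_congr (subgroupOfEquivOfLe hKQ).toEquiv]
    have hK2 : ¬ 2 ∣ Nat.card K := fun h => Nat.not_even_iff_odd.2 hK.odd (even_iff_two_dvd.2 h)
    have hSc : Nat.card S = 2 ^ j := by
      rw [hS, CoprimeAct.card_map_sylow, hQc, Nat.factorization_mul (pow_ne_zero _ two_ne_zero) Nat.card_pos.ne',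
        Finsupp.add_apply, Nat.Prime.factorization_pow Nat.prime_two, Finsupp.single_eq_same,
        Nat.factorization_eq_zero_of_not_dvd hK2, add_zero]
    have hdisj : Nat.card (S ⊓ K : Subgroup G) = 1 := Nat.eq_one_of_dvd_coprimes
      ((Nat.coprime_two_left.2 hK.odd).pow_left j) (hSc ▸ card_dvd_of_le inf_le_left)
      (card_dvd_of_le inf_le_right)
    have h := card_sup_mul_inf (A := K) (B := S) hKS
    rw [inf_comm, hdisj, mul_one, sup_comm, hSc] at h
    rw [h, hQc, mul_comm]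
  have hQS : Q ≤ normalizer (S : Set G) := hQeq ▸ sup_le le_normalizer hKS
  have huniq : ∀ x ∈ involGen Y, x • p = p → IsPGroup 2 (zpowers x) → x ∈ S := by
    intro x hx hxp hx2
    have hxQ := hQ2 x hx hxp hx2
    have hle : S ≤ S ⊔ zpowers x := le_sup_left
    obtain ⟨i, hi⟩ := IsPGroup.iff_card.1 (hS2.to_sup_of_normal_left' hx2 (zpowers_le.2 (hQS hxQ)))
    refine (eq_of_le_of_card_ge hle ?_).ge (mem_sup_right (mem_zpowers x))
    have hd := card_dvd_of_le (sup_le hSQ (zpowers_le.2 hxQ) : S ⊔ zpowers x ≤ Q)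
    rw [hi] at hd ⊢
    rw [hS, CoprimeAct.card_map_sylow]
    exact Nat.pow_le_pow_right two_pos ((Nat.prime_two.pow_dvd_iff_le_factorization Nat.card_pos.ne').1 hd)
  refine ⟨S, hS2, fun s hs => ⟨(hQp (hSQ hs)).2, involGen_le Y (hQp (hSQ hs)).1⟩, ?_, ?_⟩
  · intro g hg
    obtain ⟨hgp, hgY⟩ := mem_inf.1 hg
    refine SEBrick.mem_normalizer_of fun s hs => huniq _ ?_ ?_ ?_
    · have hle : involGen Y ≤ (involGen Y).comap (MulAut.conj g).toMonoidHom :=
        (closure_le _).2 fun w hw => subset_closure ⟨(Invol.order_conj g w).trans hw.1,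
          mem_centralizer_iff.2 fun y hy => by
            have h1 : g⁻¹ * y * g ∈ Y := (mem_normalizer_iff''.1 hgY y).1 hy
            have h2 := mem_centralizer_iff.1 hw.2 _ h1
            show y * (g * w * g⁻¹) = g * w * g⁻¹ * y
            calc y * (g * w * g⁻¹) = g * (g⁻¹ * y * g * w) * g⁻¹ := by group
              _ = g * (w * (g⁻¹ * y * g)) * g⁻¹ := by rw [h2]
              _ = _ := by group⟩
      exact hle (hQp (hSQ hs)).1
    · exact mem_stabilizer_iff.1 (mul_mem (mul_mem hgp (hQp (hSQ hs)).2) (inv_mem hgp))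
    · have h := (hS2.to_le (zpowers_le.2 hs)).map (MulAut.conj g).toMonoidHom
      rwa [MonoidHom.map_zpowers] at h
  intro x y hxp hyp hx hy
  obtain ⟨a, ha, hax⟩ := exists_involGen_smul h hT hp hx
  obtain ⟨b, hb, hby⟩ := exists_involGen_smul h hT hp hy
  obtain ⟨z, hz, hze⟩ := hQtr a b ha hb (by rwa [hax]) (by rwa [hby])
  rw [hax, hby] at hze
  -- `z` is a product
  obtain ⟨s, hs, k, hk, rfl⟩ : ∃ s ∈ S, ∃ k ∈ K, z = s * k := by
    rw [hQeq, sup_eq_closure] at hz
    clear hze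
    induction hz using closure_induction with
    | mem z hz =>
      rcases hz with hz | hz
      · exact ⟨z, hz, 1, one_mem _, (mul_one z).symm⟩
      · exact ⟨1, one_mem _, z, hz, (one_mul z).symm⟩
    | one => exact ⟨1, one_mem _, 1, one_mem _, (mul_one 1).symm⟩
    | mul z₁ z₂ _ _ ih₁ ih₂ =>
      obtain ⟨s₁, hs₁, k₁, hk₁, rfl⟩ := ih₁
      obtain ⟨s₂, hs₂, k₂, hk₂, rfl⟩ := ih₂
      refine ⟨s₁ * s₂, mul_mem hs₁ hs₂, k₁ * k₂, mul_mem hk₁ hk₂, ?_⟩
      have hc : s₂ * k₁ = k₁ * s₂ := mem_centralizer_singleton_iff.1 (hKc k₁ hk₁ (hQp (hSQ hs₂)).1)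
      calc s₁ * k₁ * (s₂ * k₂) = s₁ * (k₁ * s₂) * k₂ := by group
        _ = s₁ * (s₂ * k₁) * k₂ := by rw [hc]
        _ = _ := by group
    | inv z _ ih =>
      obtain ⟨s₁, hs₁, k₁, hk₁, rfl⟩ := ih
      refine ⟨s₁⁻¹, inv_mem hs₁, k₁⁻¹, inv_mem hk₁, ?_⟩
      have hc : s₁ * k₁ = k₁ * s₁ := mem_centralizer_singleton_iff.1 (hKc k₁ hk₁ (hQp (hSQ hs₁)).1)
      rw [hc, mul_inv_rev]
  have hkx : k • x = x := hax ▸ hK.fix k hk a ha
  rw [mul_smul, hkx] at hze
  refine ⟨s, ⟨hs, hze⟩, ?_⟩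
  rintro g ⟨hg, hgx⟩
  have hmem : s⁻¹ * g ∈ S := mul_mem (inv_mem hs) hg
  obtain ⟨n, hn⟩ := IsPGroup.iff_orderOf.1 hS2 ⟨_, hmem⟩
  rw [Subgroup.orderOf_mk] at hn
  have hodd : Odd (orderOf (s⁻¹ * g)) := odd_of_mem_pairStab h.setting.se hxp.symm
    (mem_pairStab.2 ⟨(hQp (hSQ hmem)).2, by rw [mul_smul, hgx, ← hze, inv_smul_smul]⟩)
  exact (inv_mul_eq_one.1 (orderOf_eq_one_iff.1 (Nat.eq_one_of_dvd_coprimes
    ((Nat.coprime_two_left.2 hodd).pow_left n) (hn ▸ dvd_rfl) dvd_rfl))).symm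

/-- Section 1. -/
theorem threePointStmt : ThreePointStmt.{u} := fun G _ _ H h =>
  { centre := fun _ _ _ hT hp => centre_of h hT hp
    swap := fun _ _ _ _ hT hle hpq => swap_of h hT (hle.trans inf_le_left) (hle.trans inf_le_right) hpq
    third := fun _ _ _ _ hT hle hpq hrk s _ hs hS hSle => by
      haveI := Fact.mk hs
      exact third_of h hT (hle.trans inf_le_left) (hle.trans inf_le_right) hpq hrk hS hSle
    comm := fun _ _ _ hT hp hrk _ _ hs ht hsp htp hsY htY => comm_of h hT hp hrk hs ht hsp htp hsY htY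
    regular := fun _ _ _ hT hp hrk => regular_of h hT hp hrk }

end Cfsg.Agent.SEMain.Commute
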