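import Cfsg.Agent.Lib.SEMain.Commute.AssemblyFinish
import Cfsg.Agent.Lib.SEMain.Commute.Finish
import Cfsg.Agent.Lib.SEMain.Commute.FinishBridge
import Cfsg.Agent.Lib.SEMain.Commute.Transfer

/-!
# `WeakComm` from the three-point facts and the shape of `[D, u]`

The transfer lemma and the commuting finish are proved, so these two parts suffice.
-/

set_option autoImplicit false

namespace Cfsg.Agent.SEMain.Commute

universe u

/-- The commuting finish in the shape of the assembly. -/
theorem finishStmt : FinishStmt.{u} := fun _ _ _ _ hy _ hab _ _ h =>
  h.invComm hy.setting hy.two hy.weak hab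

/-- `WeakComm` from the two remaining parts of its proof. -/
theorem weakComm_of_shape (h1 : ThreePointStmt.{u}) (h3 : TAbelianStmt.{u}) : WeakComm.{u} :=
  weakComm_of_finish h1 h3 finishStmt

end Cfsg.Agent.SEMain.Commute
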